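import Cfsg.Agent.M9.Base

/-!
# Case (a): the structure of `C(s) = K . S3`
-/

set_option autoImplicit false
set_option linter.unusedSectionVars false

namespace Cfsg.Agent.M9

open Subgroup Cfsg.Agent.Local Cfsg.Agent.FT Cfsg.Agent.Char Cfsg.Agent.Z6
open scoped Pointwise

universe u

variable {G : Type u} [Group G] [Finite G]

/-- `C₀ = Q ∩ Q ^ t`. -/
abbrev CZ (K : Subgroup G) (t : G) : Subgroup G := QQ K ⊓ QQ (MulAut.conj t • K)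

/-- `R = O₂(C(A))`. -/
abbrev RA (s z : G) : Subgroup G := QQ (𝐂[s] ⊓ 𝐂[z])

theorem pQ (K : Subgroup G) : IsPGroup 2 (QQ K) := isPGroup_core 2 K

theorem QQ_conj (n : G) (K : Subgroup G) : QQ (MulAut.conj n • K) = MulAut.conj n • QQ K :=
  core_conj _ n K

theorem pg_zp {P : Subgroup G} (pP : IsPGroup 2 P) {x : G} (hx : x ∈ P) : IsPGroup 2 (zpowers x) :=
  pP.to_le (zpowers_le.2 hx)

theorem pg_mul {a b : G} (ha : IsPGroup 2 (zpowers a)) (hb : IsPGroup 2 (zpowers b))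
    (c : a * b = b * a) : IsPGroup 2 (zpowers (a * b)) :=
  pg_zp (isPGroup_sup ha hb (zpowers_le.2 (norm_zp c)))
    (mul_mem (mem_sup_left (mem_zpowers a)) (mem_sup_right (mem_zpowers b)))

theorem cm_mul {R W : Subgroup G} (hW : W ≤ R) {a b : G} (ha : ∀ r ∈ R, ⟬a, r⟭ ∈ W)
    (hb : ∀ r ∈ R, ⟬b, r⟭ ∈ W) : ∀ r ∈ R, ⟬a * b, r⟭ ∈ W := fun r hr => by
  have := mul_mem (mul_mem (ha _ (hW (hb r hr))) (hb r hr)) (ha r hr)
  rwa [show ⟬a, ⟬b, r⟭⟭ * ⟬b, r⟭ * ⟬a, r⟭ = ⟬a * b, r⟭ by group] at this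

theorem cm_pow {R W : Subgroup G} (hW : W ≤ R) {a : G} (ha : ∀ r ∈ R, ⟬a, r⟭ ∈ W) (n : ℕ) :
    ∀ r ∈ R, ⟬a ^ n, r⟭ ∈ W := by
  induction n with
  | zero => intro r _; simpa using one_mem W
  | succ n ih => rw [pow_succ]; exact cm_mul hW ih ha

theorem s3_cent {X K : Subgroup G} {g z x : G} (h : S3 X K g z) (hx : x ∈ X) (e : ⟬x, z⟭ ∈ K) :
    x ∈ K ∨ x * z ∈ K := by
  have key : ∀ x ∈ K ⊔ zpowers g, ⟬x, z⟭ ∈ K → x ∈ K := fun x hx e => by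
    obtain ⟨k, hk, a, ha, rfl⟩ := (mem_sup_of_right_le_normalizer (zpowers_le.2 h.xn)).1 hx
    have h1 : ⟬a, z⟭ ∈ K := by
      have := mul_mem (mul_mem (inv_mem hk) e) (h.nrm.conj_mem h.tm hk)
      rwa [show k⁻¹ * ⟬k * a, z⟭ * (z * k * z⁻¹) = ⟬a, z⟭ by group] at this
    have n := not_mem_of h.ord h.ndvd
    rcases mem_zpowers_three h.ord ha with rfl | rfl | rfl
    · simpa using hk
    · rw [show ⟬a, z⟭ = a * (z * a * z⁻¹)⁻¹ by group, h.inv, inv_inv, sq_of h.ord] at h1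
      exact absurd (inv_mem_iff.1 h1) n
    · rw [show ⟬g⁻¹, z⟭ = g⁻¹ * (z * g * z⁻¹) by group, h.inv, ← mul_inv_rev, sq_of h.ord,
        inv_inv] at h1
      exact absurd h1 n
  by_cases h1 : x ∈ K ⊔ zpowers g
  · exact Or.inl (key x h1 e)
  · refine Or.inr (key _ (mul_mem_two h.L_le h.card_L hx h.tm h1
      (inv_not_mem h.ord h.xn h.ndvd h.inv)) ?_)
    rwa [show ⟬x * z, z⟭ = ⟬x, z⟭ by group]

namespace CA

variable {g h s t z ρ : G} {K : Subgroup G} (H : CA g h s t z ρ K)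
include H

theorem KX : K ≤ 𝐂[s] := H.s3.nrm.le

theorem QX : QQ K ⊴ 𝐂[s] := core_nrm_of_nrm _ H.s3.nrm

theorem cs {x : G} (hx : x ∈ QQ K) : s * x = x * s := mem_cent1.1 (H.QX.le hx)

theorem sK : s ∈ K := zpowers_le.1 (H.s3.le_O' (zpowers_le.2 (mem_cent1.2 rfl))
  (ndvd_of_pg2 (pg_zp2 H.ss)) (norm_zp H.sg))

theorem zK : z ∉ K := H.s3.t_not

theorem szK : s * z ∉ K := fun e => H.zK ((mul_mem_cancel_left H.sK).1 e)

theorem nrm_s {L : Subgroup G} (hs : s ∈ L) (hL : L ≤ 𝐂[s]) : zpowers s ⊴ L :=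
  ⟨zpowers_le.2 hs, fun _ hx => norm_zp (mem_cent1.1 (hL hx))⟩

theorem fpK {y : G} (hy : y ∈ 𝐂[s]) (o : orderOf y = 3) : Fp y K (zpowers s) :=
  H.fp o (H.s3.nrm.norm hy) (norm_zp (mem_cent1.1 hy)) (H.nrm_s H.sK H.KX) H.s3.ndvd
    (mem_zpowers s) H.s1 (mem_cent1.1 hy).symm

theorem fpQ {y : G} (hy : y ∈ 𝐂[s]) (o : orderOf y = 3) : Fp y (QQ K) (zpowers s) :=
  (H.fpK hy o).fpQ (pg_zp2 H.ss)

theorem fq : Fp g (QQ K) (zpowers s) := H.fpQ H.gX H.og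

theorem two {P : Subgroup G} (hP : P ≤ K) (pP : IsPGroup 2 P) : P ≤ QQ K :=
  (H.fpK H.gX H.og).two (pg_zp2 H.ss) hP pP

theorem two' {x : G} (hx : x ∈ K) (px : IsPGroup 2 (zpowers x)) : x ∈ QQ K :=
  H.two (zpowers_le.2 hx) px (mem_zpowers x)

theorem sQ : s ∈ QQ K := H.two' H.sK (pg_zp2 H.ss)

theorem zQ : z ∉ QQ K := fun e => H.zK (core_le _ _ e)

theorem szQ : s * z ∉ QQ K := fun e => H.szK (core_le _ _ e)

theorem half {P : Subgroup G} (hP : P ≤ 𝐂[s]) (pP : IsPGroup 2 P) :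
    Nat.card P ≤ 2 * Nat.card ↥(QQ K ⊓ P) :=
  (H.s3.two hP (ndvd_of_pg2 pP)).trans (Nat.mul_le_mul_left _ (card_le_of_le
    (le_inf (H.two inf_le_left (pP.to_le inf_le_right)) inf_le_right)))

theorem le_Q {P : Subgroup G} {y : G} (hP : P ≤ 𝐂[s]) (pP : IsPGroup 2 P) (hy : y ∈ 𝐂[s])
    (o : orderOf y = 3) (hn : y ∈ 𝐍(P)) : P ≤ QQ K :=
  H.two (H.s3.le_O hP (ndvd_of_pg2 pP) hy o hn) pP

theorem odd {o x : G} (ho : o ∈ K) (h2 : ¬ 2 ∣ orderOf o) (hx : x ∈ QQ K) : o * x = x * o := by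
  rcases (mem_zp2 H.ss).1 ((H.fpK H.gX H.og).odd (pg_zp2 H.ss) ho h2 hx) with e | e
  · rwa [mul_inv_eq_one, mul_inv_eq_iff_eq_mul] at e
  · have e1 : o * x * o⁻¹ = s * x := by rw [← e]; group
    have e2 : o * s * o⁻¹ = s := by rw [← mem_cent1.1 (H.KX ho), mul_inv_cancel_right]
    have c : Commute (o ^ 2) x := by
      have : o ^ 2 * x * (o ^ 2)⁻¹ = x := by
        calc _ = o * (o * x * o⁻¹) * o⁻¹ := by rw [sq]; group
          _ = (o * s * o⁻¹) * (o * x * o⁻¹) := by rw [e1, ← conj_mul, e1]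
          _ = x := by rw [e1, e2, ← mul_assoc, H.ss, one_mul]
      exact mul_inv_eq_iff_eq_mul.1 this
    obtain ⟨m, hm⟩ := exists_pow_eq_self_of_coprime (x := o) (cop2 h2).symm
    simpa [hm] using (c.pow_left m).eq

theorem dec {k : G} (hk : k ∈ K) : ∃ o ∈ K, ∃ x ∈ QQ K, ¬ 2 ∣ orderOf o ∧ k = o * x :=
  ⟨_, constt_mem {2}ᶜ hk, _, H.two' (constt_mem {2} hk)
    (piElt_singleton_iff_isPGroup.1 (piElt_constt _ _)),
    (piNat_compl_singleton_iff Nat.prime_two).1 (piElt_constt _ _),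
    (constt_compl_mul_constt _ _).symm⟩

theorem sylQ : IsSylowIn 2 (QQ K) K :=
  isSylowIn_of_maximal (core_le _ _) (pQ K) fun _ pP h1 h2 => le_antisymm (H.two h2 pP) h1

theorem card2 {n : ℕ} (hn : 2 ^ n ∣ Nat.card 𝐂[s]) : 2 ^ n ∣ 2 * Nat.card (QQ K) := by
  have h1 := H.sylQ.not_dvd
  rw [H.s3.card, ← card_mul_relIndex H.sylQ.le] at hn
  refine Nat.Coprime.dvd_of_dvd_mul_left (m := 3 * (QQ K).relIndex K)
    (Nat.Coprime.pow_left _ (cop2 (by omega)).symm) ?_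
  convert hn using 1; ring

theorem nrmA {x : G} (hx : x ∈ 𝐂[s]) (e : x * z * x⁻¹ = z ∨ x * z * x⁻¹ = s * z) :
    x ∈ K ∨ x * z ∈ K :=
  s3_cent H.s3 hx (by
    rcases e with e | e <;> rw [e]
    · simpa using one_mem K
    · simpa using H.sK)

theorem KQ (ho : ∀ o ∈ K, ¬ 2 ∣ orderOf o → o * z = z * o → o = 1) : QQ K = K := by
  have F := (H.fpK H.gX H.og).up (zpowers_le.2 H.sQ) (core_nrm _ _) (H.QX.norm H.gX)
  have := F.lower H.zz H.zg (H.s3.nrm.norm H.zX) (H.QX.norm H.zX) (D := QQ K) fun d hd e => by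
    obtain ⟨o, oK, x, hx, o2, rfl⟩ := H.dec hd
    have h1 : ⟬z, o⟭ ∈ QQ K := by
      have := mul_mem e (inv_mem (H.QX.conj_mem (H.KX oK) (mul_mem (H.QX.conj_mem H.zX hx)
        (inv_mem hx))))
      have e1 : ⟬z, o * x⟭ = ⟬z, o⟭ * (o * (z * x * z⁻¹ * x⁻¹) * o⁻¹) := by group
      rwa [e1, mul_inv_cancel_right] at this
    have p1 : PiElt {2}ᶜ o := (piNat_compl_singleton_iff Nat.prime_two).2 o2
    have c := H.odd oK o2 h1
    have h2 : ⟬z, o⟭ = 1 := PiElt.eq_one ((piGrp_core _ _).piElt h1)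
      (((piElt_conj_iff z).2 p1).mul p1.inv (by
        calc _ = o⁻¹ * (o * ⟬z, o⟭) := by group
          _ = _ := by rw [c]; group))
    rw [mul_inv_eq_one, mul_inv_eq_iff_eq_mul] at h2
    rw [ho o oK o2 h2.symm, one_mul]
    exact hx
  exact eq_of_le_of_card_ge (core_le _ _) (Nat.le_of_mul_le_mul_right this Nat.card_pos)

theorem three {a b : G} (ha : a ∈ 𝐂[s]) (hb : b ∈ 𝐂[s]) (aa : a * a = 1) (bb : b * b = 1)
    (h1 : a ∉ K) (h2 : b ∉ K) (h3 : a * b ∉ K) : 3 ∣ orderOf (a * b) := by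
  have m := fun {a : G} => mem_of_three (a := a) H.og H.s3.xn H.s3.ndvd
  by_contra hn
  exact h3 (m (mul_mem_two H.s3.L_le H.s3.card_L ha hb (fun e => h1 (m e (ndvd_ord_of_sq aa)))
    fun e => h2 (m e (ndvd_ord_of_sq bb))) hn)

theorem tt_smul (L : Subgroup G) : MulAut.conj t • MulAut.conj t • L = L := by
  rw [conj_smul_conj_smul, H.tt, map_one, one_smul]

theorem CZ_swap : CZ (MulAut.conj t • K) t = CZ K t := by
  rw [CZ, H.tt_smul, inf_comm]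

theorem CA_swap : 𝐂[s * z] ⊓ 𝐂[z] = 𝐂[s] ⊓ 𝐂[z] := by
  ext x
  simp only [mem_inf, mem_cent1, and_congr_left_iff]
  intro e
  rw [mul_assoc, e, ← mul_assoc, ← mul_assoc, mul_left_inj]

theorem RA_swap : RA (s * z) z = RA s z := by rw [RA, H.CA_swap]

theorem tC : t ∈ 𝐍(CZ K t) := by
  rw [mem_normalizer_iff_conj_smul_eq, smul_inf, ← QQ_conj, ← QQ_conj, H.tt_smul, inf_comm]

theorem tA : t ∈ 𝐍(𝐂[s] ⊓ 𝐂[z]) := by
  rw [mem_normalizer_iff_conj_smul_eq, smul_inf, ← cent_conj, ← cent_conj, H.tst, H.tzt, H.CA_swap]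

theorem tR : t ∈ 𝐍(RA s z) := norm_le_norm_core _ _ H.tA

theorem Cs {c : G} (hc : c ∈ CZ K t) : c * s = s * c := (H.cs hc.1).symm

theorem Cz {c : G} (hc : c ∈ CZ K t) : c * z = z * c := by
  have := H.swap.cs hc.2
  rw [mul_assoc, ← mul_assoc c, H.Cs hc, mul_assoc, mul_right_inj] at this
  exact this.symm

theorem sC : s ∉ CZ K t := fun e => H.swap.szQ (by rw [mul_assoc, H.zz, mul_one]; exact e.2)

theorem zC : z ∉ CZ K t := fun e => H.zQ e.1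

theorem szC : s * z ∉ CZ K t := fun e => H.szQ e.1

theorem R_eq : RA s z = (QQ K ⊓ 𝐂[z]) ⊔ zpowers z ∧
    ∀ P ≤ 𝐂[s] ⊓ 𝐂[z], IsPGroup 2 P → P ≤ RA s z := by
  have n : z ∈ 𝐍(QQ K ⊓ 𝐂[z]) :=
    inf_normalizer_le_normalizer_inf ⟨H.QX.norm H.zX, le_normalizer (mem_cent1.2 rfl)⟩
  have p := isPGroup_sup ((pQ K).to_le (inf_le_left : QQ K ⊓ 𝐂[z] ≤ _)) (pg_zp2 H.zz) (zpowers_le.2 n)
  have l : (QQ K ⊓ 𝐂[z]) ⊔ zpowers z ≤ 𝐂[s] ⊓ 𝐂[z] :=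
    sup_le (inf_le_inf_right _ H.QX.le) (zpowers_le.2 ⟨H.zX, mem_cent1.2 rfl⟩)
  have k : ∀ P ≤ 𝐂[s] ⊓ 𝐂[z], IsPGroup 2 P → P ≤ (QQ K ⊓ 𝐂[z]) ⊔ zpowers z := by
    intro P hP pP x hx
    have c := mem_cent1.1 (hP hx).2
    rcases H.nrmA (hP hx).1 (Or.inl (by rw [← c, mul_inv_cancel_right])) with e | e
    · exact mem_sup_left ⟨H.two' e (pg_zp pP hx), (hP hx).2⟩
    · exact (mul_mem_cancel_right (mem_sup_right (mem_zpowers z))).1 (mem_sup_left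
        ⟨H.two' e (pg_mul (pg_zp pP hx) (pg_zp2 H.zz) c.symm), mul_mem (hP hx).2 (mem_cent1.2 rfl)⟩)
  have e : RA s z = (QQ K ⊓ 𝐂[z]) ⊔ zpowers z := le_antisymm (k _ (core_le _ _) (pQ _))
    (le_core_of_isPGroup (nrm_of_conj_mem l fun a ha x hx => k _
      (conj_smul_le_of_mem_normalizer (le_normalizer ha) l) (isPGroup_conj_smul p a)
      (conj_mem_conj_smul a hx)) p)
  exact ⟨e, e ▸ k⟩

theorem R_two {P : Subgroup G} (hP : P ≤ 𝐂[s] ⊓ 𝐂[z]) (pP : IsPGroup 2 P) : P ≤ RA s z :=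
  H.R_eq.2 P hP pP

theorem R_two' {x : G} (cs : x * s = s * x) (cz : x * z = z * x) (px : IsPGroup 2 (zpowers x)) :
    x ∈ RA s z :=
  H.R_two (zpowers_le.2 ⟨mem_cent1.2 cs.symm, mem_cent1.2 cz.symm⟩) px (mem_zpowers x)

theorem sR : s ∈ RA s z := H.R_two' rfl H.sz (pg_zp2 H.ss)

theorem zR : z ∈ RA s z := H.R_two' H.sz.symm rfl (pg_zp2 H.zz)

theorem QR {c : G} (hc : c ∈ QQ K) (e : c * z = z * c) : c ∈ RA s z :=
  H.R_two' (H.cs hc).symm e (pg_zp (pQ K) hc)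

theorem CR : CZ K t ≤ RA s z := fun _ hc => H.QR hc.1 (H.Cz hc)

theorem Rs {x : G} (hx : x ∈ RA s z) : s * x = x * s := mem_cent1.1 (core_le _ _ hx).1

theorem Rz {x : G} (hx : x ∈ RA s z) : z * x = x * z := mem_cent1.1 (core_le _ _ hx).2

theorem mem_R0 {x : G} (hx : x ∈ RA s z) : x ∈ QQ K ∨ x * z ∈ QQ K :=
  (H.nrmA (core_le _ _ hx).1 (Or.inl (by rw [← H.Rz hx, mul_inv_cancel_right]))).imp
    (fun e => H.two' e (pg_zp (pQ _) hx)) fun e => H.two' e (pg_zp (pQ _) (mul_mem hx H.zR))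

theorem mem_C {c : G} (hc : c ∈ QQ K) (e : c * z = z * c) : c ∈ CZ K t ∨ s * c ∈ CZ K t :=
  (H.swap.mem_R0 (H.RA_swap.ge (H.QR hc e))).imp (fun a => ⟨hc, a⟩) fun a => ⟨mul_mem H.sQ hc, by
    have := mul_mem H.swap.sQ a
    rwa [e, mul_assoc, ← mul_assoc z, H.zz, one_mul] at this⟩

theorem mem_R {x : G} : x ∈ RA s z ↔
    ∃ c ∈ CZ K t, x = c ∨ x = s * c ∨ x = z * c ∨ x = s * z * c := by
  constructor
  · intro hx
    have c := H.Rz hx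
    rcases H.mem_R0 hx with e | e
    · rcases H.mem_C e c.symm with e | e
      · exact ⟨_, e, Or.inl rfl⟩
      · exact ⟨_, e, Or.inr (Or.inl (by rw [← mul_assoc, H.ss, one_mul]))⟩
    · rcases H.mem_C e (by rw [← mul_assoc, c]) with e | e
      · exact ⟨_, e, Or.inr (Or.inr (Or.inl (by rw [← c, ← mul_assoc, H.zz, one_mul])))⟩
      · exact ⟨_, e, Or.inr (Or.inr (Or.inr (by
          rw [← c, ← mul_assoc s, ← mul_assoc, H.szsz, one_mul])))⟩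
  · rintro ⟨c, hc, rfl | rfl | rfl | rfl⟩
    exacts [H.CR hc, mul_mem H.sR (H.CR hc), mul_mem H.zR (H.CR hc),
      mul_mem (mul_mem H.sR H.zR) (H.CR hc)]

theorem C_eq : QQ K ⊓ 𝐂[z] = CZ K t ⊔ zpowers s :=
  le_antisymm (fun c hc => (H.mem_C hc.1 (mem_cent1.1 hc.2).symm).elim mem_sup_left fun e =>
    (mul_mem_cancel_left (mem_sup_right (mem_zpowers s))).1 (mem_sup_left e))
    (sup_le (fun _ hc => ⟨hc.1, mem_cent1.2 (H.Cz hc).symm⟩)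
      (zpowers_le.2 ⟨H.sQ, mem_cent1.2 H.sz.symm⟩))

theorem card_C : Nat.card ↥(QQ K ⊓ 𝐂[z]) = 2 * Nat.card (CZ K t) := by
  rw [H.C_eq]
  exact PG.card_sup_zpowers (p := 2) (mem_normalizer_of_conj_mem fun c hc => by
    rwa [← H.Cs hc, mul_inv_cancel_right]) H.sC (by rw [sq, H.ss]; exact one_mem _)

theorem card_R : Nat.card (RA s z) = 4 * Nat.card (CZ K t) := by
  rw [H.R_eq.1, PG.card_sup_zpowers (p := 2) (inf_normalizer_le_normalizer_inf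
    ⟨H.QX.norm H.zX, le_normalizer (mem_cent1.2 rfl)⟩) (fun e => H.zQ e.1)
    (by rw [sq, H.zz]; exact one_mem _), H.card_C]
  ring

theorem th {c : G} (hc : c ∈ QQ K) : tr g c = 1 ∨ tr g c = s := (mem_zp2 H.ss).1 (H.fq.prod hc)

theorem zc1 (c : G) : z * (g * c * g⁻¹) * z⁻¹ = g⁻¹ * (z * c * z⁻¹) * g := by
  calc _ = (z * g * z⁻¹) * (z * c * z⁻¹) * (z * g * z⁻¹)⁻¹ := by group
    _ = _ := by rw [H.zg, inv_inv]

theorem zc2 (c : G) : z * (g⁻¹ * c * g) * z⁻¹ = g * (z * c * z⁻¹) * g⁻¹ := by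
  calc _ = (z * g * z⁻¹)⁻¹ * (z * c * z⁻¹) * (z * g * z⁻¹) := by group
    _ = _ := by rw [H.zg, inv_inv]

theorem phi {c ε : G} (hc : c ∈ QQ K) (hε : ε = 1 ∨ ε = s) (e : z * c * z⁻¹ = c * ε) :
    c * (g * c * g⁻¹) = g * c * g⁻¹ * c * ε := by
  have ce : ∀ x ∈ 𝐂[s], ε * x = x * ε := fun x hx => by
    rcases hε with rfl | rfl
    · simp
    · exact mem_cent1.1 hx
  have ee : ε * ε = 1 := by
    rcases hε with rfl | rfl
    exacts [one_mul _, H.ss]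
  have h1 : z * tr g c * z⁻¹ = tr g c := by
    rcases H.th hc with e | e <;> rw [e]
    · group
    · rw [← H.sz, mul_inv_cancel_right]
  have m1 := H.QX.le (H.fq.cj hc)
  have m2 := H.QX.le (H.fq.cj' hc)
  rw [tr, ← conj_mul, ← conj_mul, H.zc1, H.zc2, e, mul_assoc (c * ε), mul_assoc c (g * c * g⁻¹),
    mul_assoc c, mul_right_inj, show g⁻¹ * (c * ε) * g = g⁻¹ * c * (ε * g) by group, ce g H.gX,
    show g * (c * ε) * g⁻¹ = g * c * (ε * g⁻¹) by group, ce _ (inv_mem H.gX), ← mul_assoc (g⁻¹ * c),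
    ← mul_assoc (g * c), ← mul_assoc ε, ← mul_assoc ε, ce _ m2, mul_assoc _ ε ε, ee, mul_one,
    ← mul_assoc] at h1
  have h2 := congrArg (fun x => g⁻¹ * x * g) h1
  have h3 := conj2 H.fq.inv.ord c
  rw [inv_inv] at h3
  beta_reduce at h2
  rw [show g⁻¹ * (g * c * g⁻¹ * (g⁻¹ * c * g)) * g = c * (g⁻¹ * (g⁻¹ * c * g) * g) by group,
    show g⁻¹ * (g⁻¹ * c * g * (g * c * g⁻¹) * ε) * g =
      g⁻¹ * (g⁻¹ * c * g) * g * c * (g⁻¹ * (ε * g)) by group, h3, ce g H.gX,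
    inv_mul_cancel_left] at h2
  exact h2.symm

theorem phi0 {c : G} (hc : c ∈ QQ K) (e : c * z = z * c) :
    c * (g * c * g⁻¹) = g * c * g⁻¹ * c := by
  simpa using H.phi hc (Or.inl rfl) (by rw [← e]; group)

theorem phi1 {c : G} (hc : c ∈ QQ K) (e : c * z * c⁻¹ = s * z) : ⟬c, g * c * g⁻¹⟭ = s := by
  have e1 : z * c * z⁻¹ = c * s := by
    calc _ = s * (s * z) * c * z⁻¹ := by rw [← mul_assoc s s, H.ss, one_mul]
      _ = s * c := by rw [← e]; group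
      _ = _ := H.cs hc
  rw [H.phi hc (Or.inr rfl) e1, mul_assoc _ s, H.cs (inv_mem hc), ← mul_assoc, mul_assoc _ s,
    H.cs (inv_mem (H.fq.cj hc))]
  group

theorem uz {c : G} (hc : c ∈ QQ K) (cc : c * c = 1) (e : c * z = z * c) :
    g * c * g⁻¹ * z * (g * c * g⁻¹)⁻¹ = z * c * tr g c := by
  have h1 := H.zc1 c
  rw [← e, mul_inv_cancel_right] at h1
  have h2 : z * tr g c = tr g c * z := by
    rcases H.th hc with e | e <;> rw [e]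
    · simp
    · exact H.sz.symm
  calc _ = c * (c * (g * c * g⁻¹) * (z * (g * c * g⁻¹) * z⁻¹)) * z := by
        rw [conj_inv' g c, inv_self cc, ← mul_assoc c, ← mul_assoc c, cc]; group
    _ = c * (z * tr g c) := by rw [h1, h2, tr]; group
    _ = _ := by rw [← e]; group

theorem uc {c d : G} (hc : c ∈ QQ K) (hd : d ∈ QQ K) (e : c * d = d * c) :
    ⟬c, g * d * g⁻¹⟭ = 1 ∨ ⟬c, g * d * g⁻¹⟭ = s :=
  (mem_zp2 H.ss).1 (H.fq.cc hc hd (by rw [e]; simp))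

theorem cen {ε x : G} (hε : ε = 1 ∨ ε = s) (hx : x ∈ QQ K) : ε * x = x * ε := by
  rcases hε with rfl | rfl
  · simp
  · exact H.cs hx

theorem sqe {ε : G} (hε : ε = 1 ∨ ε = s) : ε * ε = 1 := by
  rcases hε with rfl | rfl
  exacts [one_mul _, H.ss]

theorem hsym {c d : G} (hc : c ∈ QQ K) (hd : d ∈ QQ K) (ec : c * z = z * c) (ed : d * z = z * d)
    (e : c * d = d * c) : ⟬c, g * d * g⁻¹⟭ = ⟬d, g * c * g⁻¹⟭ := by
  have h1 := H.phi0 (mul_mem hc hd) (by rw [mul_assoc, ed, ← mul_assoc, ec, mul_assoc])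
  have h2 := H.phi0 hc ec
  have h3 := H.phi0 hd ed
  have a := H.uc hc hd e
  have b := H.uc hd hc e.symm
  have m1 := H.fq.cj hc
  rw [← conj_mul] at h1
  generalize g * c * g⁻¹ = c1 at *
  generalize g * d * g⁻¹ = d1 at *
  have a' := inv_self (H.sqe a)
  have e1 : c * d * (c1 * d1) = ⟬d, c1⟭ * (c * c1 * (d * d1)) := by
    calc _ = c * ⟬d, c1⟭ * (c1 * d * d1) := by group
      _ = _ := by rw [← H.cen b hc]; group
  have e2 : c1 * d1 * (c * d) = ⟬c, d1⟭ * (c * c1 * (d * d1)) := by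
    calc _ = c1 * ⟬c, d1⟭⁻¹ * (c * d1 * d) := by group
      _ = _ := by rw [a', ← H.cen a m1, h2, h3]; group
  rw [e1, e2, mul_left_inj] at h1
  exact h1.symm

theorem polar {c d : G} (hc : c ∈ QQ K) (hd : d ∈ QQ K) (ec : c * z = z * c) (ed : d * z = z * d)
    (e : c * d = d * c) : tr g (c * d) = tr g c * tr g d * ⟬c, g * d * g⁻¹⟭ := by
  rw [H.hsym hc hd ec ed e]
  have b := H.uc hd hc e.symm
  have m1 := H.fq.cj hc
  have m2 := H.fq.cj' hc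
  have n1 := H.fq.cj hd
  have n2 := H.fq.cj' hd
  have tc := H.th hc
  have bg : g * ⟬d, g * c * g⁻¹⟭ * g⁻¹ = ⟬d, g * c * g⁻¹⟭ := by
    rcases b with b | b <;> rw [b]
    · group
    · rw [← H.sg, mul_inv_cancel_right]
  have h1 : ⟬g * d * g⁻¹, g⁻¹ * c * g⟭ = ⟬d, g * c * g⁻¹⟭ := by
    rw [← bg, ← conj2 H.og]; group
  have h2 : g⁻¹ * c * g = (c * (g * c * g⁻¹))⁻¹ * tr g c := by rw [tr]; group
  have h4 : g * (c * d) * g⁻¹ = g * c * g⁻¹ * (g * d * g⁻¹) := by group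
  have h5 : g⁻¹ * (c * d) * g = g⁻¹ * c * g * (g⁻¹ * d * g) := by group
  have h6 : tr g d = d * (g * d * g⁻¹) * (g⁻¹ * d * g) := rfl
  have h7 : tr g c = c * (g * c * g⁻¹) * (g⁻¹ * c * g) := rfl
  rw [tr, h4, h5, h6]
  generalize tr g c = θ at *
  generalize g * c * g⁻¹ = c1 at *
  generalize g * d * g⁻¹ = d1 at *
  generalize g⁻¹ * c * g = c2 at *
  generalize g⁻¹ * d * g = d2 at *
  set ε := ⟬d, c1⟭ with hε
  have i := inv_self (H.sqe b)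
  have k1 : d * c1 = c1 * d * ε := by rw [← H.cen b (mul_mem m1 hd), hε]; group
  have k2 : d1 * c2 = c2 * d1 * ε := by rw [← H.cen b (mul_mem m2 n1), ← h1]; group
  have k3 : d * c2 = c2 * d * ε := by
    have k : d * (c * c1) = c * c1 * d * ε := by rw [← mul_assoc, ← e, mul_assoc, k1]; group
    calc d * c2 = (c * c1)⁻¹ * (c * c1 * d * ε) * ε⁻¹ * (c * c1)⁻¹ * θ := by rw [h2]; group
      _ = (c * c1)⁻¹ * d * (c * c1 * ε) * (c * c1)⁻¹ * θ := by rw [← k, i]; group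
      _ = (c * c1)⁻¹ * (d * ε * θ) := by rw [← H.cen b (mul_mem hc m1)]; group
      _ = (c * c1)⁻¹ * (θ * (d * ε)) := by
          rw [H.cen tc (mul_mem hd (by rcases b with b | b <;> rw [b]; exacts [one_mem _, H.sQ]))]
      _ = _ := by rw [h2]; group
  calc _ = c * (d * c1) * (d1 * c2) * d2 := by group
    _ = c * c1 * d * (ε * c2) * d1 * (ε * d2) := by rw [k1, k2]; group
    _ = c * c1 * (d * c2) * ε * d1 * d2 * ε := by rw [H.cen b m2, H.cen b n2]; group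
    _ = c * c1 * c2 * d * (ε * ε) * d1 * d2 * ε := by rw [k3]; group
    _ = _ := by rw [H.sqe b, h7]; group

theorem zD {d : G} (e : ⟬z, d⟭ ∈ zpowers s) : d * z * d⁻¹ = z ∨ d * z * d⁻¹ = s * z := by
  have : d * z * d⁻¹ = z * ⟬z, d⟭ := by rw [H.zi, ← mul_assoc, ← mul_assoc, ← mul_assoc, H.zz]; group
  rw [this, H.sz]
  exact ((mem_zp2 H.ss).1 e).imp (fun e => by rw [e, mul_one]) fun e => by rw [e]

theorem zD' {d : G} (e : d * z * d⁻¹ = z ∨ d * z * d⁻¹ = s * z) : ⟬z, d⟭ ∈ zpowers s := by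
  have : ⟬z, d⟭ = z * (d * z * d⁻¹) := by rw [H.zi]; group
  rw [this, mem_zp2 H.ss]
  exact e.imp (fun e => by rw [e, H.zz]) fun e => by rw [e, H.sz, ← mul_assoc, H.zz, one_mul]

theorem fact {x : G} (hx : x ∈ QQ K) : ∃ d ∈ QQ K, ∃ d' ∈ QQ K,
    (d * z * d⁻¹ = z ∨ d * z * d⁻¹ = s * z) ∧ (d' * z * d'⁻¹ = z ∨ d' * z * d'⁻¹ = s * z) ∧
      x = d * (g * d' * g⁻¹) := by
  obtain ⟨d, hd, d', hd', h1, h2, e⟩ := H.fq.fact H.zz H.zg (H.QX.norm H.zX) (norm_zp H.sz) hx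
  exact ⟨d, hd, d', hd', H.zD h1, H.zD h2, e⟩

theorem triv {d : G} (hd : d ∈ QQ K) (e : d * z * d⁻¹ = z ∨ d * z * d⁻¹ = s * z)
    (e' : g * d * g⁻¹ * z * (g * d * g⁻¹)⁻¹ = z ∨ g * d * g⁻¹ * z * (g * d * g⁻¹)⁻¹ = s * z) :
    d = 1 ∨ d = s :=
  (mem_zp2 H.ss).1 (H.fq.triv H.zz H.zg (norm_zp H.sz) hd (H.zD' e) (H.zD' e'))

theorem cardD {D : Subgroup G} (hD : D ≤ QQ K)
    (h : ∀ d ∈ QQ K, d ∈ D ↔ d * z * d⁻¹ = z ∨ d * z * d⁻¹ = s * z) :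
    Nat.card D * Nat.card D = 2 * Nat.card (QQ K) := by
  rw [mul_comm 2, ← card_zp2 H.ss H.s1]
  exact le_antisymm (H.fq.upper H.zz H.zg (norm_zp H.sz) hD fun d hd => H.zD' ((h d (hD hd)).1 hd))
    (H.fq.lower H.zz H.zg (H.QX.norm H.zX) (norm_zp H.sz) fun d hd e => (h d hd).2 (H.zD e))

theorem cardQ0 (hα : ∀ x ∈ QQ K, x * z * x⁻¹ ≠ s * z) :
    Nat.card (QQ K) = 2 * Nat.card (CZ K t) ^ 2 := by
  have := H.cardD (D := QQ K ⊓ 𝐂[z]) inf_le_left fun d hd =>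
    ⟨fun e => Or.inl (by rw [← mem_cent1.1 e.2, mul_inv_cancel_right]), fun e =>
      ⟨hd, mem_cent1.2 (mul_inv_eq_iff_eq_mul.1 (e.resolve_right (hα d hd))).symm⟩⟩
  rw [H.card_C] at this
  nlinarith

theorem cardQ1 {x : G} (hx : x ∈ QQ K) (e : x * z * x⁻¹ = s * z) :
    Nat.card (QQ K) = 8 * Nat.card (CZ K t) ^ 2 := by
  obtain ⟨D, -, h1, h2⟩ := H.fq.exists_cent (a := z) (norm_zp H.sz)
  have h3 : ∀ d ∈ QQ K, d ∈ D ↔ d * z * d⁻¹ = z ∨ d * z * d⁻¹ = s * z := fun d hd =>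
    (h2 d hd).trans ⟨H.zD, H.zD'⟩
  have k : ∀ d ∈ QQ K, d * z * d⁻¹ = s * z → x * d ∈ QQ K ⊓ 𝐂[z] := fun d hd e1 =>
    ⟨mul_mem hx hd, mem_cent1.2 (mul_inv_eq_iff_eq_mul.1 (by
      calc x * d * z * (x * d)⁻¹ = x * (d * z * d⁻¹) * x⁻¹ := by group
        _ = s * (x * z * x⁻¹) := by rw [e1, ← mul_assoc, ← H.cs hx]; group
        _ = z := by rw [e, ← mul_assoc, H.ss, one_mul])).symm⟩
  have l : QQ K ⊓ 𝐂[z] ≤ D := fun d hd =>
    (h3 d hd.1).2 (Or.inl (by rw [← mem_cent1.1 hd.2, mul_inv_cancel_right]))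
  have xD := (h3 x hx).2 (Or.inr e)
  have xn : x ∉ QQ K ⊓ 𝐂[z] := fun a => H.z_ne_sz (by
    rw [← e, ← mem_cent1.1 a.2, mul_inv_cancel_right])
  have h4 : D = (QQ K ⊓ 𝐂[z]) ⊔ zpowers x := le_antisymm (fun d hd => by
    rcases (h3 d (h1 hd)).1 hd with a | a
    · exact mem_sup_left ⟨h1 hd, mem_cent1.2 (mul_inv_eq_iff_eq_mul.1 a).symm⟩
    · exact (mul_mem_cancel_left (mem_sup_right (mem_zpowers x))).1 (mem_sup_left (k d (h1 hd) a)))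
    (sup_le l (zpowers_le.2 xD))
  have h5 := PG.card_sup_zpowers (p := 2) (K := QQ K ⊓ 𝐂[z]) (x := x)
    (mem_normalizer_of_conj_mem fun c hc => mem_inf.2 ⟨mul_mem (mul_mem hx hc.1) (inv_mem hx), by
      have a := mem_cent1.1 hc.2
      have e1 : z = x * (s * z) * x⁻¹ := by
        rw [← mul_assoc, ← H.cs hx, mul_assoc s, mul_assoc s, e, ← mul_assoc, H.ss, one_mul]
      refine mem_cent1.2 ?_
      rw [e1, conj_mul, conj_mul, mul_assoc s, a, ← mul_assoc s, H.cs hc.1, mul_assoc c]⟩)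
    xn (by rw [sq]; exact k x hx e)
  have := H.cardD h1 h3
  rw [h4, h5, H.card_C] at this
  nlinarith

theorem conjw {w : G} (hw : w ∈ 𝐂[s]) (h1 : w ∉ K) (ww : w * w = 1) :
    ∃ n ∈ 𝐂[s], n * z * n⁻¹ = w ∨ n * (s * z) * n⁻¹ = w := by
  obtain ⟨y, hy, o, e⟩ := H.s3.exists_inv hw h1 ww
  have n3 := H.s3.ndvd
  have S : IsSylowIn 3 (zpowers g) 𝐂[s] := ⟨zpowers_le.2 H.gX, pg3 H.og, by
    have := card_mul_relIndex (zpowers_le.2 H.gX)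
    rw [card_zp H.og, H.s3.card] at this
    omega⟩
  obtain ⟨n, hn, h2⟩ := S.exists_le_conj (pg3 o) (zpowers_le.2 hy)
  have h3 : n⁻¹ * w * n * g * (n⁻¹ * w * n)⁻¹ = g⁻¹ := by
    have e1 : n⁻¹ * w * n * (n⁻¹ * y * n) * (n⁻¹ * w * n)⁻¹ = (n⁻¹ * y * n)⁻¹ := by
      calc _ = n⁻¹ * (w * y * w⁻¹) * n := by group
        _ = _ := by rw [e]; group
    rcases mem_zpowers_three H.og (mem_conj_smul_iff.1 (h2 (mem_zpowers y))) with a | a | a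
    · exact absurd (by simpa [mul_assoc] using congrArg (fun z => n * z * n⁻¹) a) (ne_one_of o)
    · rwa [a] at e1
    · rw [a] at e1
      calc _ = (n⁻¹ * w * n * g⁻¹ * (n⁻¹ * w * n)⁻¹)⁻¹ := by group
        _ = _ := by rw [e1, inv_inv]
  have h4 : zpowers s ⊔ zpowers g = 𝐂[s] ⊓ 𝐂[g] := by
    refine eq_of_le_of_card_ge (sup_le (zpowers_le.2 ⟨mem_cent1.2 rfl, mem_cent1.2 H.sg.symm⟩)
      (zpowers_le.2 ⟨H.gX, mem_cent1.2 rfl⟩)) ?_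
    rw [card_sup_three H.og (norm_zp H.sg) (ndvd_of_pg2 (pg_zp2 H.ss)), card_zp2 H.ss H.s1]
    have a := card_dvd_of_le (inf_le_left : 𝐂[s] ⊓ 𝐂[g] ≤ _)
    have b := card_dvd_of_le (inf_le_right : 𝐂[s] ⊓ 𝐂[g] ≤ _)
    rw [H.s3.card] at a
    rw [H.cg] at b
    have := Nat.le_of_dvd (by norm_num) b
    generalize Nat.card ↥(𝐂[s] ⊓ 𝐂[g]) = m at *
    interval_cases m <;> omega
  have h5 : n⁻¹ * w * n * z ∈ zpowers s ⊔ zpowers g := h4.ge <|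
    mem_inf.2 ⟨mul_mem (mul_mem (mul_mem (inv_mem hn) hw) hn) H.zX, mem_cent1.2 (by
      calc _ = n⁻¹ * w * n * ((n⁻¹ * w * n)⁻¹ * (g⁻¹)⁻¹ * (n⁻¹ * w * n)) * z := by group
        _ = n⁻¹ * w * n * (z * g * z⁻¹) * z := by rw [← h3, H.zg]; group
        _ = _ := by group)⟩
  obtain ⟨a, ha, b, ⟨i, rfl⟩, e2⟩ :=
    (mem_sup_of_right_le_normalizer (zpowers_le.2 (norm_zp H.sg))).1 h5
  have h6 : g ^ (2 * i) * z * (g ^ (2 * i))⁻¹ = g ^ i * z := by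
    have : z * g ^ (2 * i) * z⁻¹ = g⁻¹ ^ (2 * i) := by rw [← conj_zpow, H.zg]
    calc _ = g ^ (2 * i) * (z * g ^ (2 * i) * z⁻¹)⁻¹ * z := by group
      _ = (g ^ (3 : ℕ)) ^ i * g ^ i * z := by rw [this]; group
      _ = _ := by rw [cube_of H.og]; group
  have e3 : w = n * (a * (g ^ i * z)) * n⁻¹ := by
    beta_reduce at e2
    rw [← mul_assoc a, e2, mul_assoc _ z z, H.zz]; group
  refine ⟨n * g ^ (2 * i), mul_mem hn (zpow_mem H.gX _), ?_⟩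
  rcases (mem_zp2 H.ss).1 ha with rfl | rfl
  · left; rw [e3, ← h6]; group
  · right
    rw [e3, ← h6, ← mul_assoc a, ← mul_assoc a, (Commute.zpow_right H.sg (2 * i)).eq]; group

theorem uC {c d : G} (hc : c ∈ QQ K) (hd : d ∈ QQ K) (e : c * d = d * c) :
    g * c * g⁻¹ * d * (g * c * g⁻¹)⁻¹ = ⟬d, g * c * g⁻¹⟭ * d := by
  rw [← inv_self (H.sqe (H.uc hd hc e.symm))]; group

theorem us {c : G} (hc : c ∈ QQ K) : g * c * g⁻¹ * s * (g * c * g⁻¹)⁻¹ = s := by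
  rw [← H.cs (H.fq.cj hc), mul_inv_cancel_right]

theorem uW {c : G} (hc : c ∈ QQ K) (cc : c * c = 1) (e : c * z = z * c)
    (hz : ∀ d ∈ CZ K t, c * d = d * c) {W : Subgroup G} (sW : s ∈ W) (cW : c ∈ W) (zW : z ∈ 𝐍(W)) :
    ∀ r ∈ RA s z, ⟬g * c * g⁻¹, r⟭ ∈ W := by
  have m : ∀ {ε : G}, ε = 1 ∨ ε = s → ε ∈ W := by rintro _ (rfl | rfl); exacts [one_mem _, sW]
  have h1 : ⟬g * c * g⁻¹, z⟭ ∈ W := by
    rw [H.uz hc cc e, mul_assoc z]; exact conj_mem_of_mem_normalizer zW (mul_mem cW (m (H.th hc)))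
  have h2 : ∀ d ∈ CZ K t, ⟬g * c * g⁻¹, d⟭ = 1 ∨ ⟬g * c * g⁻¹, d⟭ = s := fun d hd => by
    rw [H.uC hc hd.1 (hz d hd), mul_inv_cancel_right]; exact H.uc hd.1 hc (hz d hd).symm
  have h3 : ∀ r, s * ⟬g * c * g⁻¹, r⟭ * s⁻¹ = ⟬g * c * g⁻¹, s * r⟭ := fun r => by
    nth_rw 1 [← H.us hc]; group
  have h4 : ∀ d ∈ CZ K t, ⟬g * c * g⁻¹, z * d⟭ ∈ W := fun d hd => by
    have := mul_mem h1 (conj_mem_of_mem_normalizer zW (m (h2 d hd)))
    rwa [show ⟬g * c * g⁻¹, z⟭ * (z * ⟬g * c * g⁻¹, d⟭ * z⁻¹) = ⟬g * c * g⁻¹, z * d⟭ by group] at this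
  intro r hr
  obtain ⟨d, hd, rfl | rfl | rfl | rfl⟩ := H.mem_R.1 hr
  · exact m (h2 _ hd)
  · exact h3 d ▸ mul_mem (mul_mem sW (m (h2 d hd))) (inv_mem sW)
  · exact h4 d hd
  · rw [mul_assoc s, ← h3]; exact mul_mem (mul_mem sW (h4 d hd)) (inv_mem sW)

theorem uR {c : G} (hc : c ∈ QQ K) (cc : c * c = 1) (e : c * z = z * c)
    (hz : ∀ d ∈ CZ K t, c * d = d * c) : g * c * g⁻¹ ∈ 𝐍(RA s z) :=
  mem_normalizer_of_conj_mem fun r hr => (mul_mem_cancel_right (inv_mem hr)).1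
    (H.uW hc cc e hz H.sR (H.QR hc e) (le_normalizer H.zR) r hr)

theorem l11 {c : G} (hc : c ∈ CZ K t) (c1 : c ≠ 1) (cc : c * c = 1)
    (hz : ∀ d ∈ CZ K t, c * d = d * c) (tg : tr g c = s) (th : tr h c = s * z) :
    CZ K t = zpowers c ∧ ∃ y, orderOf y = 3 ∧ y ∈ 𝐍(RA s z) ∧ y * c = c * y := by
  have H' := H.swap
  have cz := H.Cz hc
  have cs := H.Cs hc
  have hz' : ∀ d ∈ CZ (MulAut.conj t • K) t, c * d = d * c := by rw [H.CZ_swap]; exact hz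
  have a1 := H.us hc.1
  have a2 := H.uz hc.1 cc cz
  have a3 := H.phi0 hc.1 cz
  have b1 := H'.us hc.2
  have b2 := H'.uz hc.2 cc cz
  have b3 := H'.phi0 hc.2 cz
  have n1 := H.uR hc.1 cc cz hz
  have n2 := H'.uR hc.2 cc cz hz'
  rw [H.RA_swap] at n2
  set W := zpowers s ⊔ zpowers z ⊔ zpowers c with hW
  have sW : s ∈ W := mem_sup_left (mem_sup_left (mem_zpowers s))
  have zW : z ∈ W := mem_sup_left (mem_sup_right (mem_zpowers z))
  have cW : c ∈ W := mem_sup_right (mem_zpowers c)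
  have WR : W ≤ RA s z :=
    sup_le (sup_le (zpowers_le.2 H.sR) (zpowers_le.2 H.zR)) (zpowers_le.2 (H.CR hc))
  have w1 := H.uW hc.1 cc cz hz sW cW (le_normalizer zW)
  have w2 := H'.uW hc.2 cc cz hz' (mul_mem sW zW) cW (le_normalizer zW)
  rw [H.RA_swap] at w2
  rw [tg] at a2
  rw [th] at b2
  generalize g * c * g⁻¹ = u at *
  generalize h * c * h⁻¹ = v at *
  have a3' : u * c * u⁻¹ = c := by rw [← a3, mul_inv_cancel_right]
  have b3' : v * c * v⁻¹ = c := by rw [← b3, mul_inv_cancel_right]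
  have q1 : z * c * (s * z) = s * c := by
    rw [← cz, H.sz, mul_assoc c, ← mul_assoc z, H.zz, one_mul, cs]
  rw [q1] at b2
  have b4 : v * s * v⁻¹ = z * c := by
    calc _ = v * (s * z) * v⁻¹ * (v * z * v⁻¹) := by rw [conj_mul, mul_assoc s, H.zz, mul_one]
      _ = _ := by rw [b1, b2, ← mul_assoc, mul_assoc s, ← H.sz, ← mul_assoc s, H.ss, one_mul]
  have q2 : ∀ x, v * u * x * (v * u)⁻¹ = v * (u * x * u⁻¹) * v⁻¹ := fun x => by group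
  have q3 : ∀ u x y : G, u * (x * y) * u⁻¹ = u * x * u⁻¹ * (u * y * u⁻¹) := fun u x y => by group
  obtain ⟨n, o⟩ := cyc3 (b := v * u) (x := s) (x' := z * c) (x'' := s * z) (by rw [q2, a1, b4])
    (by rw [q2, q3 u, a2, a3', mul_assoc z, cs, mul_assoc z, mul_assoc s, cc, mul_one,
      ← H.sz, b1])
    (by rw [q2, q3 u, a1, a2, mul_assoc z, cs, ← mul_assoc z, ← H.sz, ← mul_assoc s,
      ← mul_assoc s, H.ss, one_mul, q3 v, b2, b3', mul_assoc, cc, mul_one])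
    (fun e => H.zQ (((QQ K).mul_mem_cancel_right hc.1).1 (e ▸ H.sQ)))
  have yc : (v * u) ^ n * c = c * (v * u) ^ n :=
    (Commute.pow_left (Commute.mul_left b3.symm a3.symm) n).eq
  have yR := pow_mem (mul_mem n2 n1) n
  refine ⟨le_antisymm (fun d hd => ?_) (zpowers_le.2 hc), _, o, yR, yc⟩
  have n3 := ndvd_of_pg2 (pQ (𝐂[s] ⊓ 𝐂[z]))
  obtain ⟨w, hw, k, hk, e1, e2⟩ := small o yR n3 (cm_pow WR (cm_mul WR w2 w1) n) WR (H.CR hd)
  have dW : d ∈ W := by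
    rw [e2]
    rcases H.f1' o n3 (H.CR hc) hk yc e1 with e | rfl | rfl
    exacts [absurd e c1, mul_mem hw (one_mem _), mul_mem hw cW]
  obtain ⟨a, ha, b, hb, rfl⟩ := (mem_sup_of_left_le_normalizer
    (sup_le (zpowers_le.2 (norm_zp cs)) (zpowers_le.2 (norm_zp cz)))).1 dW
  have aC := (mul_mem_cancel_right (zpowers_le.2 hc hb)).1 hd
  obtain ⟨a1, h1, a2, h2, rfl⟩ := (mem_sup_of_right_le_normalizer (zpowers_le.2 (norm_zp H.sz))).1 ha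
  rcases (mem_zp2 H.ss).1 h1 with rfl | rfl <;> rcases (mem_zp2 H.zz).1 h2 with rfl | rfl
  · simpa using hb
  · exact absurd (by simpa using aC) H.zC
  · exact absurd (by simpa using aC) H.sC
  · exact absurd aC H.szC

end CA

end Cfsg.Agent.M9
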