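import Cfsg.Agent.M9.Alpha1

/-!
# Case (a), `z` is not moved to `s * z` by `O₂(K)`: the contradiction
-/

set_option autoImplicit false
set_option linter.unusedSectionVars false

namespace Cfsg.Agent.M9

open Subgroup Cfsg.Agent.Local Cfsg.Agent.FT Cfsg.Agent.Char Cfsg.Agent.Z6
open scoped Pointwise

universe u

variable {G : Type u} [Group G] [Finite G]

theorem al_half {L X : Subgroup G} (h : ∀ a ∈ X, ∀ b ∈ X, a ∉ L → b ∉ L → a * b ∈ L) :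
    Nat.card X ≤ 2 * Nat.card L := by
  by_cases h1 : X ≤ L
  · have := card_le_of_le h1
    omega
  obtain ⟨a, ha, h2⟩ := SetLike.not_le_iff_exists.1 h1
  have h3 : (X : Set G) ⊆ L ∪ (fun x => a⁻¹ * x) '' L := fun b hb => by
    by_cases h4 : b ∈ L
    exacts [.inl h4, .inr ⟨_, h a ha b hb h2 h4, by simp⟩]
  have h4 := (Set.ncard_le_ncard h3).trans (Set.ncard_union_le _ _)
  rw [Set.ncard_image_of_injective _ (mul_right_injective _)] at h4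
  change (X : Set G).ncard ≤ 2 * (L : Set G).ncard
  omega

theorem al_three {L : Subgroup G} {a b : G} (ha : a ∈ L) (hb : b ∈ L) (a1 : a ≠ 1) (b1 : b ≠ 1)
    (ab : a ≠ b) : 2 < Nat.card L :=
  (Set.two_lt_ncard_iff (s := (L : Set G))).2 ⟨1, a, b, one_mem L, ha, hb, a1.symm, b1.symm, ab⟩

theorem al_zcj {s n a : G} (hn : s * n = n * s) (ha : a ∈ zpowers s) : n * a * n⁻¹ = a := by
  obtain ⟨k, rfl⟩ := ha
  exact mul_inv_eq_iff_eq_mul.2 (Commute.zpow_left hn k).symm.eq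

theorem al_cmul {d a b k : G} (had : d * a = a * d) (h1 : ⟬a, k⟭ ∈ zpowers d) (h2 : ⟬b, k⟭ ∈ zpowers d) :
    ⟬a * b, k⟭ ∈ zpowers d := by
  rw [show ⟬a * b, k⟭ = a * ⟬b, k⟭ * a⁻¹ * ⟬a, k⟭ by group, al_zcj had h2]
  exact mul_mem h2 h1

theorem al_act {d a x : G} (dd : d * d = 1) (aa : a * a = 1) (h : ⟬a, x⟭ ∈ zpowers d) :
    x * a * x⁻¹ = a ∨ x * a * x⁻¹ = a * d := by
  have e : x * a * x⁻¹ = a * ⟬a, x⟭ := by
    rw [inv_self aa]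
    calc _ = a * a * x * a * x⁻¹ := by rw [aa, one_mul]
      _ = _ := by group
  rw [e]
  exact ((mem_zp2 dd).1 h).imp (fun e => by rw [e, mul_one]) fun e => by rw [e]

theorem al_one {a b : G} : ⟬a, b⟭ = 1 ↔ a * b = b * a := by
  rw [mul_inv_eq_one, mul_inv_eq_iff_eq_mul]

/-- The elements central of order at most two modulo `s`. -/
def ZZ (s : G) (Q : Subgroup G) (hQ : Q ≤ 𝐂[s]) : Subgroup G where
  carrier := {x | x ∈ Q ∧ (∀ k ∈ Q, ⟬x, k⟭ ∈ zpowers s) ∧ x * x ∈ zpowers s}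
  one_mem' := ⟨one_mem _, fun k _ => by simp, by simp⟩
  mul_mem' := by
    rintro x y ⟨h1, h2, h3⟩ ⟨h4, h5, h6⟩
    refine ⟨mul_mem h1 h4, fun k hk => al_cmul (mem_cent1.1 (hQ h1)) (h2 k hk) (h5 k hk), ?_⟩
    rw [show x * y * (x * y) = x * x * (x⁻¹ * ⟬y, x⟭ * x⁻¹⁻¹) * (y * y) by group,
      al_zcj (mem_cent1.1 (hQ (inv_mem h1))) (h5 x h1)]
    exact mul_mem (mul_mem h3 (h5 x h1)) h6
  inv_mem' := by
    rintro x ⟨h1, h2, h3⟩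
    refine ⟨inv_mem h1, fun k hk => ?_, by rw [← mul_inv_rev]; exact inv_mem h3⟩
    rw [show ⟬x⁻¹, k⟭ = x⁻¹ * ⟬x, k⟭⁻¹ * x⁻¹⁻¹ by group,
      al_zcj (mem_cent1.1 (hQ (inv_mem h1))) (inv_mem (h2 k hk))]
    exact inv_mem (h2 k hk)

theorem ZZ_norm {s n : G} {Q : Subgroup G} (hQ : Q ⊴ 𝐂[s]) (hn : n ∈ 𝐂[s]) : n ∈ 𝐍(ZZ s Q hQ.le) := by
  refine mem_normalizer_of_conj_mem fun x ⟨h1, h2, h3⟩ => ⟨hQ.conj_mem hn h1, fun k hk => ?_, ?_⟩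
  · rw [show ⟬n * x * n⁻¹, k⟭ = n * ⟬x, n⁻¹ * k * n⟭ * n⁻¹ by group,
      al_zcj (mem_cent1.1 hn) (h2 _ (hQ.inv_conj_mem hn hk))]
    exact h2 _ (hQ.inv_conj_mem hn hk)
  · rwa [conj_mul, al_zcj (mem_cent1.1 hn) h3]

theorem CA.al_actK {g h s t z ρ : G} {K : Subgroup G} (H : CA g h s t z ρ K) {a k : G} (ha : a ∈ QQ K)
    (aa : a * a = 1) (hc : ∀ k ∈ QQ K, ⟬a, k⟭ ∈ zpowers s) (hk : k ∈ K) :
    k * a * k⁻¹ = a ∨ k * a * k⁻¹ = a * s := by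
  obtain ⟨o, ho, x, hx, h1, rfl⟩ := H.dec hk
  rw [show o * x * a * (o * x)⁻¹ = o * (x * a * x⁻¹) * o⁻¹ by group,
    H.odd ho h1 (mul_mem (mul_mem hx ha) (inv_mem hx)), mul_inv_cancel_right]
  exact al_act H.ss aa (hc x hx)

namespace AL

variable {g h s t z ρ : G} {K : Subgroup G} {q : ℕ} (H : AL g h s t z ρ K q)
include H

theorem tr1 {c : G} (hc : EE K t c) : tr g c = 1 := (H.th hc.mem.1).resolve_right (H.step1 hc)

theorem hE {c d : G} (hc : EE K t c) (hd : EE K t d) : c * (g * d * g⁻¹) = g * d * g⁻¹ * c := by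
  have := H.polar hc.mem.1 hd.mem.1 (H.Cz hc.mem) (H.Cz hd.mem) (hc.cm d hd.mem)
  rw [H.tr1 hc, H.tr1 hd, H.tr1 (hc.mul hd), one_mul, one_mul] at this
  exact al_one.1 this.symm

theorem uz1 {c : G} (hc : EE K t c) : g * c * g⁻¹ * z * (g * c * g⁻¹)⁻¹ = z * c := by
  rw [H.uz' hc, H.tr1 hc, mul_one]

theorem us' {c : G} (hc : EE K t c) : h * c * h⁻¹ * s * (h * c * h⁻¹)⁻¹ = s * c := by
  have hc' := H.al_EE_swap.2 hc
  calc _ = h * c * h⁻¹ * (s * z * z) * (h * c * h⁻¹)⁻¹ := by rw [mul_assoc s, H.zz, mul_one]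
    _ = _ := by rw [← conj_mul, H.swap.us hc', H.swap.uz1 hc', mul_assoc, ← mul_assoc z, H.zz, one_mul]

theorem dec' {x : G} (hx : x ∈ QQ K) :
    ∃ c ∈ CZ K t, ∃ c' ∈ CZ K t, ∃ σ, (σ = 1 ∨ σ = s) ∧ x = σ * c * (g * c' * g⁻¹) := by
  obtain ⟨d, hd, d', hd', h1, h2, rfl⟩ := H.fact hx
  obtain ⟨c, hc, h3⟩ := H.memC hd h1
  obtain ⟨c', hc', h4⟩ := H.memC hd' h2
  have e : g * (s * c') * g⁻¹ = s * (g * c' * g⁻¹) := by rw [← mul_assoc g, ← H.sg]; group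
  refine ⟨c, hc, c', hc', ?_⟩
  rcases h3 with rfl | rfl <;> rcases h4 with rfl | rfl
  · exact ⟨1, .inl rfl, by rw [one_mul]⟩
  · exact ⟨s, .inr rfl, by rw [e, ← mul_assoc, H.Cs hc]⟩
  · exact ⟨s, .inr rfl, rfl⟩
  · exact ⟨1, .inl rfl, by rw [e, ← mul_assoc, mul_assoc s, H.Cs hc, ← mul_assoc s, H.ss]⟩

theorem dx {d x : G} (hd : EE K t d) (hx : x ∈ QQ K) :
    ∃ c ∈ CZ K t, ⟬d, x⟭ = ⟬d, g * c * g⁻¹⟭ ∧ (⟬d, x⟭ = 1 ∨ ⟬d, x⟭ = s) := by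
  obtain ⟨c, hc, c', hc', σ, h1, rfl⟩ := H.dec' hx
  have h2 := H.uc hd.mem.1 hc'.1 (hd.cm c' hc')
  have h3 : d * (σ * c) = σ * c * d ∧ s * (σ * c) = σ * c * s := by
    rcases h1 with rfl | rfl
    · exact ⟨by simpa using hd.cm c hc, by simpa using (H.Cs hc).symm⟩
    · exact ⟨by rw [← mul_assoc, H.Cs hd.mem, mul_assoc, hd.cm c hc, mul_assoc],
        by rw [mul_assoc, H.Cs hc]⟩
  have h4 : ⟬d, σ * c * (g * c' * g⁻¹)⟭ = ⟬d, g * c' * g⁻¹⟭ := by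
    rw [← al_zcj h3.2 ((mem_zp2 H.ss).2 h2), ← mul_assoc d, h3.1]; group
  exact ⟨c', hc', h4, h4 ▸ h2⟩

theorem TT {D : Subgroup G} (hD : D ≤ QQ K) (hz : z ∈ 𝐍(D)) :
    IsPGroup 2 (D ⊔ zpowers z : Subgroup G) ∧ Nat.card ↥(D ⊔ zpowers z) = 2 * Nat.card D ∧
      D ⊔ zpowers z ≤ 𝐂[s] :=
  ⟨IsPGroup.to_sup_of_normal_left' ((al_pg K).to_le hD) (pg2_of_sq fun v hv => by
      rcases (mem_zp2 H.zz).1 hv with rfl | rfl
      exacts [mul_one _, H.zz]) (zpowers_le.2 hz),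
    PG.card_sup_zpowers (p := 2) hz (fun e => H.al_zQ (hD e)) (by rw [sq, H.zz]; exact one_mem _),
    sup_le (hD.trans H.QX.le) (zpowers_le.2 H.zX)⟩

theorem nB {d : G} (hd : EE K t d) (d1 : d ≠ 1) (hZ : ∀ x ∈ QQ K, d * x = x * d) :
    h * d * h⁻¹ ∈ 𝐍(QQ K) ∧ ∀ x ∈ QQ (MulAut.conj t • K), d * x = x * d := by
  have hd' := H.al_EE_swap.2 hd
  have H' := H.conj (h * d * h⁻¹)
  have uz := H.swap.uz1 hd'
  have ud := H.swap.hE hd' hd'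
  have uu := al_sq h hd.sq
  rw [H.us' hd] at H'
  generalize hu : h * d * h⁻¹ = u at H' uz ud uu
  have zn := H.QX.norm H.zX
  obtain ⟨pT, cT, hT⟩ := H.TT le_rfl zn
  have dz := H.Cz hd.mem
  have hT' : QQ K ⊔ zpowers z ≤ 𝐂[s * d] := sup_le (fun x hx => mem_cent1.2 (by
    rw [mul_assoc, hZ x hx, ← mul_assoc, H.al_Qs hx, mul_assoc])) (zpowers_le.2 (mem_cent1.2 (by
    rw [mul_assoc, dz, ← mul_assoc, H.sz, mul_assoc])))
  have h1 : QQ (MulAut.conj u • K) ≤ QQ K ⊔ zpowers z := by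
    have := H'.half hT' pT
    rw [cT, ← al_card K u] at this
    exact inf_eq_left.1 (eq_of_le_of_card_ge inf_le_left (by omega))
  have mT : ∀ x ∈ QQ K ⊔ zpowers z, x ∉ QQ K → x * z ∈ QQ K := fun x hx e =>
    H.al_sq hT pT hx (mem_sup_right (mem_zpowers z)) e H.al_zQ
  have gZ : ∀ x ∈ QQ K, g * d * g⁻¹ * x = x * (g * d * g⁻¹) := fun x hx => by
    have := al_cm g (hZ _ (H.QX.inv_conj_mem H.gX hx))
    rwa [conj3] at this
  have vQ := al_cj' u (H.al_gQ hd.mem.1)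
  have vv := al_sq u (al_sq g hd.sq)
  have vc : ∀ x ∈ QQ (MulAut.conj u • K), u * (g * d * g⁻¹) * u⁻¹ * x = x * (u * (g * d * g⁻¹) * u⁻¹) :=
    fun x hx => by
      have := al_cm u (gZ _ (al_cj.1 hx))
      rwa [conj3] at this
  have vz : u * (g * d * g⁻¹) * u⁻¹ * z * (u * (g * d * g⁻¹) * u⁻¹)⁻¹ = z * d := by
    have e1 : u⁻¹ * z * u = z * d := by rw [← uz, inv_self uu]
    calc _ = u * (g * d * g⁻¹ * (u⁻¹ * z * u) * (g * d * g⁻¹)⁻¹) * u⁻¹ := by group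
      _ = _ := by rw [e1, ← conj_mul (b := g * d * g⁻¹), H.uz1 hd, ← H.hE hd hd, mul_inv_cancel_right, mul_assoc z, hd.sq,
        mul_one, uz]
  generalize u * (g * d * g⁻¹) * u⁻¹ = v at vQ vv vc vz
  have ns : ∀ σ ∈ zpowers s, v * z * v⁻¹ ≠ σ * z := fun σ hσ e => by
    rw [vz, ← dz, mul_left_inj] at e
    rcases (mem_zp2 H.ss).1 hσ with rfl | rfl
    exacts [d1 e, H.sC (e ▸ hd.mem)]
  have h2 : v ∈ QQ K := by
    by_contra e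
    have h3 := H.star2 (hT (h1 vQ)) (fun e' => e (H.al_inv e' vv)) vv (h1.trans hT)
      (fun x hx => mem_cent1.2 (vc x hx)) (al_pg _)
    rw [al_card, H.cardQ] at h3
    have h4 : ∀ c ∈ CZ K t, c = 1 ∨ c = d := fun c hc => by
      by_contra! e'
      have := al_three hc hd.mem e'.1 d1 e'.2
      rw [H.cq] at this
      nlinarith
    have h5 : ∀ x ∈ QQ K, x * x = 1 := fun x hx => by
      obtain ⟨c, hc, c', hc', σ, h6, rfl⟩ := H.dec' hx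
      have h7 : ∀ c ∈ CZ K t, c * c = 1 ∧ ∀ x ∈ QQ K, c * x = x * c := fun c hc => by
        rcases h4 c hc with rfl | rfl
        exacts [⟨mul_one _, by simp⟩, ⟨hd.sq, hZ⟩]
      have h8 := H.al_gQ hc'.1
      have h9 : σ * σ = 1 ∧ σ ∈ QQ K ∧ σ * (g * c' * g⁻¹) = g * c' * g⁻¹ * σ := by
        rcases h6 with rfl | rfl
        exacts [⟨mul_one _, one_mem _, by simp⟩, ⟨H.ss, H.sQ, H.al_Qs h8⟩]
      have h10 := al_sq g (h7 c' hc').1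
      generalize g * c' * g⁻¹ = w at h8 h9 h10
      calc _ = σ * (c * (w * σ)) * c * w := by group
        _ = σ * σ * w * (c * c) * w := by rw [(h7 c hc).2 _ (mul_mem h8 h9.2.1), ← h9.2.2]; group
        _ = 1 := by rw [h9.1, (h7 c hc).1, one_mul, mul_one, h10]
    have h6 := h5 _ (mT v (h1 vQ) e)
    exact ns 1 (one_mem _) (by rw [al_comm vv H.zz h6, one_mul, mul_inv_cancel_right])
  have h3 := (H.fpQ H.gX H.og).idx2 h2 (D := QQ K ⊓ QQ (MulAut.conj u • K)) inf_le_left (by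
    rw [← al_card K u]; exact H.half (h1.trans hT) (al_pg _)) fun x hx => by
      rw [al_one.2 (vc x hx.2)]; exact one_mem _
  have h4 : QQ (MulAut.conj u • K) ≤ QQ K := fun x hx => by
    by_contra e
    have h5 := mT x (h1 hx) e
    refine ns _ (h3 _ (inv_mem h5)) ?_
    have h6 : z = (x * z)⁻¹ * x := by rw [mul_inv_rev, H.zi]; group
    generalize x * z = k at h6
    rw [h6]
    calc _ = v * k⁻¹ * v⁻¹ * (v * x * v⁻¹) := by group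
      _ = _ := by rw [vc x hx]; group
  have h5 : u ∈ 𝐍(QQ K) := mem_normalizer_of_conj_mem fun x hx => h4 (al_cj' u hx)
  refine ⟨h5, fun x hx => ?_⟩
  obtain ⟨c, hc, h6, -⟩ := H.swap.dx hd' hx
  rw [H.CZ_swap] at hc
  have cd := (hd.cm c hc).symm
  rw [← al_one, h6, ← H.swap.hsym hc.2 hd.mem.2 (H.Cz hc) dz cd, hu]
  refine (hu ▸ H.swap.uc hc.2 hd.mem.2 cd).resolve_right fun e => H.al_szQ ?_
  rw [← e, show ⟬c, u⟭ = c * (u * c⁻¹ * u⁻¹) by group]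
  exact mul_mem hc.1 (conj_mem_of_mem_normalizer h5 (inv_mem hc.1))

theorem caseB {d : G} (hd : EE K t d) (d1 : d ≠ 1) (hZ : ∀ x ∈ QQ K, d * x = x * d) : False := by
  obtain ⟨h1, h2⟩ := H.nB hd d1 hZ
  have hd' := H.al_EE_swap.2 hd
  have nb : ∀ {a : G} {L : Subgroup G}, a ∈ L → a ≠ 1 → L ≠ ⊥ := fun h1 h2 e => h2 (mem_bot.1 (e ▸ h1))
  exact H.mtrick (nb hd.mem.1 d1) (ndvd_of_pg2 (al_pg K)) (nb hd.mem.2 d1) (ndvd_of_pg2 (al_pg _))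
    (H.QX.norm H.gX) (H.swap.QX.norm H.swap.gX) d1 (H.tr1 hd) (H.swap.tr1 hd') (le_normalizer hd.mem.1) h1
    (le_normalizer hd.mem.2) (H.swap.nB hd' d1 h2).1

theorem dS {d x : G} (hd : EE K t d) (hx : x ∈ QQ K) (e : d * x ≠ x * d) : IsConj s d := by
  obtain ⟨-, -, -, h1⟩ := H.dx hd hx
  have h2 := (al_act H.ss hd.sq ((mem_zp2 H.ss).2 h1)).resolve_left fun e' =>
    e (mul_inv_eq_iff_eq_mul.1 e').symm
  exact (isConj_iff.2 ⟨_, H.us' hd⟩).trans (isConj_iff.2 ⟨x, h2.trans (H.Cs hd.mem)⟩).symm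

theorem sQd {d x g' h' t' z' ρ' : G} {K' : Subgroup G} (hd : EE K t d) (hx : x ∈ QQ K)
    (e : d * x ≠ x * d) (H' : AL g' h' d t' z' ρ' K' q) :
    s ∈ QQ K' ∧ ∀ k ∈ QQ K', ⟬s, k⟭ ∈ zpowers d := by
  obtain ⟨c, hc, h1, -⟩ := H.dx hd hx
  have q3 : 2 < q := by
    rw [← H.cq]
    refine al_three hc hd.mem (fun e' => e (al_one.1 ?_)) H'.s1 fun e' => e (al_one.1 ?_)
    · rw [h1, e']; group
    · rw [h1, e']; exact al_one.2 (H.hE hd hd)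
  have k : ∀ a ∈ QQ K, a ∉ QQ K ⊓ 𝐂[d] → d * a * d⁻¹ = s * a := fun a ha h2 => by
    obtain ⟨-, -, -, h3 | h3⟩ := H.dx hd ha
    · exact absurd ⟨ha, mem_cent1.2 (al_one.1 h3)⟩ h2
    · rw [← h3]; group
  have h2 : Nat.card (QQ K) ≤ 2 * Nat.card ↥(QQ K ⊓ 𝐂[d]) := al_half fun a ha b hb h3 h4 =>
    ⟨mul_mem ha hb, mem_cent1.2 (mul_inv_eq_iff_eq_mul.1 (by
      rw [← conj_mul, k a ha h3, k b hb h4, H.al_Qs ha, mul_assoc, ← mul_assoc s, H.ss, one_mul]))⟩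
  have zd : z ∈ 𝐂[d] := mem_cent1.2 (H.Cz hd.mem)
  obtain ⟨pT, cT, hT⟩ := H.TT (D := QQ K ⊓ 𝐂[d]) inf_le_left (mem_normalizer_of_conj_mem fun y hy =>
    ⟨H.QX.conj_mem H.zX hy.1, (𝐂[d]).mul_mem ((𝐂[d]).mul_mem zd hy.2) (inv_mem zd)⟩)
  have hT' : QQ K ⊓ 𝐂[d] ⊔ zpowers z ≤ 𝐂[d] := sup_le inf_le_right (zpowers_le.2 zd)
  rw [H.cardQ, ← cT] at h2
  have h3 : s ∈ QQ K' := H'.al_inv (by
    by_contra e'
    have := H'.star2 (mem_cent1.2 (H.Cs hd.mem)) e' H.ss hT' hT pT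
    nlinarith) H.ss
  exact ⟨h3, (H'.fpQ H'.gX H'.og).idx2 h3 inf_le_left (H'.cardQ ▸ h2.trans (H'.half hT' pT)) fun y hy => by
    rw [al_one.2 (mem_cent1.1 (hT hy.2))]; exact one_mem _⟩

theorem inS {d x : G} (hd : EE K t d) (dS : IsConj s d) (hE : ∀ e, EE K t e → e = 1 ∨ e = d)
    (hx : x ∈ QQ K) (xx : x * x = 1) (hc : ∀ k ∈ QQ K, ⟬x, k⟭ ∈ zpowers s) : x = 1 ∨ IsConj s x := by
  have sZ : s ∈ ZZ s (QQ K) H.QX.le := ⟨H.sQ, fun k hk => by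
    rw [al_one.2 (H.al_Qs hk)]; exact one_mem _, by rw [H.ss]; exact one_mem _⟩
  have F := (H.fpQ H.gX H.og).sub (K' := ZZ s (QQ K) H.QX.le) (zpowers_le.2 sZ) (fun _ h => h.1)
    (ZZ_norm H.QX H.gX)
  obtain ⟨f, hf, f', hf', h1, h2, rfl⟩ := F.fact H.zz H.zg (ZZ_norm H.QX H.zX)
    (mem_normalizer_of_conj_mem fun a ha => by rwa [al_zcj H.sz ha])
    (k := x) ⟨hx, hc, by rw [xx]; exact one_mem _⟩
  have k0 : ∀ a ∈ CZ K t, a ∈ zpowers s → a = 1 := fun a h1 h2 =>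
    ((mem_zp2 H.ss).1 h2).resolve_right fun e => H.sC (e ▸ h1)
  have k1 : ∀ c ∈ CZ K t, c ∈ ZZ s (QQ K) H.QX.le → c = 1 ∨ c = d := fun c h1 h2 =>
    hE c ⟨h1, k0 _ (mul_mem h1 h1) h2.2.2, fun a ha => al_one.1 (k0 _ (mul_mem (mul_mem (mul_mem h1 ha)
      (inv_mem h1)) (inv_mem ha)) (h2.2.1 a ha.1))⟩
  have k : ∀ f ∈ ZZ s (QQ K) H.QX.le, ⟬z, f⟭ ∈ zpowers s →
      ∃ σ ∈ zpowers s, ∃ a ∈ QQ K, (a = 1 ∨ a = d) ∧ f = σ * a := fun f hf h1 => by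
    obtain ⟨c, hc, rfl | rfl⟩ := H.memC hf.1 (H.sz ▸ al_act H.ss H.zz h1)
    · exact ⟨1, one_mem _, f, hc.1, k1 f hc hf, (one_mul f).symm⟩
    · exact ⟨s, mem_zpowers s, c, hc.1, k1 c hc ((mul_mem_cancel_left sZ).1 hf), rfl⟩
  obtain ⟨σ, hσ, a, aQ, ha, rfl⟩ := k f hf h1
  obtain ⟨τ, hτ, b, -, hb, rfl⟩ := k f' hf' h2
  have e : σ * a * (g * (τ * b) * g⁻¹) = σ * τ * (a * (g * b * g⁻¹)) := by
    calc _ = σ * (a * (g * τ * g⁻¹) * a⁻¹) * (a * (g * b * g⁻¹)) := by group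
      _ = _ := by rw [al_zcj H.sg hτ, al_zcj (H.al_Qs aQ) hτ]
  have k2 : ∀ n, s * n = n * s → IsConj s (σ * τ * (n * d * n⁻¹)) := fun n hn => by
    rw [← al_zcj hn (mul_mem hσ hτ), conj_mul]
    refine IsConj.trans ?_ (al_isConj _ n)
    rcases (mem_zp2 H.ss).1 (mul_mem hσ hτ) with e | e <;> rw [e]
    exacts [by rwa [one_mul], isConj_iff.2 ⟨_, H.us' hd⟩]
  rw [e]
  rcases ha with rfl | rfl <;> rcases hb with rfl | rfl
  · rw [mul_one g, mul_inv_cancel, mul_one, mul_one]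
    exact ((mem_zp2 H.ss).1 (mul_mem hσ hτ)).imp id fun e => by rw [e]
  · exact .inr (by simpa using k2 g H.sg)
  · exact .inr (by simpa using k2 1 (by simp))
  · refine .inr ?_
    have h3 := H.tr1 hd
    rw [tr, mul_eq_one_iff_eq_inv, show (g⁻¹ * b * g)⁻¹ = g⁻¹ * b⁻¹ * g⁻¹⁻¹ by group, inv_self hd.sq] at h3
    rw [h3]
    exact k2 g⁻¹ (Commute.inv_right H.sg).eq

theorem caseA (hA : ∀ d, EE K t d → d ≠ 1 → ∃ x ∈ QQ K, d * x ≠ x * d) : False := by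
  obtain ⟨d, hd, d1⟩ := H.exists_E
  have hd' := H.al_EE_swap.2 hd
  obtain ⟨x, hx, e⟩ := hA d hd d1
  obtain ⟨x', hx', e'⟩ : ∃ x ∈ QQ (MulAut.conj t • K), d * x ≠ x * d := by
    obtain ⟨x, hx, e⟩ := hA (t⁻¹ * d * t) ⟨inv_conj_mem_of_mem_normalizer H.tC hd.mem, by
      simpa using al_sq t⁻¹ hd.sq, fun c hc => by
        simpa [mul_assoc] using al_cm t⁻¹ (hd.cm _ (conj_mem_of_mem_normalizer H.tC hc))⟩
      (fun e => d1 (by simpa [mul_assoc, inv_mul_eq_iff_eq_mul] using e))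
    exact ⟨_, al_cj' t hx, fun e' => e (by simpa [mul_assoc] using al_cm t⁻¹ e')⟩
  have dS := H.dS hd hx e
  obtain ⟨n, hn⟩ := isConj_iff.1 dS
  have H' := H.conj n
  rw [hn] at H'
  obtain ⟨h1, h2⟩ := H.sQd hd hx e H'
  obtain ⟨h3, h4⟩ := H.swap.sQd hd' hx' e' H'
  have zs : z = s * (s * z) := by rw [← mul_assoc, H.ss, one_mul]
  have h5 : z ∈ QQ (MulAut.conj n • K) := zs ▸ mul_mem h1 h3
  have h6 : ∀ k ∈ QQ (MulAut.conj n • K), ⟬z, k⟭ ∈ zpowers d := fun k hk => by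
    rw [zs]; exact al_cmul (H.Cs hd.mem) (h2 k hk) (h4 k hk)
  have hE : ∀ c, EE K t c → c = 1 ∨ c = d := fun c hc => by
    by_contra! ne
    have hc' := H.al_EE_swap.2 hc
    have k : ∀ a u, a ∈ QQ (MulAut.conj n • K) → a * a = 1 →
        (∀ k ∈ QQ (MulAut.conj n • K), ⟬a, k⟭ ∈ zpowers d) → u * a * u⁻¹ = a * c →
        u ∉ MulAut.conj n • K := fun a u h1 h2 h3 h4 h5 => by
      rcases H'.al_actK h1 h2 h3 h5 with e | e <;> rw [h4] at e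
      exacts [ne.1 (by simpa using e), ne.2 (by simpa using e)]
    have c1 := H.hE hd hc
    have c2 := H.swap.hE hd' hc'
    have c3 := H.hE hc hc
    have c4 := H.swap.hE hc' hc'
    obtain ⟨m, hm⟩ := exists_three (H'.three (mem_cent1.2 c1) (mem_cent1.2 c2) (al_sq g hc.sq)
      (al_sq h hc.sq) (k z _ h5 H.zz h6 (H.uz1 hc)) (k z _ h5 H.zz h6 (H.swap.uz1 hc'))
      (k s _ h1 H.ss h2 (by
        rw [mul_inv_rev, ← mul_assoc, mul_assoc (g * c * g⁻¹), mul_assoc (g * c * g⁻¹), H.us' hc,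
          ← conj_mul, H.us hc, ← c3, mul_inv_cancel_right])))
    rcases H.four hm hc.sq hd.sq (hc.cm d hd.mem)
      ((Commute.mul_left c3.symm c4.symm).pow_left m).eq
      ((Commute.mul_left c1.symm c2.symm).pow_left m).eq with e | e | e
    exacts [ne.1 e, d1 e, ne.2 e]
  rcases H.inS hd dS hE (al_cj.1 h5) (by simpa using al_sq n⁻¹ H.zz) (fun k hk => by
    rw [show ⟬n⁻¹ * z * n, k⟭ = n⁻¹ * ⟬z, n * k * n⁻¹⟭ * n by group]
    rcases (mem_zp2 hd.sq).1 (h6 _ (al_cj' n hk)) with e | e <;> rw [e]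
    · simp
    · rw [← hn]; simp [mul_assoc]) with e | e
  · exact H.z1 (by simpa [mul_assoc, inv_mul_eq_iff_eq_mul] using e)
  · exact H.nz (e.trans (isConj_iff.2 ⟨n, by group⟩))

end AL

theorem CA.alpha_of (hp : PgH G) (ho : OneH G) {g h s t z ρ : G} {K : Subgroup G}
    (H : CA g h s t z ρ K) (hα : ∀ x ∈ QQ K, x * z * x⁻¹ ≠ s * z) : False := by
  have H' : AL g h s t z ρ K _ := ⟨H, hα, rfl, hp, ho⟩
  refine H'.caseA fun d hd d1 => ?_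
  by_contra! e
  exact H'.caseB hd d1 e

end Cfsg.Agent.M9
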