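import Cfsg.Agent.M9.ABase

/-!
# Case (a), `z` is not moved to `s * z` by `O₂(K)`: first steps
-/

set_option autoImplicit false
set_option linter.unusedSectionVars false

namespace Cfsg.Agent.M9

open Subgroup Cfsg.Agent.Local Cfsg.Agent.FT Cfsg.Agent.Char Cfsg.Agent.Z6
open scoped Pointwise

universe u

variable {G : Type u} [Group G] [Finite G]

theorem al_mul_two {L X : Subgroup G} (hL : L ≤ X) (h : Nat.card X ≤ 2 * Nat.card L) {a b : G}
    (ha : a ∈ X) (hb : b ∈ X) (h1 : a ∉ L) (h2 : b ∉ L) : a * b ∈ L := by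
  refine mul_mem_two hL (le_antisymm h ?_) ha hb h1 h2
  have h3 := card_mul_relIndex hL
  have h4 : L.relIndex X ≠ 1 := fun e => h1 (relIndex_eq_one.mp e ha)
  have h5 : L.relIndex X ≠ 0 := fun e => by rw [e, mul_zero] at h3; exact Nat.card_pos.ne h3
  rw [← h3, mul_comm]
  exact Nat.mul_le_mul_left _ (by omega)

theorem al_pg (K : Subgroup G) : IsPGroup 2 (QQ K) := isPGroup_core 2 K

theorem al_cj {K : Subgroup G} {n x : G} : x ∈ QQ (MulAut.conj n • K) ↔ n⁻¹ * x * n ∈ QQ K := by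
  rw [QQ, core_conj, Local.mem_conj_smul_iff]

theorem al_cj' {K : Subgroup G} (n : G) {x : G} (hx : x ∈ QQ K) :
    n * x * n⁻¹ ∈ QQ (MulAut.conj n • K) := al_cj.2 (by simpa [mul_assoc] using hx)

theorem al_card (K : Subgroup G) (n : G) : Nat.card (QQ (MulAut.conj n • K)) = Nat.card (QQ K) := by
  rw [QQ, core_conj, card_conj_smul]

theorem al_CZ (K : Subgroup G) (t n : G) :
    CZ (MulAut.conj n • K) (n * t * n⁻¹) = MulAut.conj n • CZ K t := by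
  ext x
  rw [Local.mem_conj_smul_iff, mem_inf, mem_inf, al_cj, al_cj, al_cj, al_cj,
    show n⁻¹ * ((n * t * n⁻¹)⁻¹ * x * (n * t * n⁻¹)) * n = t⁻¹ * (n⁻¹ * x * n) * t by group]

theorem al_comm {a b : G} (ha : a * a = 1) (hb : b * b = 1) (h : a * b * (a * b) = 1) : a * b = b * a := by
  rw [← inv_self h, mul_inv_rev, inv_self ha, inv_self hb]

theorem al_sq {a : G} (n : G) (ha : a * a = 1) : n * a * n⁻¹ * (n * a * n⁻¹) = 1 := by
  rw [conj_mul, ha]; group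

theorem al_cm {a b : G} (n : G) (h : a * b = b * a) :
    n * a * n⁻¹ * (n * b * n⁻¹) = n * b * n⁻¹ * (n * a * n⁻¹) := by rw [conj_mul, conj_mul, h]

theorem al_isConj (a n : G) : IsConj a (n * a * n⁻¹) := isConj_iff.2 ⟨n, rfl⟩

/-- The central involutions of `C₀` and `1`. -/
structure EE (K : Subgroup G) (t c : G) : Prop where
  mem : c ∈ CZ K t
  sq : c * c = 1
  cm : ∀ d ∈ CZ K t, c * d = d * c

theorem EE.mul {K : Subgroup G} {t c d : G} (hc : EE K t c) (hd : EE K t d) : EE K t (c * d) :=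
  ⟨mul_mem hc.mem hd.mem, by
    rw [mul_assoc, ← mul_assoc d, ← hc.cm d hd.mem, mul_assoc, hd.sq, mul_one, hc.sq], fun x hx => by
    rw [mul_assoc, hd.cm x hx, ← mul_assoc, hc.cm x hx, mul_assoc]⟩

/-- The statement of `pg`. -/
def PgH (G : Type u) [Group G] : Prop :=
  ∀ {s a b w : G}, (∀ M : Subgroup G, M.index ≠ 2) → s * s = 1 → a * a = 1 → b * b = 1 →
    a * b * (a * b) = w → w * w = 1 → w ≠ 1 → s * a = a * s → s * b = b * s → ¬ 32 ∣ Nat.card 𝐂[s] →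
    ¬ IsConj s a → ¬ IsConj s b → ¬ IsConj s w → IsConj s (s * a) → IsConj s (s * b) →
    (∀ r ∈ 𝐍(closure {s, a, b}), r * s * r⁻¹ = s * w → r * a * r⁻¹ ≠ a ∧ r * a * r⁻¹ ≠ a * w) → False

/-- The statement of `Hyp.one`. -/
def OneH (G : Type u) [Group G] : Prop :=
  ∀ {g h s t z ρ : G}, Hyp g h s t z ρ → (∀ x, x * s = s * x → x * z = z * x →
    IsPGroup 2 (zpowers x) → x = 1 ∨ x = s ∨ x = z ∨ x = s * z) → IsConj s z

/-- Case (a) with the assumption `α`. -/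
structure AL (g h s t z ρ : G) (K : Subgroup G) (q : ℕ) : Prop extends CA g h s t z ρ K where
  al : ∀ x ∈ QQ K, x * z * x⁻¹ ≠ s * z
  cq : Nat.card (CZ K t) = q
  hp : PgH G
  ho : OneH G

namespace CA

variable {g h s t z ρ : G} {K : Subgroup G} (H : CA g h s t z ρ K)
include H

theorem al_Qs {x : G} (hx : x ∈ QQ K) : s * x = x * s := mem_cent1.1 (H.QX.le hx)

theorem al_gQ {x : G} (hx : x ∈ QQ K) : g * x * g⁻¹ ∈ QQ K := H.QX.conj_mem H.gX hx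

theorem al_sq {P : Subgroup G} (hP : P ≤ 𝐂[s]) (pP : IsPGroup 2 P) {a b : G} (ha : a ∈ P) (hb : b ∈ P)
    (h1 : a ∉ QQ K) (h2 : b ∉ QQ K) : a * b ∈ QQ K :=
  (al_mul_two inf_le_right (H.half hP pP) ha hb (fun e => h1 e.1) fun e => h2 e.1).1

theorem al_inv {a : G} (ha : a ∈ K) (aa : a * a = 1) : a ∈ QQ K :=
  H.two (zpowers_le.2 ha) (pg2_of_sq fun v hv => by
    rcases (mem_zp2 aa).1 hv with rfl | rfl
    exacts [mul_one _, aa]) (mem_zpowers a)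

theorem al_zQ : z ∉ QQ K := fun e => H.zK (core_le _ _ e)

theorem al_szQ : s * z ∉ QQ K := fun e => H.szK (core_le _ _ e)

theorem al_uniq {g' h' t' z' ρ' : G} {K' : Subgroup G} (H' : CA g' h' s t' z' ρ' K') : K' = K :=
  H'.s3.eq_core.trans H.s3.eq_core.symm

theorem al_EE_swap {c : G} : EE (MulAut.conj t • K) t c ↔ EE K t c :=
  ⟨fun e => ⟨H.CZ_swap ▸ e.mem, e.sq, H.CZ_swap ▸ e.cm⟩,
    fun e => ⟨H.CZ_swap.symm ▸ e.mem, e.sq, H.CZ_swap.symm ▸ e.cm⟩⟩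

/-- An involution of `Q` commutes with its conjugates under an element of order three. -/
theorem al_invc {y c : G} (hy : y ∈ 𝐂[s]) (o : orderOf y = 3) (hc : c ∈ QQ K) (cc : c * c = 1) :
    c * (y * c * y⁻¹) = y * c * y⁻¹ * c := by
  have F := H.fpQ hy o
  have h1 := F.prod hc
  have h2 : y⁻¹ * c * y * (y⁻¹ * c * y) = 1 := by simpa using M9.al_sq y⁻¹ cc
  have h3 : c * (y * c * y⁻¹) = tr y c * (y⁻¹ * c * y) := by rw [tr, mul_assoc _ (y⁻¹ * c * y), h2, mul_one]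
  refine al_comm cc (M9.al_sq y cc) ?_
  rw [h3]
  rcases (mem_zp2 H.ss).1 h1 with e | e <;> rw [e]
  · simpa using h2
  · rw [mul_assoc, ← mul_assoc (y⁻¹ * c * y), ← H.al_Qs (F.cj' hc), mul_assoc, h2, mul_one, H.ss]

theorem al_R {a b : G} (ha : a ∈ RA s z) (hb : b ∈ RA s z) : ⟬a, b⟭ ∈ CZ K t := by
  have k : ∀ x ∈ RA s z, ∃ c ∈ CZ K t, ∃ α, (∀ r ∈ RA s z, α * r = r * α) ∧ x = α * c := by
    intro x hx
    have h1 : ∀ r ∈ RA s z, s * r = r * s := fun r hr => mem_cent1.1 (core_le _ _ hr).1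
    have h2 : ∀ r ∈ RA s z, z * r = r * z := fun r hr => mem_cent1.1 (core_le _ _ hr).2
    obtain ⟨c, hc, e | e | e | e⟩ := H.mem_R.1 hx
    exacts [⟨c, hc, 1, by simp, by simpa using e⟩, ⟨c, hc, s, h1, e⟩, ⟨c, hc, z, h2, e⟩,
      ⟨c, hc, s * z, fun r hr => by rw [mul_assoc, h2 r hr, ← mul_assoc, h1 r hr, mul_assoc], e⟩]
  obtain ⟨c, hc, α, h1, e1⟩ := k a ha
  obtain ⟨d, hd, β, h2, e2⟩ := k b hb
  have cR : c ∈ RA s z := H.mem_R.2 ⟨c, hc, .inl rfl⟩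
  have dR : d ∈ RA s z := H.mem_R.2 ⟨d, hd, .inl rfl⟩
  have e3 : a * b * a⁻¹ = c * b * c⁻¹ := by
    calc _ = α * (c * b * c⁻¹) * α⁻¹ := by rw [e1]; group
      _ = _ := by rw [h1 _ (mul_mem (mul_mem cR hb) (inv_mem cR)), mul_inv_cancel_right]
  have e4 : b * c⁻¹ * b⁻¹ = d * c⁻¹ * d⁻¹ := by
    calc _ = β * (d * c⁻¹ * d⁻¹) * β⁻¹ := by rw [e2]; group
      _ = _ := by rw [h2 _ (mul_mem (mul_mem dR (inv_mem cR)) (inv_mem dR)), mul_inv_cancel_right]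
  rw [e3, show c * b * c⁻¹ * b⁻¹ = c * (b * c⁻¹ * b⁻¹) by group, e4]
  exact mul_mem hc (mul_mem (mul_mem hd (inv_mem hc)) (inv_mem hd))

end CA

namespace AL

variable {g h s t z ρ : G} {K : Subgroup G} {q : ℕ} (H : AL g h s t z ρ K q)
include H

theorem conj (n : G) : AL (n * g * n⁻¹) (n * h * n⁻¹) (n * s * n⁻¹) (n * t * n⁻¹) (n * z * n⁻¹)
    (n * ρ * n⁻¹) (MulAut.conj n • K) q where
  toCA := H.toCA.conj n
  al := fun x hx e => H.al _ (al_cj.1 hx) (by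
    calc _ = n⁻¹ * (x * (n * z * n⁻¹) * x⁻¹) * n := by group
      _ = _ := by rw [e]; group)
  cq := by rw [al_CZ, card_conj_smul, H.cq]
  hp := H.hp
  ho := H.ho

theorem swap : AL h g (s * z) t z (t * ρ * t⁻¹) (MulAut.conj t • K) q := by
  have := H.conj t
  rwa [← H.hd, H.tht, H.tst, H.tzt, mul_inv_cancel_right] at this

theorem loc {a : G} (ha : IsConj s a) : ∃ g' h' t' z' ρ' K', AL g' h' a t' z' ρ' K' q := by
  obtain ⟨n, rfl⟩ := isConj_iff.1 ha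
  exact ⟨_, _, _, _, _, _, H.conj n⟩

theorem cardQ : Nat.card (QQ K) = 2 * q ^ 2 := H.cq ▸ H.cardQ0 H.al

theorem qpos : 0 < q := H.cq ▸ Nat.card_pos

theorem cz {d : G} (hd : d ∈ QQ K) (e : d * z * d⁻¹ = z ∨ d * z * d⁻¹ = s * z) : d * z = z * d :=
  mul_inv_eq_iff_eq_mul.1 (e.resolve_right (H.al d hd))

theorem star1 {w x : G} (hw : w ∈ 𝐂[s]) (h1 : w ∉ K) (ww : w * w = 1) (hx : x ∈ QQ K) :
    x * w * x⁻¹ ≠ s * w := fun e => by
  obtain ⟨n, hn, h2⟩ := H.conjw hw h1 ww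
  have h3 : n⁻¹ * s * n = s := by rw [mul_assoc, mem_cent1.1 hn]; group
  have h4 := H.QX.inv_conj_mem hn hx
  refine H.al _ h4 ?_
  rcases h2 with rfl | rfl
  · calc _ = n⁻¹ * (x * (n * z * n⁻¹) * x⁻¹) * n := by group
      _ = n⁻¹ * s * n * z := by rw [e]; group
      _ = _ := by rw [h3]
  · have h5 : n⁻¹ * x * n * (s * z) * (n⁻¹ * x * n)⁻¹ = s * (s * z) := by
      calc _ = n⁻¹ * (x * (n * (s * z) * n⁻¹) * x⁻¹) * n := by group
        _ = n⁻¹ * s * n * (s * z) := by rw [e]; group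
        _ = _ := by rw [h3]
    rwa [← mul_assoc (n⁻¹ * x * n), ← H.al_Qs h4, mul_assoc s, mul_assoc s, mul_right_inj] at h5

theorem star2 {w : G} (hw : w ∈ 𝐂[s]) (h1 : w ∉ K) (ww : w * w = 1) {P : Subgroup G} (hP : P ≤ 𝐂[s])
    (hP' : P ≤ 𝐂[w]) (pP : IsPGroup 2 P) : Nat.card P ≤ 4 * q := by
  obtain ⟨n, hn, h2⟩ := H.conjw hw h1 ww
  have h3 : MulAut.conj n⁻¹ • (QQ K ⊓ P) ≤ QQ K ⊓ 𝐂[z] := by
    rintro _ ⟨x, hx, rfl⟩
    have h4 : n⁻¹ * x * n⁻¹⁻¹ ∈ QQ K := H.QX.conj_mem (inv_mem hn) hx.1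
    refine ⟨h4, mem_cent1.2 ?_⟩
    have h5 := al_cm n⁻¹ (mem_cent1.1 (hP' hx.2))
    change z * (n⁻¹ * x * n⁻¹⁻¹) = n⁻¹ * x * n⁻¹⁻¹ * z
    generalize n⁻¹ * x * n⁻¹⁻¹ = y at h4 h5
    rcases h2 with rfl | rfl
    · simpa [mul_assoc] using h5
    · have h6 : s * z * y = y * (s * z) := by simpa [mul_assoc] using h5
      rwa [← mul_assoc y, ← H.al_Qs h4, mul_assoc, mul_assoc, mul_right_inj] at h6
  have h4 := card_le_of_le h3
  rw [card_conj_smul, H.card_C, H.cq] at h4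
  have := H.half hP pP
  omega

theorem nz : ¬ IsConj s z := fun hz => by
  obtain ⟨y, h', t', z', ρ', K', H'⟩ := H.loc hz
  have ρX : zpowers ρ ≤ 𝐂[z] := zpowers_le.2 (mem_cent1.2 H.ρz.symm)
  have pρ : IsPGroup 2 (zpowers ρ) := IsPGroup.of_card (n := 3) (by rw [Nat.card_zpowers, H.oρ]; rfl)
  have h1 : ρ * ρ ∈ QQ K' := by
    by_cases e : ρ ∈ QQ K'
    exacts [mul_mem e e, H'.al_sq ρX pρ (mem_zpowers ρ) (mem_zpowers ρ) e e]
  have sX : s ∈ 𝐂[z] := mem_cent1.2 H.sz.symm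
  have h2 : s ∈ QQ K' := H'.al_inv (by
    by_contra e
    exact H'.star1 sX e H.ss h1 (by rw [← sq, H.ρ2, H.sz])) H.ss
  have h3 : t ∈ QQ K' := by
    rw [H.t_eq, show 6 = 2 * 3 from rfl, pow_mul, sq]
    exact mul_mem (pow_mem h1 3) h2
  have h4 : ⟬s, t⟭ = z := by
    calc _ = s * (t * s * t⁻¹) := by rw [H.si]; group
      _ = z := by rw [H.tst, ← mul_assoc, H.ss, one_mul]
  have key : ∀ y ∈ 𝐂[z], orderOf y = 3 → s * (y * t * y⁻¹) ≠ y * t * y⁻¹ * s := fun y hy o e => by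
    have F := H'.fpQ hy o
    have hP : QQ K' ⊓ 𝐂[s] ≤ RA s z := H.R_two (le_inf inf_le_right (inf_le_left.trans H'.QX.le))
      ((al_pg K').to_le inf_le_left)
    have h5 := H.al_R (hP ⟨F.cj h2, mem_cent1.2 (H'.al_invc hy o h2 H.ss)⟩) (hP ⟨F.cj h3, mem_cent1.2 e⟩)
    rw [show ⟬y * s * y⁻¹, y * t * y⁻¹⟭ = y * ⟬s, t⟭ * y⁻¹ by group, h4, ← mem_cent1.1 hy,
      mul_inv_cancel_right] at h5
    exact H.al_zQ h5.1
  have F := H'.fpQ H'.gX H'.og
  have z4 : ⟬s, t⟭ ∈ zpowers z := h4 ▸ mem_zpowers z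
  have k : ∀ a : G, ⟬s, a⟭ ∈ zpowers z → s * a ≠ a * s → s * a * s⁻¹ = z * a := fun a h5 h6 => by
    rcases (mem_zp2 H.zz).1 h5 with e | e
    · exact absurd (by rwa [mul_inv_eq_one, mul_inv_eq_iff_eq_mul] at e) h6
    · rw [← e]; group
  have a0 : s * t * s⁻¹ = z * t := by rw [← h4]; group
  have a1 := k _ (F.cc h2 h3 z4) (key y H'.gX H'.og)
  have a2 := k _ (F.inv.cc h2 h3 z4) (key y⁻¹ (inv_mem H'.gX) F.inv.ord)
  rw [inv_inv] at a2
  have a3 : s * tr y t * s⁻¹ = tr y t := by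
    rcases (mem_zp2 H.zz).1 (F.prod h3) with e | e <;> rw [e]
    · group
    · rw [H.sz, mul_inv_cancel_right]
  have c2 := H'.al_Qs (F.cj h3)
  rw [tr, ← conj_mul, ← conj_mul, a0, a1, a2] at a3
  generalize y * t * y⁻¹ = u at c2 a3
  generalize y⁻¹ * t * y = v at a3
  refine H.z1 (mul_right_cancel (b := t * u * v) ?_)
  calc _ = z * t * (u * (z * z)) * v := by rw [H.zz]; group
    _ = z * t * (z * u) * (z * v) := by rw [c2]; group
    _ = _ := by rw [a3, one_mul]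

theorem exists_E : ∃ c, EE K t c ∧ c ≠ 1 := by
  have h1 : CZ K t ≠ ⊥ := fun e => H.nz (H.ho H.toHyp fun x h1 h2 h3 => by
    obtain ⟨c, hc, h4⟩ := H.mem_R.1 (H.R_two (zpowers_le.2 ⟨mem_cent1.2 h1.symm, mem_cent1.2 h2.symm⟩) h3
      (mem_zpowers x))
    rw [e, mem_bot] at hc
    simpa [hc] using h4)
  have pC : IsPGroup 2 (CZ K t) := (al_pg K).to_le inf_le_left
  have := (nontrivial_iff_ne_bot _).2 h1
  have := pC.center_nontrivial
  obtain ⟨c, hc⟩ := exists_prime_orderOf_dvd_card' (G := center (CZ K t)) 2 (by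
    obtain ⟨n, hn, e⟩ := (pC.to_subgroup (center _)).nontrivial_iff_card.1 this
    rw [e]; exact dvd_pow_self 2 hn.ne')
  rw [← orderOf_coe, ← orderOf_coe] at hc
  exact ⟨c, ⟨c.1.2, sq_of_two hc, fun d hd =>
    (congrArg Subtype.val (mem_center_iff.1 c.2 ⟨d, hd⟩)).symm⟩, ne_one_of_two hc⟩

theorem uz' {c : G} (hc : EE K t c) : g * c * g⁻¹ * z * (g * c * g⁻¹)⁻¹ = z * c * tr g c :=
  H.uz hc.mem.1 hc.sq (H.Cz hc.mem)

theorem us {c : G} (hc : EE K t c) : g * c * g⁻¹ * s * (g * c * g⁻¹)⁻¹ = s := by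
  rw [← H.al_Qs (H.al_gQ hc.mem.1), mul_inv_cancel_right]

theorem th_iff {c : G} (hc : EE K t c) : tr g c = s ↔ IsConj s (z * c) := by
  refine ⟨fun e => H.s_conj_sz.trans (isConj_iff.2 ⟨g * c * g⁻¹, ?_⟩), fun e => ?_⟩
  · rw [← conj_mul, H.us hc, H.uz' hc, e, mul_assoc z, H.Cs hc.mem, ← mul_assoc z, ← H.sz, ← mul_assoc,
      ← mul_assoc, H.ss, one_mul]
  · exact (H.th hc.mem.1).resolve_left fun e' => H.nz (e.trans (IsConj.symm
      (isConj_iff.2 ⟨g * c * g⁻¹, by rw [H.uz' hc, e', mul_one]⟩)))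

theorem th_swap {c : G} (hc : EE K t c) : tr g c = s ↔ tr h c = s * z := by
  rw [H.th_iff hc, H.swap.th_iff (H.al_EE_swap.2 hc)]
  exact ⟨H.s_conj_sz.symm.trans, H.s_conj_sz.trans⟩

theorem memC {d : G} (hd : d ∈ QQ K) (e : d * z * d⁻¹ = z ∨ d * z * d⁻¹ = s * z) :
    ∃ c ∈ CZ K t, d = c ∨ d = s * c := by
  rcases H.mem_C hd (H.cz hd e) with h1 | h1
  · exact ⟨d, h1, .inl rfl⟩
  · exact ⟨_, h1, .inr (by rw [← mul_assoc, H.ss, one_mul])⟩

theorem step1 {c : G} (hc : EE K t c) : tr g c ≠ s := fun tg => by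
  have th := (H.th_swap hc).1 tg
  have c1 : c ≠ 1 := by
    rintro rfl
    exact H.s1 (by simpa [tr] using tg.symm)
  obtain ⟨h1, y, o, yR, yc⟩ := H.l11 hc.mem c1 hc.sq hc.cm tg th
  have q2 : q = 2 := by rw [← H.cq, h1, Nat.card_zpowers, ord_two hc.sq c1]
  have cS : IsConj s c := ((H.f2 o yc.symm (ndvd_ord_of_sq hc.sq)).resolve_left c1).2
  have cs := H.Cs hc.mem
  have cz := H.Cz hc.mem
  have ww : c * s * (c * s) = 1 := by
    rw [mul_assoc, ← mul_assoc s, ← cs, mul_assoc, H.ss, mul_one, hc.sq]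
  have nw : ¬ IsConj s (c * s) := fun e => H.nz (e.trans (IsConj.symm (isConj_iff.2 ⟨h * c * h⁻¹, by
    rw [H.swap.uz' (H.al_EE_swap.2 hc), th, ← cz, H.sz, mul_assoc, ← mul_assoc z, H.zz, one_mul]⟩)))
  have gs : g * (c * s) * g⁻¹ = g * c * g⁻¹ * s := by rw [← mul_assoc, mul_assoc _ s, ← mul_assoc,
    mul_assoc _ s, show s * g⁻¹ = g⁻¹ * s from (Commute.inv_right H.sg).eq, mul_assoc (g * c)]
  have uQ := H.al_Qs (H.al_gQ hc.mem.1)
  refine H.hp (a := z) (b := g * (c * s) * g⁻¹) (w := c * s) H.h2 H.ss H.zz (al_sq g ww) ?_ ww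
    (fun e => H.sC ?_) H.sz ?_ (fun e => ?_) H.nz (fun e => nw (e.trans (al_isConj _ g).symm)) nw
    H.s_conj_sz ?_ fun r _ e => ?_
  · have e1 : g * (c * s) * g⁻¹ * z * (g * (c * s) * g⁻¹)⁻¹ = z * (c * s) := by
      calc _ = g * c * g⁻¹ * (s * z * s⁻¹) * (g * c * g⁻¹)⁻¹ := by rw [gs]; group
        _ = _ := by rw [H.sz, mul_inv_cancel_right, H.uz' hc, tg, mul_assoc]
    rw [inv_self (al_sq g ww)] at e1
    rw [mul_assoc, ← mul_assoc _ z, e1, ← mul_assoc, H.zz, one_mul]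
  · rw [eq_inv_of_mul_eq_one_right e]; exact inv_mem hc.mem
  · rw [gs, ← mul_assoc, uQ]
  · have := H.card2 (n := 5) e
    rw [H.cardQ, q2] at this
    norm_num at this
  · rw [gs, ← uQ, ← mul_assoc, H.ss, one_mul]
    exact cS.trans (al_isConj c g)
  · rw [cs, ← mul_assoc, H.ss, one_mul] at e
    have H' := H.conj r
    rw [e] at H'
    have hR : RA s z ≤ QQ (MulAut.conj r • K) := H'.le_Q (fun x hx => mem_cent1.2 (by
      obtain ⟨d, hd, h2⟩ := H.mem_R.1 hx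
      have h3 := hc.cm d hd
      rcases h2 with rfl | rfl | rfl | rfl
      · exact h3
      · rw [← mul_assoc, cs, mul_assoc, h3, mul_assoc]
      · rw [← mul_assoc, cz, mul_assoc, h3, mul_assoc]
      · rw [← mul_assoc, ← mul_assoc, cs, mul_assoc s, cz, mul_assoc, mul_assoc, h3]; group))
      (al_pg _) (mem_cent1.2 yc.symm) o yR
    refine ⟨fun e1 => H.al_zQ ?_, fun e1 => H.al_zQ ?_⟩
    · have := al_cj.1 (hR (H.mem_R.2 ⟨1, one_mem _, .inr (.inr (.inl (e1.trans (mul_one z).symm)))⟩))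
      simpa [mul_assoc] using this
    · have := al_cj.1 (hR (H.mem_R.2 ⟨c, hc.mem, .inr (.inr (.inr (e1.trans (by
        rw [cs, ← mul_assoc, H.sz]))))⟩))
      simpa [mul_assoc] using this

end AL

end Cfsg.Agent.M9
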