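import Cfsg.Agent.M9.Fp

/-!
# The `3`-local structure
-/

set_option autoImplicit false
set_option linter.unusedSectionVars false

namespace Cfsg.Agent.M9

open Subgroup Cfsg.Agent.Local Cfsg.Agent.FT Cfsg.Agent.Char Cfsg.Agent.Z6
open scoped Pointwise

universe u

variable {G : Type u} [Group G] [Finite G]

theorem card_zp2 {a : G} (aa : a * a = 1) (a1 : a ≠ 1) : Nat.card (zpowers a) = 2 := by
  rw [Nat.card_zpowers, ord_two aa a1]

theorem pg_zp2 {a : G} (aa : a * a = 1) : IsPGroup 2 (zpowers a) :=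
  pg2_of_sq fun v hv => by rcases (mem_zp2 aa).1 hv with rfl | rfl; exacts [one_mul _, aa]

theorem norm_zp {a x : G} (c : a * x = x * a) : x ∈ 𝐍(zpowers a) :=
  centralizer_le_normalizer _ (by rw [cent_zpowers]; exact mem_cent1.2 c)

theorem three_le_card {D : Subgroup G} {a b : G} (ha : a ∈ D) (hb : b ∈ D) (a1 : a ≠ 1) (b1 : b ≠ 1)
    (ab : a ≠ b) : 3 ≤ Nat.card D := by
  classical
  have := Set.ncard_le_ncard (s := {1, a, b}) (t := (D : Set G)) (by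
    rintro x (rfl | rfl | rfl); exacts [one_mem _, ha, hb])
  rwa [Set.ncard_insert_of_notMem (by simp [a1.symm, b1.symm]), Set.ncard_pair ab] at this

namespace Hyp

variable {g h s t z ρ : G} (H : Hyp g h s t z ρ)
include H

theorem cy {y : G} (hy : orderOf y = 3) : Nat.card 𝐂[y] = 18 := by
  obtain ⟨n, rfl⟩ := isConj_iff.1 (H.cls y hy)
  exact (H.conj n).cg

theorem f1 {y : G} (hy : orderOf y = 3) {D : Subgroup G} (h3 : ¬ 3 ∣ Nat.card D) (hD : D ≤ 𝐂[y]) :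
    Nat.card D ≤ 2 := by
  have := card_dvd_of_le hD
  rw [H.cy hy] at this
  exact Nat.le_of_dvd two_pos (((cop3 h3).pow_right 2).dvd_of_dvd_mul_right (n := 9) this)

theorem f2 {y x : G} (hy : orderOf y = 3) (c : x * y = y * x) (h3 : ¬ 3 ∣ orderOf x) :
    x = 1 ∨ (x * x = 1 ∧ IsConj s x) := by
  refine or_iff_not_imp_left.2 fun x1 => ?_
  have h1 := H.f1 hy (D := zpowers x) (by rwa [Nat.card_zpowers]) (zpowers_le.2 (mem_cent1.2 c.symm))
  rw [Nat.card_zpowers] at h1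
  have h2 : orderOf x = 2 := by
    have := orderOf_pos x
    have := orderOf_eq_one_iff.not.2 x1
    omega
  have xx := sq_of_two h2
  refine ⟨xx, ?_⟩
  obtain ⟨n, rfl⟩ := isConj_iff.1 (H.cls y hy)
  have H' := H.conj n
  have S : IsSylowIn 2 (zpowers (n * s * n⁻¹)) 𝐂[n * g * n⁻¹] :=
    ⟨zpowers_le.2 (mem_cent1.2 H'.sg.symm), pg_zp2 H'.ss, by
      have := card_mul_relIndex (zpowers_le.2 (mem_cent1.2 H'.sg.symm))
      rw [H'.cg, card_zp2 H'.ss H'.s1] at this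
      omega⟩
  obtain ⟨m, -, e⟩ := S.exists_le_conj (pg_zp2 xx) (zpowers_le.2 (mem_cent1.2 c.symm))
  rcases (mem_zp2 H'.ss).1 (mem_conj_smul_iff.1 (e (mem_zpowers x))) with e | e
  · exact absurd (by simpa [mul_assoc] using congrArg (fun z => m * z * m⁻¹) e) x1
  · exact isConj_iff.2 ⟨m * n, by
      calc _ = m * (n * s * n⁻¹) * m⁻¹ := by group
        _ = x := by rw [← e]; group⟩

theorem f1' {y a b : G} (hy : orderOf y = 3) {D : Subgroup G} (h3 : ¬ 3 ∣ Nat.card D) (ha : a ∈ D)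
    (hb : b ∈ D) (ca : y * a = a * y) (cb : y * b = b * y) : a = 1 ∨ b = 1 ∨ a = b := by
  by_contra hn
  push Not at hn
  have := H.f1 hy (D := D ⊓ 𝐂[y]) (fun d => h3 (d.trans (card_dvd_of_le inf_le_left))) inf_le_right
  have := three_le_card (D := D ⊓ 𝐂[y]) ⟨ha, mem_cent1.2 ca⟩ ⟨hb, mem_cent1.2 cb⟩ hn.1 hn.2.1 hn.2.2
  omega

theorem four {y a b : G} (hy : orderOf y = 3) (aa : a * a = 1) (bb : b * b = 1) (ab : a * b = b * a)
    (ca : y * a = a * y) (cb : y * b = b * y) : a = 1 ∨ b = 1 ∨ a = b :=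
  H.f1' hy (D := zpowers a ⊔ zpowers b) (ndvd_of_pg2 (isPGroup_sup (pg_zp2 aa) (pg_zp2 bb)
    (zpowers_le.2 (norm_zp ab)))) (mem_sup_left (mem_zpowers a)) (mem_sup_right (mem_zpowers b)) ca cb

theorem not27 : ¬ 27 ∣ Nat.card G := fun h27 => by
  obtain ⟨P⟩ : Nonempty (Sylow 3 G) := inferInstance
  have h1 : 27 ∣ Nat.card P := P.pow_dvd_card_of_pow_dvd_card (n := 3) h27
  have : Nontrivial P := Finite.one_lt_card_iff_nontrivial.1 (by
    have := Nat.le_of_dvd Nat.card_pos h1; omega)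
  have := P.isPGroup'.center_nontrivial
  obtain ⟨y, hy⟩ := exists_prime_orderOf_dvd_card' (G := center P) 3
    ((P.isPGroup'.to_subgroup _).card_eq_or_dvd.resolve_left Finite.one_lt_card.ne')
  have h2 : (P : Subgroup G) ≤ 𝐂[(y.1.1 : G)] := fun x hx =>
    mem_cent1.2 (congrArg Subtype.val (mem_center_iff.1 y.2 ⟨x, hx⟩)).symm
  have := h1.trans (card_dvd_of_le h2)
  rw [H.cy (by rw [orderOf_coe, orderOf_coe, hy])] at this
  omega

theorem h_not : h ∉ zpowers g := fun e => by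
  have c : s * h = h * s := by
    obtain ⟨n, rfl⟩ := e
    exact (Commute.zpow_right H.sg n).eq
  have := H.sh
  rw [c, mul_inv_cancel_right, ← sq_of H.oh] at this
  exact ne_one_of H.oh (by simpa using this)

theorem card_M : Nat.card ↥(zpowers g ⊔ zpowers h) = 9 := by
  rw [PG.card_sup_zpowers (p := 3) (norm_zp H.gh) H.h_not (by rw [cube_of H.oh]; exact one_mem _),
    card_zp H.og]

theorem pg_M : IsPGroup 3 ↥(zpowers g ⊔ zpowers h) := .of_card (n := 2) H.card_M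

theorem f30 {D : Subgroup G} (h3 : ¬ 3 ∣ Nat.card D) (hg : g ∈ 𝐍(D)) (hh : h ∈ 𝐍(D)) : D = ⊥ := by
  set M := zpowers g ⊔ zpowers h with hM
  have gM : g ∈ M := mem_sup_left (mem_zpowers g)
  have hhM : h ∈ M := mem_sup_right (mem_zpowers h)
  have ab : ∀ e ∈ M, M ≤ 𝐂[e] := fun e he => by
    have h1 : M ≤ 𝐂[g] := sup_le (zpowers_le.2 (mem_cent1.2 rfl)) (zpowers_le.2 (mem_cent1.2 H.gh))
    have h2 : M ≤ 𝐂[h] :=
      sup_le (zpowers_le.2 (mem_cent1.2 H.gh.symm)) (zpowers_le.2 (mem_cent1.2 rfl))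
    exact sup_le (zpowers_le.2 (mem_cent1.2 (mem_cent1.1 (h1 he)).symm))
      (zpowers_le.2 (mem_cent1.2 (mem_cent1.1 (h2 he)).symm))
  have h1 : D ≤ 𝐍(M) := by
    refine le_of_centralizer_le_of_rank_two Nat.prime_three hh hg H.gh.symm (cube_of H.oh) H.og
      H.h_not h3 fun e he e1 => inf_le_right.trans (nrm_two (ab e ?_) ?_).norm
    · exact (closure_le M).2 (by rintro x (rfl | rfl) <;> assumption) he
    · have eM : e ∈ M := (closure_le M).2 (by rintro x (rfl | rfl) <;> assumption) he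
      have d := orderOf_dvd_card_of_mem eM
      rw [H.card_M] at d
      obtain ⟨a, ⟨i, rfl⟩, b, ⟨j, rfl⟩, e2⟩ :=
        (mem_sup_of_right_le_normalizer (zpowers_le.2 (norm_zp H.gh))).1 eM
      have e3 : e ^ 3 = 1 := by
        rw [← e2]
        beta_reduce
        rw [Commute.mul_pow (Commute.zpow_zpow H.gh i j), ← zpow_natCast, ← zpow_natCast, ← zpow_mul,
          ← zpow_mul, mul_comm i, mul_comm j, zpow_mul, zpow_mul, zpow_natCast, zpow_natCast,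
          cube_of H.og, cube_of H.oh]
        simp
      rw [H.card_M]
      exact (H.cy (orderOf_eq_prime e3 e1)).le
  have h2 : ∀ m ∈ M, m ∈ 𝐍(D) → ∀ d ∈ D, m * d = d * m := fun m hm hn d hd => by
    have a1 : ⟬m, d⟭ ∈ D := mul_mem (conj_mem_of_mem_normalizer hn hd) (inv_mem hd)
    have a2 : ⟬m, d⟭ ∈ M := by
      simpa [mul_assoc] using mul_mem hm (conj_mem_of_mem_normalizer (h1 hd) (inv_mem hm))
    have := eq_one_of_mem_of_coprime (by rw [H.card_M]; exact (cop3 h3).pow_right 2) a1 a2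
    rwa [mul_inv_eq_one, mul_inv_eq_iff_eq_mul] at this
  rw [eq_bot_iff]
  intro d hd
  by_contra d1
  have h4 : d * d = 1 := ((H.f2 H.og (h2 g gM hg d hd).symm fun e =>
    h3 (e.trans (orderOf_dvd_card_of_mem hd))).resolve_left d1).1
  have h5 : d ∉ M := fun e => by
    have := orderOf_dvd_card_of_mem e
    rw [H.card_M, ord_two h4 d1] at this
    omega
  have h6 := PG.card_sup_zpowers (p := 2) (h1 hd) h5 (by rw [sq, h4]; exact one_mem _)
  have h7 : M ⊔ zpowers d = 𝐂[g] := eq_of_le_of_card_ge (sup_le (ab g gM)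
    (zpowers_le.2 (mem_cent1.2 (h2 g gM hg d hd)))) (by rw [h6, H.cg, H.card_M])
  have h8 : M ⊔ zpowers d ≤ 𝐂[h] := sup_le (ab h hhM) (zpowers_le.2 (mem_cent1.2 (h2 h hhM hh d hd)))
  have c := mem_cent1.1 (h8 (h7.ge (mem_cent1.2 H.sg.symm)))
  have := H.sh
  rw [← c, mul_inv_cancel_right, ← sq_of H.oh] at this
  exact ne_one_of H.oh (by simpa using this)

theorem f3 {D : Subgroup G} (h1 : D ≠ ⊥) (h3 : ¬ 3 ∣ Nat.card D) : ¬ 9 ∣ Nat.card 𝐍(D) := fun h9 => by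
  obtain ⟨P, hP, c⟩ : ∃ P : Subgroup G, P ≤ 𝐍(D) ∧ Nat.card P = 9 := by
    obtain ⟨P, c⟩ := Sylow.exists_subgroup_card_pow_prime (G := 𝐍(D)) 3 (n := 2) h9
    exact ⟨P.map (Subgroup.subtype _), map_subtype_le _, by rw [card_subtype, c]; rfl⟩
  have S : IsSylowIn 3 P ⊤ := ⟨le_top, .of_card (n := 2) c, fun d => H.not27 (by
    have := P.card_mul_index
    rw [relIndex_top_right] at d
    rw [← this, c]
    exact Nat.mul_dvd_mul_left 9 d)⟩
  obtain ⟨n, -, e⟩ := S.exists_le_conj H.pg_M le_top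
  refine h1 ((H.conj n⁻¹).f30 h3 (hP ?_) (hP ?_)) <;> rw [inv_inv]
  · exact mem_conj_smul_iff.1 (e (mem_sup_left (mem_zpowers g)))
  · exact mem_conj_smul_iff.1 (e (mem_sup_right (mem_zpowers h)))

theorem fp {y a : G} {K L : Subgroup G} (hy : orderOf y = 3) (nK : y ∈ 𝐍(K)) (nL : y ∈ 𝐍(L))
    (hL : L ⊴ K) (h3 : ¬ 3 ∣ Nat.card K) (ha : a ∈ L) (a1 : a ≠ 1) (c : y * a = a * y) :
    Fp y K L :=
  ⟨hy, nK, nL, hL, h3, fun k hk e => by
    rcases H.f1' hy h3 (hL.le ha) hk c e with e | rfl | rfl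
    exacts [absurd e a1, one_mem _, ha]⟩

/-- An element of order three normalising `P ≤ N(D)` lies in `P` if `3` divides `|P|`. -/
theorem mem_of_dvd {D P : Subgroup G} (h1 : D ≠ ⊥) (h3 : ¬ 3 ∣ Nat.card D) (hP : P ≤ 𝐍(D)) {y : G}
    (hy : orderOf y = 3) (yD : y ∈ 𝐍(D)) (yP : y ∈ 𝐍(P)) (d : 3 ∣ Nat.card P) : y ∈ P := by
  by_contra hn
  have h2 := PG.card_sup_zpowers (p := 3) yP hn (by rw [cube_of hy]; exact one_mem _)
  exact H.f3 h1 h3 (Dvd.dvd.trans (by omega) (card_dvd_of_le (sup_le hP (zpowers_le.2 yD))))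

theorem mtrick0 {D₁ D₂ P : Subgroup G} (b₁ : D₁ ≠ ⊥) (n₁ : ¬ 3 ∣ Nat.card D₁) (b₂ : D₂ ≠ ⊥)
    (n₂ : ¬ 3 ∣ Nat.card D₂) (hh : h ∈ 𝐍(D₂)) (hg : g ∈ 𝐍(D₁)) (gP : g ∈ 𝐍(P)) (hP : h ∈ 𝐍(P))
    (a₁ : P ≤ 𝐍(D₁)) (a₂ : P ≤ 𝐍(D₂)) : P = ⊥ := by
  by_cases d : 3 ∣ Nat.card P
  · exact absurd (H.f30 n₁ hg (a₁ (H.mem_of_dvd b₂ n₂ a₂ H.oh hh hP d))) b₁
  · exact H.f30 d gP hP

theorem mtrick {D₁ D₂ : Subgroup G} (b₁ : D₁ ≠ ⊥) (n₁ : ¬ 3 ∣ Nat.card D₁) (b₂ : D₂ ≠ ⊥)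
    (n₂ : ¬ 3 ∣ Nat.card D₂) (hg : g ∈ 𝐍(D₁)) (hh : h ∈ 𝐍(D₂)) {d : G} (d1 : d ≠ 1)
    (tg : tr g d = 1) (th : tr h d = 1) (a₁ : d ∈ 𝐍(D₁)) (a₂ : h * d * h⁻¹ ∈ 𝐍(D₁))
    (c₁ : d ∈ 𝐍(D₂)) (c₂ : g * d * g⁻¹ ∈ 𝐍(D₂)) : False := by
  set P := closure {d, g * d * g⁻¹, h * d * h⁻¹, g * (h * d * h⁻¹) * g⁻¹} with hP
  have m1 : d ∈ P := subset_closure (by simp)
  have m2 : g * d * g⁻¹ ∈ P := subset_closure (by simp)
  have m3 : h * d * h⁻¹ ∈ P := subset_closure (by simp)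
  have m4 : g * (h * d * h⁻¹) * g⁻¹ ∈ P := subset_closure (by simp)
  have e : g * (h * d * h⁻¹) * g⁻¹ = h * (g * d * g⁻¹) * h⁻¹ := by
    calc _ = (g * h) * d * (g * h)⁻¹ := by group
      _ = _ := by rw [H.gh]; group
  have k : ∀ {y x : G}, orderOf y = 3 → tr y x = 1 →
      y * (y * x * y⁻¹) * y⁻¹ = (x * (y * x * y⁻¹))⁻¹ := fun o e => by
    rw [conj2 o]; exact eq_inv_of_mul_eq_one_right e
  have t1 : tr g (h * d * h⁻¹) = 1 := by
    have := tr_conj h g d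
    rwa [← H.gh, mul_inv_cancel_right, tg, mul_one, mul_inv_cancel] at this
  have t2 : tr h (g * d * g⁻¹) = 1 := by
    have := tr_conj g h d
    rwa [H.gh, mul_inv_cancel_right, th, mul_one, mul_inv_cancel] at this
  have nrm : ∀ y, (∀ x ∈ ({d, g * d * g⁻¹, h * d * h⁻¹, g * (h * d * h⁻¹) * g⁻¹} : Set G),
      y * x * y⁻¹ ∈ P) → y ∈ 𝐍(P) := fun y hy => mem_normalizer_of_conj_mem fun x hx =>
    (closure_le (P.comap (MulAut.conj y).toMonoidHom)).2 hy hx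
  have := H.mtrick0 (P := P) b₁ n₁ b₂ n₂ hh hg (nrm g ?_) (nrm h ?_) ((closure_le _).2 ?_)
    ((closure_le _).2 ?_)
  · exact d1 (mem_bot.1 (this ▸ m1))
  · rintro x (rfl | rfl | rfl | rfl)
    · exact m2
    · rw [k H.og tg]; exact inv_mem (mul_mem m1 m2)
    · exact m4
    · rw [k H.og t1]; exact inv_mem (mul_mem m3 m4)
  · rintro x (rfl | rfl | rfl | rfl)
    · exact m3
    · exact e ▸ m4
    · rw [k H.oh th]; exact inv_mem (mul_mem m1 m3)
    · rw [e, k H.oh t2]; exact inv_mem (mul_mem m2 (e ▸ m4))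
  · rintro x (rfl | rfl | rfl | rfl)
    exacts [a₁, mul_mem (mul_mem hg a₁) (inv_mem hg), a₂, mul_mem (mul_mem hg a₂) (inv_mem hg)]
  · rintro x (rfl | rfl | rfl | rfl)
    exacts [c₁, c₂, mul_mem (mul_mem hh c₁) (inv_mem hh), e ▸ mul_mem (mul_mem hh c₂) (inv_mem hh)]

end Hyp

end Cfsg.Agent.M9
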