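import Cfsg.Agent.M9.BetaB

/-!
# Case (β): `C(A) = A`
-/

set_option autoImplicit false
set_option linter.unusedSectionVars false

namespace Cfsg.Agent.M9

open Subgroup Cfsg.Agent.Local Cfsg.Agent.FT Cfsg.Agent.Char Cfsg.Agent.Z6
open scoped Pointwise

universe u

variable {G : Type u} [Group G] [Finite G]

theorem card_M12 : Nat.card Spor.M12 = 95040 :=
  (Nat.card_congr ((Spor.M12.equivMapOfInjective Mat.eM.toMonoidHom Mat.eM.injective).trans
    (MulEquiv.subgroupCongr Mat.cl12_eq.symm)).toEquiv).trans Mat.card_cl12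

theorem Hyp.no_four {g h s t z ρ : G} (H : Hyp g h s t z ρ) {X : Type*} [Group X] (e : G ≃* X)
    {y a b : X} (y3 : y ^ 3 = 1) (y1 : y ≠ 1) (aa : a * a = 1) (bb : b * b = 1) (ab : a * b = b * a)
    (ca : y * a = a * y) (cb : y * b = b * y) : a = 1 ∨ b = 1 ∨ a = b := by
  have := H.four (y := e.symm y) (a := e.symm a) (b := e.symm b)
    (by rw [MulEquiv.orderOf_eq]; exact orderOf_eq_prime y3 y1)
    (by rw [← map_mul, aa, map_one]) (by rw [← map_mul, bb, map_one])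
    (by rw [← map_mul, ab, map_mul]) (by rw [← map_mul, ca, map_mul]) (by rw [← map_mul, cb, map_mul])
  simpa using this

theorem Hyp.not_A8 {g h s t z ρ : G} (H : Hyp g h s t z ρ) (e : G ≃* alternatingGroup (Fin 8)) :
    False := by
  have := H.no_four e (y := ⟨Equiv.swap 0 1 * Equiv.swap 1 2, by simp [Equiv.Perm.mem_alternatingGroup]⟩)
    (a := ⟨Equiv.swap 3 4 * Equiv.swap 5 6, by simp [Equiv.Perm.mem_alternatingGroup]⟩)
    (b := ⟨Equiv.swap 3 5 * Equiv.swap 4 6, by simp [Equiv.Perm.mem_alternatingGroup]⟩)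
    (by decide) (by decide) (by decide) (by decide) (by decide) (by decide) (by decide)
  revert this
  decide

theorem Hyp.not_A9 {g h s t z ρ : G} (H : Hyp g h s t z ρ) (e : G ≃* alternatingGroup (Fin 9)) :
    False := by
  have := H.no_four e (y := ⟨Equiv.swap 0 1 * Equiv.swap 1 2, by simp [Equiv.Perm.mem_alternatingGroup]⟩)
    (a := ⟨Equiv.swap 3 4 * Equiv.swap 5 6, by simp [Equiv.Perm.mem_alternatingGroup]⟩)
    (b := ⟨Equiv.swap 3 5 * Equiv.swap 4 6, by simp [Equiv.Perm.mem_alternatingGroup]⟩)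
    (by decide) (by decide) (by decide) (by decide) (by decide) (by decide) (by decide)
  revert this
  decide

namespace BT

variable {g h s t z ρ x y : G} {K : Subgroup G} (H : BT g h s t z ρ K x y)
include H

theorem exκ (h2 : Nat.card (CZ K t) = 2) :
    ∃ k ∈ CZ K t, k ≠ 1 ∧ y * k = k * y ∧ x * k = k * x ∧ ∀ c ∈ CZ K t, c = 1 ∨ c = k := by
  obtain ⟨k, hk, e, k1⟩ : ∃ k ∈ RA s z, y * k = k * y ∧ k ≠ 1 := by
    by_contra hn
    push Not at hn
    have m := (⟨H.oy, H.yR, mem_norm_bot _, Nrm.bot _, H.R3, fun k hk e => mem_bot.2 (hn k hk e)⟩ :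
      Fp y (RA s z) ⊥).modEq
    rw [relIndex_bot_left, H.card_R, h2] at m
    omega
  refine ⟨k, H.fixC hk e, k1, e, H.fix_x hk e, fun c hc => ?_⟩
  rcases cm_of_card_le_two h2.le hc (H.fixC hk e) with e | e | e
  exacts [.inl e, (k1 e).elim, .inr e]

theorem com (h2 : Nat.card (CZ K t) = 2) {p k : G} (hp : p ∈ QQ K) (hk : k ∈ QQ K) :
    ⟬p, k⟭ ∈ zpowers s := by
  obtain ⟨κ, hκ, -, -, xκ, hC⟩ := H.exκ h2
  have F := H.fpQ H.gX H.og
  have xC : ∀ c ∈ CZ K t, Commute x c := fun c hc => by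
    rcases hC c hc with rfl | rfl
    exacts [Commute.one_right x, xκ]
  have key : ∀ d ∈ QQ K, (d * z * d⁻¹ = z ∨ d * z * d⁻¹ = s * z) → ∀ k ∈ QQ K, ⟬d, k⟭ ∈ zpowers s := by
    intro d hd e k hk
    have xs : Commute x s := cm_of_cj H.xs
    have hc : ∀ c ∈ CZ K t, ∀ c' ∈ CZ K t, Commute c c' := fun c hc c' hc' => H.ab hc hc'
    have sc : ∀ c ∈ CZ K t, Commute s c := fun c hc => (H.Cs hc).symm
    obtain ⟨c, h1, e⟩ := H.decD hd e
    refine H.brQ hd (fun c' hc' => ?_) ?_ hk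
    · rcases e with rfl | rfl | rfl | rfl
      · exact hc _ h1 _ hc'
      · exact (sc _ hc').mul_left (hc _ h1 _ hc')
      · exact (xC _ hc').mul_left (hc _ h1 _ hc')
      · exact (xC _ hc').mul_left ((sc _ hc').mul_left (hc _ h1 _ hc'))
    · rcases e with rfl | rfl | rfl | rfl
      · exact xC _ h1
      · exact xs.mul_right (xC _ h1)
      · exact (Commute.refl x).mul_right (xC _ h1)
      · exact (Commute.refl x).mul_right (xs.mul_right (xC _ h1))
  obtain ⟨d, hd, d', hd', e, e', rfl⟩ := H.fact hp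
  rw [show ⟬d * (g * d' * g⁻¹), k⟭ = d * (g * ⟬d', g⁻¹ * k * g⟭ * g⁻¹) * d⁻¹ * ⟬d, k⟭ by group]
  exact mul_mem (F.nrm.conj_mem hd (conj_mem_of_mem_normalizer F.nL (key d' hd' e' _ (F.cj' hk))))
    (key d hd e k hk)

theorem cen (h2 : Nat.card (CZ K t) = 2) {p : G} (hp : p ∈ QQ K) (hc : ∀ k ∈ QQ K, p * k = k * p) :
    p = 1 ∨ p = s := by
  obtain ⟨κ, hκ, κ1, yκ, -, hC⟩ := H.exκ h2
  obtain ⟨-, e⟩ := (H.f2 H.oy yκ.symm (H.o3 (H.CR hκ))).resolve_left κ1
  obtain ⟨n, rfl⟩ := isConj_iff.1 e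
  have H' := H.toCA.conj n
  have yX := mem_cent1.2 yκ.symm
  have RQ := H'.le_Q (fun r hr => mem_cent1.2 (H.abR (H.CR hκ) hr)) H.pR yX H.oy H.yR
  have yn := H'.QX.norm yX
  have b := H.cardQn n
  have κc : ∀ k ∈ QQ (MulAut.conj n • K), Commute (n * s * n⁻¹) k := fun k hk => H'.Qs hk
  have pc : ∀ k ∈ QQ (MulAut.conj n • K), Commute (n * p * n⁻¹) k := fun k hk => by
    rw [QQ, core_conj, mem_cj] at hk
    have := hc _ hk
    calc n * p * n⁻¹ * k = n * (p * (n⁻¹ * k * n)) * n⁻¹ := by group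
      _ = k * (n * p * n⁻¹) := by rw [this]; group
  generalize QQ (MulAut.conj n • K) = P at *
  have cj : ∀ a, (∀ k ∈ P, Commute a k) → ∀ k ∈ P, Commute (y * a * y⁻¹) k := fun a ha k hk => by
    have := (ha _ (inv_conj_mem_of_mem_normalizer yn hk)).eq
    calc y * a * y⁻¹ * k = y * (a * (y⁻¹ * k * y)) * y⁻¹ := by group
      _ = k * (y * a * y⁻¹) := by rw [this]; group
  have nz : ¬ ∀ k ∈ P, Commute z k := fun hz => by
    have := card_le_of_le (show P ≤ RA s z from fun k hk => H.mem_R'.2 ⟨H.yz ▸ cj z hz k hk, hz k hk⟩)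
    rw [b, H.cardQ1 H.xQ H.xz, H.card_R, h2] at this
    omega
  have nsz : ¬ ∀ k ∈ P, Commute (s * z) k := fun hz => nz (H.ysz ▸ cj _ hz)
  have ns : ¬ ∀ k ∈ P, Commute s k := fun hz => nsz (H.ys ▸ cj _ hz)
  have cc : ∀ c ∈ CZ K t, ∀ a, n * p * n⁻¹ = a * c → ∀ k ∈ P, Commute a k := fun c hc a e k hk => by
    have c1 : Commute c k := by
      rcases hC c hc with rfl | rfl
      exacts [Commute.one_left k, κc k hk]
    have := (pc k hk).mul_left c1.inv_left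
    rwa [e, mul_inv_cancel_right] at this
  obtain ⟨c, h1, e | e | e | e⟩ := H.mem_R.1
    (H.mem_R'.2 ⟨(pc s (RQ H.sR)).symm, (pc z (RQ H.zR)).symm⟩)
  · rcases hC c h1 with rfl | rfl
    · exact .inl (conj_eq_one_iff.1 e)
    · exact .inr (by simpa using e)
  · exact (ns (cc c h1 _ e)).elim
  · exact (nz (cc c h1 _ e)).elim
  · exact (nsz (cc c h1 _ e)).elim

theorem two_false [IsSimpleGroup G] (h2 : Nat.card (CZ K t) = 2) : False := by
  obtain ⟨κ, hκ, κ1, yκ, -, -⟩ := H.exκ h2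
  obtain ⟨-, e⟩ := (H.f2 H.oy yκ.symm (H.o3 (H.CR hκ))).resolve_left κ1
  have c32 : Nat.card (QQ K) = 32 := by rw [H.cardQ1 H.xQ H.xz, h2]; rfl
  have F : M12C.Fr s (QQ K) g :=
    ⟨H.ss, H.s1, H.sQ, fun _ hq => (H.Qs hq).symm, fun p hp q hq => by
      rcases (mem_zp2 H.ss).1 (H.com h2 hp hq) with e | e
      · exact .inl (cm_of_br e)
      · refine .inr ?_
        calc p * q = ⟬p, q⟭ * (q * p) := by group
          _ = _ := by rw [e, H.Qs (mul_mem hq hp)],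
      fun _ => H.cen h2, c32, cube_of H.og, H.gs, fun _ => H.gQ,
      fun q hq e => (mem_zp2 H.ss).1 ((H.fpQ H.gX H.og).fix q hq e)⟩
  rcases F.typ H.zz (cj_of_cm H.sz.symm) (fun q hq => H.QX.conj_mem H.zX hq) H.zg
    (by rw [H.s3.card, ← H.QK, c32]) hκ.1 e (fun e => H.sC (e ▸ hκ)) with
    ⟨N, hN, -, -, c, -⟩ | ⟨⟨e⟩⟩ | ⟨⟨e⟩⟩ | ⟨⟨e⟩⟩
  · rcases hN.eq_bot_or_eq_top with rfl | rfl
    · rw [card_bot] at c; omega
    · have := orderOf_dvd_natCard g
      rw [H.og, ← card_top, c] at this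
      omega
  · exact H.not_A8 e
  · exact H.not_A9 e
  · exact H.not27 (by rw [Nat.card_congr e.toEquiv, card_M12]; norm_num)

end BT

theorem CA.beta [IsSimpleGroup G] {g h s t z ρ : G} {K : Subgroup G} (H : CA g h s t z ρ K) {x : G}
    (hx : x ∈ QQ K) (e : x * z * x⁻¹ = s * z) :
    ∀ x, x * s = s * x → x * z = z * x → x = 1 ∨ x = s ∨ x = z ∨ x = s * z := by
  obtain ⟨y, B⟩ := H.exBT hx e
  have h1 : CZ K t = ⊥ := by
    have h0 := (Nat.card_pos : 0 < Nat.card (CZ K t))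
    have h1 : Nat.card (CZ K t) ≠ 2 := B.two_false
    have h2 : ¬ 2 < Nat.card (CZ K t) := B.big_false
    exact card_eq_one.1 (by omega)
  intro r h2 h3
  obtain ⟨c, hc, e⟩ := H.mem_R.1 (B.mem_R'.2 ⟨h2.symm, h3.symm⟩)
  rw [h1, mem_bot] at hc
  simpa [hc] using e

end Cfsg.Agent.M9
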