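import Cfsg.Agent.M9.ABase

/-!
# Case (β): the group `C(A)` is elementary abelian
-/

set_option autoImplicit false
set_option linter.unusedSectionVars false

namespace Cfsg.Agent.M9

open Subgroup Cfsg.Agent.Local Cfsg.Agent.FT Cfsg.Agent.Char Cfsg.Agent.Z6
open scoped Pointwise

universe u

variable {G : Type u} [Group G] [Finite G]

theorem cj_of_cm {a b : G} (h : a * b = b * a) : a * b * a⁻¹ = b := by
  rw [h, mul_inv_cancel_right]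

theorem cm_of_cj {a b : G} (h : a * b * a⁻¹ = b) : a * b = b * a := mul_inv_eq_iff_eq_mul.1 h

theorem cm_of_br {a b : G} (h : ⟬a, b⟭ = 1) : a * b = b * a := by
  calc a * b = ⟬a, b⟭ * (b * a) := by group
    _ = b * a := by rw [h, one_mul]

theorem br_of_cm {a b : G} (h : a * b = b * a) : ⟬a, b⟭ = 1 := by rw [h]; group

theorem cj_inv {n a b : G} (h : n * a * n⁻¹ = b) : n⁻¹ * b * n⁻¹⁻¹ = a := by rw [← h]; group

theorem cj_mul {m n a b c : G} (h : n * a * n⁻¹ = b) (h' : m * b * m⁻¹ = c) :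
    m * n * a * (m * n)⁻¹ = c := by rw [← h', ← h]; group

theorem cj_two {n a b a' b' : G} (h : n * a * n⁻¹ = a') (h' : n * b * n⁻¹ = b') :
    n * (a * b) * n⁻¹ = a' * b' := by rw [← h', ← h]; group

theorem mem_cj {n k : G} {P : Subgroup G} : k ∈ MulAut.conj n • P ↔ n⁻¹ * k * n ∈ P := by
  refine ⟨fun h => ?_, fun h => ?_⟩
  · have := conj_mem_conj_smul n⁻¹ h
    rwa [conj_inv_smul_smul, inv_inv] at this
  · have := conj_mem_conj_smul n h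
    rwa [show n * (n⁻¹ * k * n) * n⁻¹ = k by group] at this

theorem cyc_pow {b x x' x'' : G} (h1 : b * x * b⁻¹ = x') (h2 : b * x' * b⁻¹ = x'')
    (h3 : b * x'' * b⁻¹ = x) (n : ℕ) :
    (b ^ n * x * (b ^ n)⁻¹ = x ∧ b ^ n * x'' * (b ^ n)⁻¹ = x'') ∨
      (b ^ n * x * (b ^ n)⁻¹ = x' ∧ b ^ n * x'' * (b ^ n)⁻¹ = x) ∨
        (b ^ n * x * (b ^ n)⁻¹ = x'' ∧ b ^ n * x'' * (b ^ n)⁻¹ = x') := by
  induction n with
  | zero => left; simp
  | succ n ih =>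
    rw [pow_succ']
    rcases ih with ⟨a, c⟩ | ⟨a, c⟩ | ⟨a, c⟩
    · exact .inr (.inl ⟨cj_mul a h1, cj_mul c h3⟩)
    · exact .inr (.inr ⟨cj_mul a h2, cj_mul c h1⟩)
    · exact .inl ⟨cj_mul a h3, cj_mul c h2⟩

theorem cm_of_card_le_two {D : Subgroup G} (hD : Nat.card D ≤ 2) {a b : G} (ha : a ∈ D) (hb : b ∈ D) :
    a = 1 ∨ b = 1 ∨ a = b := by
  by_contra hn
  push Not at hn
  have := three_le_card ha hb hn.1 hn.2.1 hn.2.2
  omega

/-- The situation (β) with an element `y` of order three permuting `A#` cyclically. -/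
structure BT (g h s t z ρ : G) (K : Subgroup G) (x y : G) : Prop extends CA g h s t z ρ K where
  xQ : x ∈ QQ K
  xz : x * z * x⁻¹ = s * z
  oy : orderOf y = 3
  ys : y * s * y⁻¹ = s * z
  yz : y * z * y⁻¹ = s
  ym : ∀ L : Subgroup G, x ∈ L → t * x * t⁻¹ ∈ L → y ∈ L

namespace CA

variable {g h s t z ρ : G} {K : Subgroup G} (H : CA g h s t z ρ K)
include H

theorem Qs {k : G} (hk : k ∈ QQ K) : s * k = k * s := mem_cent1.1 (H.QX.le hk)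

theorem s_sz : s * (s * z) = z := by rw [← mul_assoc, H.ss, one_mul]

theorem sz_z : s * z * z = s := by rw [mul_assoc, H.zz, mul_one]

theorem sz_s : s * z * s = z := by rw [mul_assoc, ← H.sz, H.s_sz]

theorem memQ {n k : G} (e : n * s * n⁻¹ = s) (hk : k ∈ QQ K) : n * k * n⁻¹ ∈ QQ K :=
  H.QX.conj_mem (mem_cent1.2 (cm_of_cj e).symm) hk

theorem memQt {n k : G} (e : n * s * n⁻¹ = s * z) (hk : k ∈ QQ K) :
    n * k * n⁻¹ ∈ QQ (MulAut.conj t • K) := by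
  rw [QQ, core_conj, mem_cj]
  have := H.memQ (cj_mul e (cj_inv H.tst)) hk
  rwa [show t⁻¹ * n * k * (t⁻¹ * n)⁻¹ = t⁻¹ * (n * k * n⁻¹) * t by group] at this

theorem memQt' {n k : G} (e : n * (s * z) * n⁻¹ = s) (hk : k ∈ QQ (MulAut.conj t • K)) :
    n * k * n⁻¹ ∈ QQ K := by
  rw [QQ, core_conj, mem_cj] at hk
  have := H.memQ (cj_mul H.tst e) hk
  rwa [show n * t * (t⁻¹ * k * t) * (n * t)⁻¹ = n * k * n⁻¹ by group] at this

theorem cardQn (n : G) : Nat.card (QQ (MulAut.conj n • K)) = Nat.card (QQ K) := by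
  rw [QQ, core_conj, card_conj_smul]

theorem gs : g * s * g⁻¹ = s := cj_of_cm H.sg.symm

theorem gQ {k : G} (hk : k ∈ QQ K) : g * k * g⁻¹ ∈ QQ K := H.memQ H.gs hk

theorem exBT {x : G} (hx : x ∈ QQ K) (e : x * z * x⁻¹ = s * z) : ∃ y, BT g h s t z ρ K x y := by
  have xs : x * s * x⁻¹ = s := cj_of_cm (H.Qs hx).symm
  have xsz : x * (s * z) * x⁻¹ = z := by rw [cj_two xs e, H.s_sz]
  have t1 : t⁻¹ * s * t⁻¹⁻¹ = s * z := cj_inv H.tszt
  have t2 : t⁻¹ * (s * z) * t⁻¹⁻¹ = s := cj_inv H.tst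
  have t3 : t⁻¹ * z * t⁻¹⁻¹ = z := cj_inv H.tzt
  have b1 := cj_mul (cj_mul t1 (cj_mul xsz H.tzt)) e
  have b2 := cj_mul (cj_mul t2 (cj_mul xs H.tst)) xsz
  have b3 := cj_mul (cj_mul t3 (cj_mul e H.tszt)) xs
  obtain ⟨n, hn⟩ := cyc3 b1 b2 b3 H.s_ne_sz
  have m : ∀ L : Subgroup G, x ∈ L → t * x * t⁻¹ ∈ L → (x * (t * x * t⁻¹)) ^ n ∈ L :=
    fun L h1 h2 => pow_mem (mul_mem h1 h2) n
  rcases cyc_pow b1 b2 b3 n with ⟨a, c⟩ | ⟨a, c⟩ | ⟨a, c⟩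
  · rcases H.four hn H.ss H.zz H.sz (cm_of_cj a) (cm_of_cj c) with e | e | e
    exacts [(H.s1 e).elim, (H.z1 e).elim, (H.s_ne_z e).elim]
  · exact ⟨_, H, hx, e, hn, a, c, m⟩
  · refine ⟨_, H, hx, e, (orderOf_inv _).trans hn, cj_inv ?_, cj_inv a, fun L h1 h2 => inv_mem (m L h1 h2)⟩
    rw [cj_two a c, ← mul_assoc, ← H.sz, H.sz_z]

end CA

namespace BT

variable {g h s t z ρ x y : G} {K : Subgroup G} (H : BT g h s t z ρ K x y)
include H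

theorem xs : x * s * x⁻¹ = s := cj_of_cm (H.Qs H.xQ).symm

theorem xsz : x * (s * z) * x⁻¹ = z := by rw [cj_two H.xs H.xz, H.s_sz]

theorem ysz : y * (s * z) * y⁻¹ = z := by rw [cj_two H.ys H.yz, H.sz_s]

theorem swap : BT h g (s * z) t z (t * ρ * t⁻¹) (MulAut.conj t • K) (t * x * t⁻¹) y⁻¹ where
  toCA := H.toCA.swap
  xQ := by rw [QQ, core_conj]; exact conj_mem_conj_smul t H.xQ
  xz := by rw [H.sz_z]; exact cj_mul (cj_inv H.tzt) (cj_mul H.xz H.tszt)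
  oy := (orderOf_inv _).trans H.oy
  ys := by rw [H.sz_z]; exact cj_inv H.ys
  yz := cj_inv H.ysz
  ym := fun L h1 h2 => by
    refine inv_mem (H.ym L ?_ h1)
    rwa [show t * (t * x * t⁻¹) * t⁻¹ = t * t * x * (t * t)⁻¹ by group, H.tt, one_mul, inv_one,
      mul_one] at h2

theorem yc {a : G} (h1 : x * a = a * x) (h2 : t * x * t⁻¹ * a = a * (t * x * t⁻¹)) :
    y * a = a * y :=
  (mem_cent1.1 (H.ym 𝐂[a] (mem_cent1.2 h1.symm) (mem_cent1.2 h2.symm))).symm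

theorem QK : QQ K = K := by
  refine H.KQ fun o ho h2 e => ?_
  have os : s * o = o * s := mem_cent1.1 (H.s3.nrm.le ho)
  have c : Commute o z := e
  have h1 : o ∈ MulAut.conj t • K := by
    refine (H.swap.nrmA (mem_cent1.2 (by rw [mul_assoc, ← e, ← mul_assoc, os, mul_assoc]))
      (.inl (cj_of_cm e))).resolve_right fun h1 => H.swap.zK ?_
    have := pow_mem h1 (orderOf o)
    obtain ⟨k, hk⟩ := Nat.odd_iff.2 (Nat.two_dvd_ne_zero.1 h2)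
    rwa [c.mul_pow, pow_orderOf_eq_one, one_mul, hk, pow_succ, pow_mul, sq, H.zz, one_pow,
      one_mul] at this
  have c1 := H.yc (H.odd ho h2 H.xQ).symm (H.swap.odd h1 h2 H.swap.xQ).symm
  rcases H.f2 H.oy c1.symm (fun d => H.s3.ndvd (d.trans (orderOf_dvd_card_of_mem ho))) with e | ⟨e, -⟩
  · exact e
  · by_contra o1
    exact h2 (by rw [ord_two e o1])

theorem mem_R' {r : G} : r ∈ RA s z ↔ s * r = r * s ∧ z * r = r * z := by
  refine ⟨fun hr => ?_, fun ⟨h1, h2⟩ => H.mem_R.2 ?_⟩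
  · have := core_le _ _ hr
    exact ⟨mem_cent1.1 this.1, mem_cent1.1 this.2⟩
  have e : z * (r * z) = r := by rw [← h2, ← mul_assoc, H.zz, one_mul]
  rcases H.nrmA (mem_cent1.2 h1) (.inl (cj_of_cm h2.symm)) with h3 | h3 <;> rw [← H.QK] at h3
  · rcases H.mem_C h3 h2.symm with h4 | h4
    · exact ⟨r, h4, .inl rfl⟩
    · exact ⟨_, h4, .inr (.inl (by rw [← mul_assoc, H.ss, one_mul]))⟩
  · rcases H.mem_C h3 (by rw [e, mul_assoc, H.zz, mul_one]) with h4 | h4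
    · exact ⟨_, h4, .inr (.inr (.inl e.symm))⟩
    · refine ⟨_, h4, .inr (.inr (.inr ?_))⟩
      rw [← mul_assoc, H.sz_s, e]

theorem sR : s ∈ RA s z := H.mem_R'.2 ⟨rfl, H.sz.symm⟩

theorem zR : z ∈ RA s z := H.mem_R'.2 ⟨H.sz, rfl⟩

theorem CR {c : G} (hc : c ∈ CZ K t) : c ∈ RA s z := H.mem_R.2 ⟨c, hc, .inl rfl⟩

/-- An element which maps two generators of `A` to `s` and `z` normalizes `R`. -/
theorem nR {n a b : G} (ha : n * a * n⁻¹ = s) (hb : n * b * n⁻¹ = z)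
    (ca : ∀ r ∈ RA s z, a * r = r * a) (cb : ∀ r ∈ RA s z, b * r = r * b) : n ∈ 𝐍(RA s z) :=
  mem_normalizer_of_conj_mem fun r hr => H.mem_R'.2
    ⟨by rw [← ha, conj_mul, conj_mul, ca r hr], by rw [← hb, conj_mul, conj_mul, cb r hr]⟩

theorem Rs : ∀ r ∈ RA s z, s * r = r * s := fun _ hr => (H.mem_R'.1 hr).1

theorem Rz : ∀ r ∈ RA s z, z * r = r * z := fun _ hr => (H.mem_R'.1 hr).2

theorem Rsz : ∀ r ∈ RA s z, s * z * r = r * (s * z) := fun r hr => by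
  rw [mul_assoc, H.Rz r hr, ← mul_assoc, H.Rs r hr, mul_assoc]

theorem xR : x ∈ 𝐍(RA s z) := H.nR H.xs H.xsz H.Rs H.Rsz

theorem yR : y ∈ 𝐍(RA s z) := H.nR H.yz H.ysz H.Rz H.Rsz

theorem pR : IsPGroup 2 (RA s z) := isPGroup_core 2 _

theorem R3 : ¬ 3 ∣ Nat.card (RA s z) := ndvd_of_pg2 H.pR

/-- Every element of `R` is `a * c` with `a` a central involution (or `1`), `c ∈ C₀`. -/
theorem decR {r : G} (hr : r ∈ RA s z) :
    ∃ a c, c ∈ CZ K t ∧ a * a = 1 ∧ (∀ r ∈ RA s z, a * r = r * a) ∧ r = a * c := by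
  obtain ⟨c, hc, e | e | e | e⟩ := H.mem_R.1 hr
  · exact ⟨1, c, hc, one_mul _, fun r _ => by rw [one_mul, mul_one], by rw [one_mul, e]⟩
  · exact ⟨s, c, hc, H.ss, H.Rs, e⟩
  · exact ⟨z, c, hc, H.zz, H.Rz, e⟩
  · exact ⟨s * z, c, hc, H.szsz, H.Rsz, e⟩

theorem brR {r r' : G} (hr : r ∈ RA s z) (hr' : r' ∈ RA s z) : ⟬r, r'⟭ ∈ CZ K t := by
  obtain ⟨a, c, hc, -, ha, e⟩ := H.decR hr
  obtain ⟨a', c', hc', -, ha', e'⟩ := H.decR hr'
  have h1 : r * r' * r⁻¹ = c * r' * c⁻¹ := by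
    calc _ = a * (c * r' * c⁻¹) * a⁻¹ := by rw [e]; group
      _ = _ := cj_of_cm (ha _ (mul_mem (mul_mem (H.CR hc) hr') (inv_mem (H.CR hc))))
  have h2 : r' * c⁻¹ * r'⁻¹ = c' * c⁻¹ * c'⁻¹ := by
    calc _ = a' * (c' * c⁻¹ * c'⁻¹) * a'⁻¹ := by rw [e']; group
      _ = _ := cj_of_cm (ha' _ (mul_mem (mul_mem (H.CR hc') (inv_mem (H.CR hc))) (inv_mem (H.CR hc'))))
  rw [h1, show c * r' * c⁻¹ * r'⁻¹ = c * (r' * c⁻¹ * r'⁻¹) by group, h2]
  exact mul_mem hc (mul_mem (mul_mem hc' (inv_mem hc)) (inv_mem hc'))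

theorem sqR {r : G} (hr : r ∈ RA s z) : r * r ∈ CZ K t := by
  obtain ⟨a, c, hc, aa, ha, rfl⟩ := H.decR hr
  rw [show a * c * (a * c) = a * (c * a) * c by group, ← ha c (H.CR hc),
    show a * (a * c) * c = a * a * (c * c) by group, aa, one_mul]
  exact mul_mem hc hc

theorem eq_one {c : G} (hc : c ∈ CZ K t) (h1 : c ∈ zpowers s) : c = 1 :=
  ((mem_zp2 H.ss).1 h1).resolve_right fun e => H.sC (e ▸ hc)

/-- The normalizer of `A` in `Q`. -/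
theorem decD {d : G} (hd : d ∈ QQ K) (e : d * z * d⁻¹ = z ∨ d * z * d⁻¹ = s * z) :
    ∃ c ∈ CZ K t, d = c ∨ d = s * c ∨ d = x * c ∨ d = x * (s * c) := by
  rcases e with e | e
  · rcases H.mem_C hd (cm_of_cj e) with h1 | h1
    · exact ⟨d, h1, .inl rfl⟩
    · exact ⟨_, h1, .inr (.inl (by rw [← mul_assoc, H.ss, one_mul]))⟩
  · rcases H.mem_C (mul_mem (inv_mem H.xQ) hd) (cm_of_cj (cj_mul e (cj_inv H.xz))) with h1 | h1
    · exact ⟨_, h1, .inr (.inr (.inl (by group)))⟩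
    · exact ⟨_, h1, .inr (.inr (.inr (by rw [← mul_assoc s, H.ss]; group)))⟩

theorem brQ {k : G} (hk : k ∈ QQ K) (hc : ∀ c ∈ CZ K t, k * c = c * k) (hx : x * k = k * x) {p : G}
    (hp : p ∈ QQ K) : ⟬k, p⟭ ∈ zpowers s := by
  have key : ∀ d ∈ QQ K, (d * z * d⁻¹ = z ∨ d * z * d⁻¹ = s * z) → k * d = d * k := fun d hd e => by
    have c1 : Commute k s := (H.Qs hk).symm
    have c2 : Commute k x := hx.symm
    obtain ⟨c, h1, rfl | rfl | rfl | rfl⟩ := H.decD hd e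
    · exact hc _ h1
    · exact c1.mul_right (hc _ h1)
    · exact c2.mul_right (hc _ h1)
    · exact c2.mul_right (c1.mul_right (hc _ h1))
  obtain ⟨d, hd, d', hd', e, e', rfl⟩ := H.fact hp
  have h1 := H.memQ (n := d) (cj_of_cm (H.Qs hd).symm) H.sQ
  have h2 := (H.fpQ H.gX H.og).cc hk hd' (by rw [br_of_cm (key d' hd' e')]; exact one_mem _)
  have h3 := (H.fpQ H.gX H.og).nrm.conj_mem hd h2
  rwa [show ⟬k, d * (g * d' * g⁻¹)⟭ = k * d * k⁻¹ * d⁻¹ * (d * ⟬k, g * d' * g⁻¹⟭ * d⁻¹) by group,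
    br_of_cm (key d hd e), one_mul]

theorem exT {k : G} (hk : k ∈ CZ K t) (hc : ∀ c ∈ CZ K t, k * c = c * k) (hx : x * k = k * x) :
    ∃ T : Subgroup G, T ≤ 𝐂[s] ∧ T ≤ 𝐂[k] ∧ IsPGroup 2 T ∧ Nat.card (QQ K) ≤ Nat.card T := by
  have zn : z ∈ 𝐍(QQ K ⊓ 𝐂[k]) := mem_normalizer_of_conj_mem fun d hd =>
    ⟨H.QX.conj_mem H.zX hd.1, conj_mem_of_mem_normalizer (le_normalizer (mem_cent1.2 (H.Cz hk))) hd.2⟩
  have c1 := PG.card_sup_zpowers (p := 2) zn (fun hz => H.zK (core_le _ _ hz.1))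
    (by rw [sq, H.zz]; exact one_mem _)
  obtain ⟨m, hm⟩ := IsPGroup.iff_card.1 ((isPGroup_core 2 K).to_inf_left (K := 𝐂[k]))
  refine ⟨_, sup_le (inf_le_left.trans H.QX.le) (zpowers_le.2 H.zX),
    sup_le inf_le_right (zpowers_le.2 (mem_cent1.2 (H.Cz hk))),
    .of_card (n := m + 1) (by rw [c1, hm, pow_succ']), ?_⟩
  have c2 : 𝐂[k].relIndex (QQ K) ∣ 2 := by
    by_cases ha : ∃ a ∈ QQ K, ⟬k, a⟭ = s
    · obtain ⟨a, ha, e⟩ := ha
      refine relIndex_dvd_two_iff.2 ⟨a, ha, fun b hb => ?_⟩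
      rcases (mem_zp2 H.ss).1 (H.brQ hk.1 hc hx hb) with e' | e'
      · exact .inr (mem_cent1.2 (cm_of_br e'))
      · refine .inl (mem_cent1.2 (cm_of_br ?_))
        rw [show ⟬k, b * a⟭ = ⟬k, b⟭ * (b * ⟬k, a⟭ * b⁻¹) by group, e, e', cj_of_cm (H.Qs hb).symm,
          H.ss]
    · refine relIndex_dvd_two_iff.2 ⟨1, one_mem _, fun b hb => .inr (mem_cent1.2 (cm_of_br ?_))⟩
      exact ((mem_zp2 H.ss).1 (H.brQ hk.1 hc hx hb)).resolve_right fun e => ha ⟨b, hb, e⟩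
  have c3 := card_inf_mul_relIndex 𝐂[k] (QQ K)
  rw [c1, inf_comm, ← c3, mul_comm]
  exact Nat.mul_le_mul_right _ (Nat.le_of_dvd two_pos c2)

theorem o3 {r : G} (hr : r ∈ RA s z) : ¬ 3 ∣ orderOf r :=
  fun d => H.R3 (d.trans (orderOf_dvd_card_of_mem hr))

/-- A nontrivial element of `Z(C₀)` centralized by `x` and `x ^ t` forces `|C₀| ≤ 2`. -/
theorem le_two {k : G} (hk : k ∈ CZ K t) (k1 : k ≠ 1) (hc : ∀ c ∈ CZ K t, k * c = c * k)
    (hx : x * k = k * x) (hx' : t * x * t⁻¹ * k = k * (t * x * t⁻¹)) : Nat.card (CZ K t) ≤ 2 := by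
  obtain ⟨-, e⟩ := (H.f2 H.oy (H.yc hx hx').symm (H.o3 (H.CR hk))).resolve_left k1
  obtain ⟨n, rfl⟩ := isConj_iff.1 e
  obtain ⟨T, h1, h2, h3, h4⟩ := H.exT hk hc hx
  obtain ⟨T', h1', h2', h3', h4'⟩ := H.swap.exT (H.CZ_swap ▸ hk) (H.CZ_swap ▸ hc) hx'
  have a := (H.toCA.conj n).half h2 h3
  have a' := (H.toCA.conj n).half h2' h3'
  rw [H.cardQn] at h4'
  have b := H.cardQn n
  generalize QQ (MulAut.conj n • K) = P at *
  have p : 0 < Nat.card P := Nat.card_pos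
  have i : ∀ U V : Subgroup G, U ≤ V → Nat.card P ≤ 2 * Nat.card ↥(P ⊓ U) → V.relIndex P ≤ 2 := by
    intro U V hUV hU
    have e1 := card_inf_mul_relIndex V P
    have e2 : Nat.card ↥(P ⊓ U) ≤ Nat.card ↥(V ⊓ P) :=
      card_le_of_le (le_inf (inf_le_right.trans hUV) inf_le_left)
    have e3 : 0 < Nat.card ↥(V ⊓ P) := Nat.card_pos
    exact Nat.le_of_mul_le_mul_left (by rw [e1]; omega) e3
  have i1 := i T _ h1 (by omega)
  have i2 := i T' _ h1' (by omega)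
  have i3 : (𝐂[s] ⊓ 𝐂[s * z]).relIndex P ≤ 4 :=
    relIndex_inf_le.trans (Nat.mul_le_mul i1 i2)
  have i4 := card_inf_mul_relIndex (𝐂[s] ⊓ 𝐂[s * z]) P
  have i5 : Nat.card ↥(𝐂[s] ⊓ 𝐂[s * z] ⊓ P) ≤ Nat.card (RA s z) := by
    refine card_le_of_le fun r hr => H.mem_R'.2 ⟨mem_cent1.1 hr.1.1, ?_⟩
    have c1 : Commute s r := mem_cent1.1 hr.1.1
    have c2 : Commute (s * z) r := mem_cent1.1 hr.1.2
    have := (c1.mul_left c2).eq
    rwa [H.s_sz] at this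
  have i6 := H.cardQ1 H.xQ H.xz
  rw [H.card_R] at i5
  have i7 : Nat.card P ≤ 4 * Nat.card (CZ K t) * 4 := i4 ▸ Nat.mul_le_mul i5 i3
  rw [b, i6] at i7
  nlinarith

theorem br_x {c d : G} (hc : c ∈ CZ K t) (hd : d ∈ CZ K t) : x * ⟬c, d⟭ = ⟬c, d⟭ * x := by
  have h1 : x * ⟬c, d⟭ * x⁻¹ ∈ CZ K t := by
    rw [show x * ⟬c, d⟭ * x⁻¹ = ⟬x * c * x⁻¹, x * d * x⁻¹⟭ by group]
    exact H.brR (conj_mem_of_mem_normalizer H.xR (H.CR hc)) (conj_mem_of_mem_normalizer H.xR (H.CR hd))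
  have h2 := mul_mem (H.brR (H.CR hc) (H.CR hd)) (inv_mem h1)
  rw [show ⟬c, d⟭ * (x * ⟬c, d⟭ * x⁻¹)⁻¹ = ⟬⟬c, d⟭, x⟭ by group] at h2
  exact (cm_of_br (H.eq_one h2 ((H.fpQ H.gX H.og).cls hc.1 hd.1 H.xQ))).symm

theorem ab {c d : G} (hc : c ∈ CZ K t) (hd : d ∈ CZ K t) : c * d = d * c := by
  by_contra hn
  have m := H.brR (H.CR hc) (H.CR hd)
  have := H.le_two m (fun e => hn (cm_of_br e)) (fun b hb => cm_of_br (H.eq_one
    (H.brR (H.CR m) (H.CR hb)) ((H.fpQ H.gX H.og).cls hc.1 hd.1 hb.1))) (H.br_x hc hd)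
    (H.swap.br_x (H.CZ_swap ▸ hc) (H.CZ_swap ▸ hd))
  rcases cm_of_card_le_two this hc hd with rfl | rfl | rfl
  exacts [hn (by simp), hn (by simp), hn rfl]

theorem abR {r r' : G} (hr : r ∈ RA s z) (hr' : r' ∈ RA s z) : r * r' = r' * r := by
  obtain ⟨a, c, hc, -, ha, rfl⟩ := H.decR hr
  obtain ⟨a', c', hc', -, ha', e⟩ := H.decR hr'
  have c1 : Commute a r' := ha _ hr'
  have c2 : Commute c a' := (ha' _ (H.CR hc)).symm
  have c3 : Commute c c' := H.ab hc hc'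
  exact c1.mul_left (e ▸ c2.mul_right c3)

theorem xxR : x * x ∈ RA s z :=
  H.mem_R'.2 ⟨(cm_of_cj (cj_mul H.xs H.xs)).symm, (cm_of_cj (cj_mul H.xz H.xsz)).symm⟩

theorem sq_x {d : G} (hd : d ∈ CZ K t) : x * (d * d) = d * d * x := by
  have dR := H.CR hd
  have h1 := conj_mem_of_mem_normalizer H.xR dR
  have eR : ⟬x, d⟭ ∈ RA s z := mul_mem h1 (inv_mem dR)
  have h2 : ⟬⟬x, d⟭, x⟭ = ⟬x, d⟭ * ⟬x, d⟭ := by
    calc _ = ⟬x, d⟭ * (x * d * x⁻¹ * (x * x * d * (x * x)⁻¹)⁻¹) := by group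
      _ = _ := by rw [cj_of_cm (H.abR H.xxR dR)]
  have h3 := H.eq_one (H.sqR eR) (h2 ▸ (H.fpQ H.gX H.og).cls H.xQ hd.1 H.xQ)
  refine cm_of_cj ?_
  calc x * (d * d) * x⁻¹ = ⟬x, d⟭ * (d * ⟬x, d⟭) * d := by group
    _ = ⟬x, d⟭ * ⟬x, d⟭ * (d * d) := by rw [H.abR dR eR]; group
    _ = _ := by rw [h3, one_mul]

theorem sq {d : G} (hd : d ∈ CZ K t) : d * d = 1 := by
  by_contra hn
  have m := mul_mem hd hd
  have := H.le_two m hn (fun b hb => H.ab m hb) (H.sq_x hd) (H.swap.sq_x (H.CZ_swap ▸ hd))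
  rcases cm_of_card_le_two this hd m with rfl | e | e
  exacts [hn (one_mul _), hn e, hn (by rw [left_eq_mul.1 e, one_mul])]

theorem sqR' {r : G} (hr : r ∈ RA s z) : r * r = 1 := by
  obtain ⟨a, c, hc, aa, ha, rfl⟩ := H.decR hr
  rw [show a * c * (a * c) = a * (c * a) * c by group, ← ha c (H.CR hc),
    show a * (a * c) * c = a * a * (c * c) by group, aa, one_mul, H.sq hc]

theorem uR' {c : G} (hc : c ∈ CZ K t) : g * c * g⁻¹ ∈ 𝐍(RA s z) :=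
  H.uR hc.1 (H.sq hc) (H.Cz hc) fun _ hd => H.ab hc hd

theorem uz' {c : G} (hc : c ∈ CZ K t) :
    g * c * g⁻¹ * z * (g * c * g⁻¹)⁻¹ = z * c * tr g c := H.uz hc.1 (H.sq hc) (H.Cz hc)

theorem us {c : G} (hc : c ∈ QQ K) : g * c * g⁻¹ * s * (g * c * g⁻¹)⁻¹ = s :=
  cj_of_cm (H.Qs (H.gQ hc)).symm

/-- The fixed points of `y` on `R` lie in `C₀`. -/
theorem fixC {k : G} (hk : k ∈ RA s z) (e : y * k = k * y) : k ∈ CZ K t := by
  have key : ∀ n ∈ 𝐍(RA s z), n * s * n⁻¹ ≠ k := fun n hn e' => by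
    refine H.zK (core_le _ _ (H.le_Q (y := n⁻¹ * y * n⁻¹⁻¹) (fun r hr => mem_cent1.2 (H.Rs r hr)) H.pR
      (mem_cent1.2 ?_) (by rw [Local.orderOf_conj', H.oy])
      (mul_mem (mul_mem (inv_mem hn) H.yR) (inv_mem (inv_mem hn))) H.zR))
    rw [← cj_inv e', conj_mul, conj_mul, e]
  obtain ⟨c, hc, rfl | rfl | rfl | rfl⟩ := H.mem_R.1 hk
  · exact hc
  · have h1 := mul_mem H.sQ hc.1
    exact ⟨h1, cj_of_cm e ▸ H.memQt H.ys h1⟩
  · rcases H.th hc.1 with e' | e'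
    · refine (key _ (mul_mem (H.uR' hc) (inv_mem H.yR)) (cj_mul (cj_inv H.yz) ?_)).elim
      rw [H.uz' hc, e', mul_one]
    · refine (key _ (mul_mem (H.uR' hc) H.yR) (cj_mul H.ys ?_)).elim
      rw [cj_two (H.us hc.1) (H.uz' hc), e', ← H.Rs _ hk, ← mul_assoc, H.ss, one_mul]
  · have h1 := mul_mem H.swap.sQ hc.2
    exact ⟨cj_inv (cj_of_cm e) ▸ H.memQt' (cj_inv H.ys) h1, h1⟩

theorem fix_x {k : G} (hk : k ∈ RA s z) (e : y * k = k * y) : x * k = k * x := by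
  have m : x⁻¹ * (y * (x * y)) ∈ RA s z := H.mem_R'.2
    ⟨(cm_of_cj (cj_mul (cj_mul (cj_mul H.ys H.xsz) H.yz) (cj_inv H.xs))).symm,
      (cm_of_cj (cj_mul (cj_mul (cj_mul H.yz H.xs) H.ys) (cj_inv H.xz))).symm⟩
  have c1 : Commute (x⁻¹ * (y * (x * y))) k := H.abR m hk
  have c2 : Commute y k := e
  have c3 := (c1.mul_left c2.inv_left).eq
  have c4 : y * (x * k * x⁻¹) = x * k * x⁻¹ * y := by
    calc _ = x * (x⁻¹ * (y * (x * y)) * y⁻¹ * k) * x⁻¹ := by group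
      _ = _ := by rw [c3]; group
  rcases H.f1' H.oy H.R3 (conj_mem_of_mem_normalizer H.xR hk) hk c4 e with e' | rfl | e'
  · rw [conj_eq_one_iff.1 e', mul_one, one_mul]
  · rw [mul_one, one_mul]
  · exact cm_of_cj e'

theorem fix_x' {k : G} (hk : k ∈ RA s z) (e : y * k = k * y) :
    t * x * t⁻¹ * k = k * (t * x * t⁻¹) :=
  H.swap.fix_x (H.RA_swap ▸ hk) (Commute.inv_left e)

end BT

end Cfsg.Agent.M9
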