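import Cfsg.Agent.M9.BetaA
import Cfsg.Agent.M12C.Main

/-!
# Case (β): `|C₀| ≤ 2`
-/

set_option autoImplicit false
set_option linter.unusedSectionVars false

namespace Cfsg.Agent.M9

open Subgroup Cfsg.Agent.Local Cfsg.Agent.FT Cfsg.Agent.Char Cfsg.Agent.Z6
open scoped Pointwise

universe u

variable {G : Type u} [Group G] [Finite G]

/-- The elements normalizing `R` and `W` which act trivially on `R / W`. -/
def stabQ (R W : Subgroup G) : Subgroup G where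
  carrier := {n | n ∈ 𝐍(R) ∧ n ∈ 𝐍(W) ∧ ∀ r ∈ R, ⟬n, r⟭ ∈ W}
  one_mem' := ⟨one_mem _, one_mem _, fun r _ => by simp⟩
  mul_mem' := fun {a b} ha hb => ⟨mul_mem ha.1 hb.1, mul_mem ha.2.1 hb.2.1, fun r hr => by
    rw [show ⟬a * b, r⟭ = a * ⟬b, r⟭ * a⁻¹ * ⟬a, r⟭ by group]
    exact mul_mem (conj_mem_of_mem_normalizer ha.2.1 (hb.2.2 r hr)) (ha.2.2 r hr)⟩
  inv_mem' := fun {a} ha => ⟨inv_mem ha.1, inv_mem ha.2.1, fun r hr => by
    rw [show ⟬a⁻¹, r⟭ = a⁻¹ * (⟬a, r⟭)⁻¹ * a by group]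
    exact inv_conj_mem_of_mem_normalizer ha.2.1 (inv_mem (ha.2.2 r hr))⟩

theorem mem_stabQ {R W : Subgroup G} (hW : W ≤ R) {n : G} (hn : n ∈ 𝐍(R))
    (h : ∀ r ∈ R, ⟬n, r⟭ ∈ W) : n ∈ stabQ R W :=
  ⟨hn, mem_normalizer_of_conj_mem fun w hw => by simpa using mul_mem (h w (hW hw)) hw, h⟩

theorem tr_one (y : G) : tr y 1 = 1 := by simp [tr]

namespace BT

variable {g h s t z ρ x y : G} {K : Subgroup G} (H : BT g h s t z ρ K x y)
include H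

theorem brW {u : G} {W : Subgroup G} (hu : u ∈ 𝐍(RA s z)) (hs : ⟬u, s⟭ ∈ W) (hz : ⟬u, z⟭ ∈ W)
    (hc : ∀ c ∈ CZ K t, ⟬u, c⟭ ∈ W) : ∀ r ∈ RA s z, ⟬u, r⟭ ∈ W := by
  have m : ∀ a ∈ RA s z, ∀ b ∈ RA s z, ⟬u, a⟭ ∈ W → ⟬u, b⟭ ∈ W → ⟬u, a * b⟭ ∈ W := by
    intro a ha b hb h1 h2
    rw [show ⟬u, a * b⟭ = ⟬u, a⟭ * (a * ⟬u, b⟭ * a⁻¹) by group,
      cj_of_cm (H.abR ha (mul_mem (conj_mem_of_mem_normalizer hu hb) (inv_mem hb)))]
    exact mul_mem h1 h2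
  intro r hr
  obtain ⟨c, h1, rfl | rfl | rfl | rfl⟩ := H.mem_R.1 hr
  · exact hc _ h1
  · exact m _ H.sR _ (H.CR h1) hs (hc _ h1)
  · exact m _ H.zR _ (H.CR h1) hz (hc _ h1)
  · exact m _ (mul_mem H.sR H.zR) _ (H.CR h1) (m _ H.sR _ H.zR hs hz) (hc _ h1)

theorem trR {c : G} (hc : c ∈ QQ K) : tr g c ∈ RA s z := by
  rcases H.th hc with e | e <;> rw [e]
  exacts [one_mem _, H.sR]

theorem br_uz {c : G} (hc : c ∈ CZ K t) : ⟬g * c * g⁻¹, z⟭ = c * tr g c := by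
  rw [H.uz' hc, mul_assoc z, cj_of_cm (H.Rz _ (mul_mem (H.CR hc) (H.trR hc.1)))]

theorem uW {c : G} {W : Subgroup G} (hc : c ∈ CZ K t) (hs : s ∈ W) (cW : c ∈ W) :
    ∀ r ∈ RA s z, ⟬g * c * g⁻¹, r⟭ ∈ W := by
  refine H.brW (H.uR' hc) ?_ ?_ fun d hd => ?_
  · rw [H.us hc.1, mul_inv_cancel]; exact one_mem _
  · rw [H.br_uz hc]
    refine mul_mem cW ?_
    rcases H.th hc.1 with e | e <;> rw [e]
    exacts [one_mem _, hs]
  · rw [show ⟬g * c * g⁻¹, d⟭ = (⟬d, g * c * g⁻¹⟭)⁻¹ by group]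
    rcases H.uc hd.1 hc.1 (H.ab hd hc) with e | e <;> rw [e]
    exacts [inv_mem (one_mem _), inv_mem hs]

theorem card_sup_le {W A : Subgroup G} (hW : W ≤ RA s z) (hA : A ≤ RA s z) :
    Nat.card ↥(W ⊔ A) ≤ Nat.card W * Nat.card A :=
  Nat.le_of_dvd (Nat.mul_pos Nat.card_pos Nat.card_pos) (card_sup_dvd fun a ha =>
    mem_normalizer_of_conj_mem fun w hw => by rwa [cj_of_cm (H.abR (hA ha) (hW hw))])

theorem card_zp_le {r : G} (hr : r ∈ RA s z) : Nat.card (zpowers r) ≤ 2 := by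
  rw [Nat.card_zpowers]
  exact orderOf_le_of_pow_eq_one two_pos (by rw [pow_two, H.sqR' hr])

/-- `c` commutes with the `g`-conjugate of `[c, x]`. -/
theorem kapx {c : G} (hc : c ∈ CZ K t) : c * (g * ⟬c, x⟭ * g⁻¹) = g * ⟬c, x⟭ * g⁻¹ * c := by
  have cR := H.CR hc
  have eR : ⟬c, x⟭ ∈ RA s z := by
    rw [show ⟬c, x⟭ = c * (x * c⁻¹ * x⁻¹) by group]
    exact mul_mem cR (conj_mem_of_mem_normalizer H.xR (inv_mem cR))
  have F := H.fpQ H.gX H.og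
  have eQ := F.cm_mem hc.1 H.xQ
  have k := F.kap hc.1 H.xQ
  have ee := H.sqR' eR
  have ce : Commute c ⟬c, x⟭ := H.abR cR eR
  generalize ⟬c, x⟭ = e at *
  have e'Q := F.cj' eQ
  have e'e : g⁻¹ * e * g * (g⁻¹ * e * g) = 1 := by
    rw [show g⁻¹ * e * g * (g⁻¹ * e * g) = g⁻¹ * (e * e) * g by group, ee]; group
  have cc := H.sq hc
  have vv : g * x * g⁻¹ * c⁻¹ * (g * x * g⁻¹)⁻¹ * (g * x * g⁻¹ * c⁻¹ * (g * x * g⁻¹)⁻¹) = 1 := by
    rw [conj_mul, ← mul_inv_rev, cc]; group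
  have c1 : Commute c (g⁻¹ * e * g) := by
    have cs : Commute s c := H.Qs hc.1
    have se : Commute s (g⁻¹ * e * g) := H.Qs e'Q
    generalize g⁻¹ * e * g = e' at *
    have key : c * e' * (c * e') = 1 := by
      rcases (mem_zp2 H.ss).1 k with e1 | e1
      · have : g * x * g⁻¹ * c⁻¹ * (g * x * g⁻¹)⁻¹ = c * e' := by
          calc _ = c⁻¹ * (⟬c, g * x * g⁻¹⟭ * e'⁻¹) * e' := by group
            _ = _ := by rw [e1, inv_self cc, mul_one]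
        rwa [this] at vv
      · have : g * x * g⁻¹ * c⁻¹ * (g * x * g⁻¹)⁻¹ = s * (c * e') := by
          calc _ = c⁻¹ * (⟬c, g * x * g⁻¹⟭ * e'⁻¹) * e' := by group
            _ = _ := by rw [e1, inv_self cc, ← cs.eq, mul_assoc]
        rwa [this, ← pow_two, (cs.mul_right se).mul_pow, pow_two, pow_two, H.ss, one_mul] at vv
    calc c * e' = (c * e')⁻¹ := (inv_self key).symm
      _ = e' * c := by rw [mul_inv_rev, inv_self cc, inv_self e'e]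
  have c2 : Commute c (tr g e) := H.abR cR (H.trR eQ)
  have := (ce.inv_right.mul_right c2).mul_right c1.inv_right
  rwa [show e⁻¹ * tr g e * (g⁻¹ * e * g)⁻¹ = g * e * g⁻¹ by unfold tr; group] at this

section big

variable (hq : 2 < Nat.card (CZ K t))
include hq

theorem fpf {k : G} (hk : k ∈ RA s z) (e : y * k = k * y) : k = 1 := by
  by_contra k1
  have := H.le_two (H.fixC hk e) k1 (fun c hc => H.ab (H.fixC hk e) hc) (H.fix_x hk e) (H.fix_x' hk e)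
  omega

theorem fpR : Fp y (RA s z) ⊥ :=
  ⟨H.oy, H.yR, mem_norm_bot _, Nrm.bot _, H.R3, fun _ hk e => mem_bot.2 (H.fpf hq hk e)⟩

theorem try1 {r : G} (hr : r ∈ RA s z) : tr y r = 1 := (H.fpR hq).prod0 hr

theorem yC : y ∈ 𝐍(CZ K t) := mem_normalizer_of_conj_mem fun c hc => by
  refine ⟨?_, H.memQt H.ys hc.1⟩
  have h0 : c ∈ QQ K := hc.1
  have h1 := mul_mem (inv_mem h0) (inv_mem (H.memQt' (cj_inv H.ys) hc.2))
  have h2 : c⁻¹ * tr y c * (y⁻¹ * c * y⁻¹⁻¹)⁻¹ = y * c * y⁻¹ := by unfold tr; group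
  rwa [← h2, H.try1 hq (H.CR hc), mul_one]

theorem xC {c : G} (hc : c ∈ CZ K t) : x * c * x⁻¹ ∈ CZ K t := by
  refine ⟨H.memQ H.xs hc.1, ?_⟩
  have := H.memQt (cj_mul (cj_inv H.yz) H.xz) (conj_mem_of_mem_normalizer (H.yC hq) hc).1
  rwa [show x * y⁻¹ * (y * c * y⁻¹) * (x * y⁻¹)⁻¹ = x * c * x⁻¹ by group] at this

theorem no11 {d : G} (hd : d ∈ CZ K t) (tg : tr g d = s) (th : tr h d = s * z) : False := by
  have d1 : d ≠ 1 := fun e => H.s1 (by rw [← tg, e, tr_one])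
  have := (H.l11 hd d1 (H.sq hd) (fun _ hc => H.ab hd hc) tg th).1
  rw [this, card_zp2 (H.sq hd) d1] at hq
  omega

theorem le_eight {c d : G} (hc : c ∈ CZ K t) (hd : d ∈ CZ K t) (tg : tr g d = s)
    (e : ⟬d, g * c * g⁻¹⟭ = s) : Nat.card (CZ K t) ≤ 8 := by
  have hd' : d ∈ CZ (MulAut.conj t • K) t := H.CZ_swap ▸ hd
  have th : tr h d = 1 := (H.swap.th hd.2).resolve_right (H.no11 hq hd tg)
  have dd := H.sq hd
  have sd : s * d = d * s := H.Qs hd.1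
  have a1 := H.swap.us hd.2
  have a2 := H.swap.uz' hd'
  rw [th, mul_one] at a2
  have a3 : h * d * h⁻¹ * s * (h * d * h⁻¹)⁻¹ = s * d := by
    have := cj_two a1 a2
    rwa [← mul_assoc (s * z), H.sz_z] at this
  have a4 : h * d * h⁻¹ * d * (h * d * h⁻¹)⁻¹ = d := cj_of_cm (H.swap.phi0 hd.2 (H.Cz hd)).symm
  have b1 := H.us hc.1
  have b2 : g * c * g⁻¹ * d * (g * c * g⁻¹)⁻¹ = s * d := by
    calc _ = (⟬d, g * c * g⁻¹⟭)⁻¹ * d := by group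
      _ = _ := by rw [e, H.si]
  have b3 : g * c * g⁻¹ * (s * d) * (g * c * g⁻¹)⁻¹ = d := by
    rw [cj_two b1 b2, ← mul_assoc, H.ss, one_mul]
  have a5 : h * d * h⁻¹ * (s * d) * (h * d * h⁻¹)⁻¹ = s := by
    rw [cj_two a3 a4, mul_assoc, dd, mul_one]
  obtain ⟨n, hn⟩ := cyc3 (cj_mul a3 b3) (cj_mul a4 b2) (cj_mul a5 b1) fun e => H.sC (e ▸ hd)
  have w1 : zpowers s ⊔ zpowers z ≤ RA s z := sup_le (zpowers_le.2 H.sR) (zpowers_le.2 H.zR)
  have w2 := sup_le w1 (zpowers_le.2 (H.CR hc))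
  have w3 := sup_le w2 (zpowers_le.2 (H.CR hd))
  have k1 := H.card_sup_le (zpowers_le.2 H.sR) (zpowers_le.2 H.zR)
  have k2 := H.card_sup_le w1 (zpowers_le.2 (H.CR hc))
  have k3 := H.card_sup_le w2 (zpowers_le.2 (H.CR hd))
  have k4 : Nat.card ↥(zpowers s ⊔ zpowers z ⊔ zpowers c ⊔ zpowers d) ≤ 2 * 2 * 2 * 2 :=
    k3.trans (Nat.mul_le_mul (k2.trans (Nat.mul_le_mul (k1.trans (Nat.mul_le_mul (H.card_zp_le H.sR)
      (H.card_zp_le H.zR))) (H.card_zp_le (H.CR hc)))) (H.card_zp_le (H.CR hd)))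
  have sW : s ∈ zpowers s ⊔ zpowers z ⊔ zpowers c ⊔ zpowers d :=
    mem_sup_left (mem_sup_left (mem_sup_left (mem_zpowers s)))
  have zW : z ∈ zpowers s ⊔ zpowers z ⊔ zpowers c ⊔ zpowers d :=
    mem_sup_left (mem_sup_left (mem_sup_right (mem_zpowers z)))
  have cW : c ∈ zpowers s ⊔ zpowers z ⊔ zpowers c ⊔ zpowers d :=
    mem_sup_left (mem_sup_right (mem_zpowers c))
  have dW : d ∈ zpowers s ⊔ zpowers z ⊔ zpowers c ⊔ zpowers d := mem_sup_right (mem_zpowers d)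
  generalize zpowers s ⊔ zpowers z ⊔ zpowers c ⊔ zpowers d = W at *
  have m : (g * c * g⁻¹ * (h * d * h⁻¹)) ^ n ∈ stabQ (RA s z) W :=
    pow_mem (mul_mem (mem_stabQ w3 (H.uR' hc) (H.uW hc sW cW))
      (mem_stabQ w3 (H.RA_swap ▸ H.swap.uR' hd') (H.RA_swap ▸ H.swap.uW hd' (mul_mem sW zW) dW))) n
  generalize (g * c * g⁻¹ * (h * d * h⁻¹)) ^ n = y' at *
  have k5 := H.f1 hn (D := RA s z ⊓ 𝐂[y']) (fun d => H.R3 (d.trans (card_dvd_of_le inf_le_left)))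
    inf_le_right
  have k6 := H.card_sup_le w3 (inf_le_left : RA s z ⊓ 𝐂[y'] ≤ _)
  have k7 : Nat.card (RA s z) ≤ Nat.card ↥(W ⊔ RA s z ⊓ 𝐂[y']) := card_le_of_le fun r hr => by
    obtain ⟨w, hw, c, hc, e, rfl⟩ := small hn m.1 H.R3 m.2.2 w3 hr
    exact mul_mem (mem_sup_left hw) (mem_sup_right ⟨hc, mem_cent1.2 e⟩)
  have k8 := k7.trans (k6.trans (Nat.mul_le_mul k4 k5))
  rw [H.card_R] at k8
  omega

theorem eq_four (h8 : Nat.card (CZ K t) ≤ 8) : Nat.card (CZ K t) = 4 := by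
  have m := ((H.fpR hq).sub bot_le (fun _ => H.CR) (H.yC hq)).modEq
  rw [relIndex_bot_left] at m
  obtain ⟨k, hk⟩ := IsPGroup.iff_card.1 ((isPGroup_core 2 K).to_inf_left (K := QQ (MulAut.conj t • K)))
  have : 2 ∣ Nat.card (CZ K t) := by
    rw [hk] at hq ⊢
    exact dvd_pow_self 2 (by rintro rfl; simp at hq)
  omega

theorem hone4 (h4 : Nat.card (CZ K t) = 4) {c d : G} (hc : c ∈ CZ K t) (hd : d ∈ CZ K t) :
    c * (g * d * g⁻¹) = g * d * g⁻¹ * c := by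
  obtain ⟨a, ha, ax⟩ : ∃ a ∈ CZ K t, a * x ≠ x * a := by
    by_contra hn
    push Not at hn
    obtain ⟨k, hk, k1⟩ := (bot_or_exists_ne_one (CZ K t)).resolve_left fun e => by
      rw [e, card_bot] at h4; omega
    have := H.le_two hk k1 (fun _ hc => H.ab hk hc) (hn k hk).symm (by
      have := hn _ (inv_conj_mem_of_mem_normalizer H.tC hk)
      calc _ = t * (x * (t⁻¹ * k * t)) * t⁻¹ := by group
        _ = _ := by rw [← this]; group)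
    omega
  have eC : ⟬a, x⟭ ∈ CZ K t := by
    rw [show ⟬a, x⟭ = a * (x * a⁻¹ * x⁻¹) by group]
    exact mul_mem ha (H.xC hq (inv_mem ha))
  have e1 : ⟬a, x⟭ ≠ 1 := fun e => ax (cm_of_br e)
  have a1 : a ≠ 1 := fun e => ax (by rw [e, one_mul, mul_one])
  have ea : ⟬a, x⟭ ≠ a := fun e => a1 (by
    have : x * a⁻¹ * x⁻¹ = 1 := by
      calc _ = a⁻¹ * ⟬a, x⟭ := by group
        _ = 1 := by rw [e, inv_mul_cancel]
    exact inv_eq_one.1 (conj_eq_one_iff.1 this))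
  have k1 : Commute a (g * ⟬a, x⟭ * g⁻¹) := H.kapx ha
  generalize ⟬a, x⟭ = e at *
  have k2 : Commute e (g * a * g⁻¹) := cm_of_br (by
    rw [H.hsym eC.1 ha.1 (H.Cz eC) (H.Cz ha) (H.ab eC ha), br_of_cm k1])
  have k3 : Commute a (g * a * g⁻¹) := H.phi0 ha.1 (H.Cz ha)
  have k4 : Commute e (g * e * g⁻¹) := H.phi0 eC.1 (H.Cz eC)
  have aa := H.sq ha
  have l := M12C.mem_of_nodup (Q := CZ K t) (l := [1, a, e, a * e]) (by
    have : a * e ≠ 1 := fun h => ea (by rw [← inv_self aa]; exact (inv_eq_of_mul_eq_one_right h).symm)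
    simp [a1.symm, e1.symm, ea.symm, this.symm, e1, a1]) (by
    simp only [List.mem_cons, List.not_mem_nil, or_false]
    rintro _ (rfl | rfl | rfl | rfl)
    exacts [one_mem _, ha, eC, mul_mem ha eC]) h4.le
  have k5 : ∀ v, Commute a v → Commute e v → Commute c v := fun v h1 h2 => by
    have := l c hc
    simp only [List.mem_cons, List.not_mem_nil, or_false] at this
    rcases this with rfl | rfl | rfl | rfl
    exacts [Commute.one_left v, h1, h2, h1.mul_left h2]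
  have := l d hd
  simp only [List.mem_cons, List.not_mem_nil, or_false] at this
  rcases this with rfl | rfl | rfl | rfl
  · simp
  · exact k5 _ k3 k2
  · exact k5 _ k1 k4
  · rw [← conj_mul]; exact k5 _ (k3.mul_right k1) (k2.mul_right k4)

theorem hone {c d : G} (hc : c ∈ CZ K t) (hd : d ∈ CZ K t) : ⟬c, g * d * g⁻¹⟭ = 1 := by
  refine (H.uc hc.1 hd.1 (H.ab hc hd)).resolve_right fun e => H.s1 ?_
  rw [← e]
  refine br_of_cm (H.hone4 hq (H.eq_four hq ?_) hc hd)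
  rcases H.th hc.1 with e1 | e1
  · rcases H.th hd.1 with e2 | e2
    · have p := H.polar hc.1 hd.1 (H.Cz hc) (H.Cz hd) (H.ab hc hd)
      rw [e1, e2, e, one_mul, one_mul] at p
      refine H.le_eight hq hd (mul_mem hc hd) p ?_
      rw [show ⟬c * d, g * d * g⁻¹⟭ = c * ⟬d, g * d * g⁻¹⟭ * c⁻¹ * ⟬c, g * d * g⁻¹⟭ by group,
        br_of_cm (H.phi0 hd.1 (H.Cz hd)), e]
      group
    · exact H.le_eight hq hc hd e2 (by rw [H.hsym hd.1 hc.1 (H.Cz hd) (H.Cz hc) (H.ab hd hc), e])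
  · exact H.le_eight hq hd hc e1 e

theorem tr_mul {c d : G} (hc : c ∈ CZ K t) (hd : d ∈ CZ K t) : tr g (c * d) = tr g c * tr g d := by
  rw [H.polar hc.1 hd.1 (H.Cz hc) (H.Cz hd) (H.ab hc hd), H.hone hq hc hd, mul_one]

theorem trg1 {c : G} (hc : c ∈ CZ K t) : tr g c = 1 := by
  refine (H.th hc.1).resolve_right fun e => ?_
  have hd := conj_mem_of_mem_normalizer H.tC hc
  have e2 : tr h (t * c * t⁻¹) = s * z := by rw [H.hd, tr_conj, e, H.tst]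
  have e3 := (H.swap.th hc.2).resolve_right (H.no11 hq hc e)
  have e4 := (H.th hd.1).resolve_right fun e' => H.no11 hq hd e' e2
  refine H.no11 hq (mul_mem hc hd) (by rw [H.tr_mul hq hc hd, e, e4, mul_one]) ?_
  rw [H.swap.tr_mul (H.CZ_swap ▸ hq) (H.CZ_swap ▸ hc) (H.CZ_swap ▸ hd), e3, e2, one_mul]

theorem big_false : False := by
  set P := stabQ (RA s z) (CZ K t) ⊓ 𝐂(CZ K t) with hP
  have CR : CZ K t ≤ RA s z := fun _ => H.CR
  have cP : ∀ n ∈ P, ∀ c ∈ CZ K t, n * c * n⁻¹ = c := fun n hn c hc =>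
    cj_of_cm (mem_centralizer_iff.1 hn.2 c hc).symm
  have uP : ∀ d ∈ CZ K t, g * d * g⁻¹ ∈ P := fun d hd => by
    refine ⟨mem_stabQ CR (H.uR' hd) (H.brW (H.uR' hd) ?_ ?_ fun c hc => ?_),
      mem_centralizer_iff.2 fun c hc => cm_of_br (H.hone hq hc hd)⟩
    · rw [H.us hd.1, mul_inv_cancel]; exact one_mem _
    · rwa [H.br_uz hd, H.trg1 hq hd, mul_one]
    · rw [br_of_cm (cm_of_br (H.hone hq hc hd)).symm]; exact one_mem _
  have RP : RA s z ≤ P := fun r hr =>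
    ⟨mem_stabQ CR (le_normalizer hr) fun r' hr' => H.brR hr hr',
      mem_centralizer_iff.2 fun c hc => H.abR (CR hc) hr⟩
  have nP : ∀ v ∈ 𝐍(RA s z), v ∈ 𝐍(CZ K t) → ∀ n ∈ P, v * n * v⁻¹ ∈ P := fun v h1 h2 n hn => by
    refine ⟨mem_stabQ CR (mul_mem (mul_mem h1 hn.1.1) (inv_mem h1)) fun r hr => ?_,
      conj_mem_of_mem_normalizer (normalizer_le_normalizer_centralizer _ h2) hn.2⟩
    rw [show ⟬v * n * v⁻¹, r⟭ = v * ⟬n, v⁻¹ * r * v⟭ * v⁻¹ by group]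
    exact conj_mem_of_mem_normalizer h2 (hn.1.2.2 _ (inv_conj_mem_of_mem_normalizer h1 hr))
  have δ : ∀ a ∈ P, ∀ b ∈ P, ∀ r ∈ RA s z, ⟬a * b, r⟭ = ⟬b, r⟭ * ⟬a, r⟭ := fun a ha b hb r hr => by
    rw [show ⟬a * b, r⟭ = a * ⟬b, r⟭ * a⁻¹ * ⟬a, r⟭ by group, cP a ha _ (hb.1.2.2 r hr)]
  have mR : ∀ n, (∀ r ∈ RA s z, ⟬n, r⟭ = 1) → n ∈ RA s z := fun n hn =>
    H.mem_R'.2 ⟨(cm_of_br (hn s H.sR)).symm, (cm_of_br (hn z H.zR)).symm⟩
  have P3 : ¬ 3 ∣ Nat.card P := ndvd_of_pg2 fun n => ⟨2, Subtype.ext (by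
    have := H.sqR' (mR (n * n) fun r hr => by rw [δ _ n.2 _ n.2 r hr, H.sq (n.2.1.2.2 r hr)])
    calc (n : G) ^ 2 ^ 2 = n * n * (n * n) := by rw [pow_two, pow_mul, pow_two, pow_two]
      _ = 1 := this)⟩
  have cm : ∀ a ∈ P, ∀ b ∈ P, (b * a)⁻¹ * (a * b) ∈ RA s z := fun a ha b hb => mR _ fun r hr => by
    have e : ⟬a * b, r⟭ = ⟬b * a, r⟭ := by
      rw [δ a ha b hb r hr, δ b hb a ha r hr, H.ab (hb.1.2.2 r hr) (ha.1.2.2 r hr)]
    calc _ = (b * a)⁻¹ * (⟬a * b, r⟭ * (⟬b * a, r⟭)⁻¹) * (b * a) := by group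
      _ = 1 := by rw [e]; group
  have key : ∀ d ∈ CZ K t, ∃ a ∈ P, y * a = a * y ∧ ⟬a, s⟭ = d := fun d hd => by
    have u0 := uP d hd
    have us := H.us hd.1
    have uz := H.br_uz hd
    rw [H.trg1 hq hd, mul_one] at uz
    generalize g * d * g⁻¹ = u at *
    have u1 := nP y H.yR (H.yC hq) u u0
    have u2 := nP y⁻¹ (inv_mem H.yR) (inv_mem (H.yC hq)) u u0
    rw [inv_inv] at u2
    obtain ⟨k, hk, e⟩ := fix_coset (a := u * (y * u * y⁻¹ * (y⁻¹ * u * y))) H.oy H.yR H.R3 (by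
      have := cm _ (mul_mem u1 u2) u u0
      rwa [show y * (u * (y * u * y⁻¹ * (y⁻¹ * u * y))) * y⁻¹ =
        y * u * y⁻¹ * (y * (y * u * y⁻¹) * y⁻¹) * u by group, conj2 H.oy])
    refine ⟨_, mul_mem (mul_mem u0 (mul_mem u1 u2)) (RP hk), e, ?_⟩
    have f0 : ⟬u, s⟭ = 1 := by rw [us, mul_inv_cancel]
    have f1 : ⟬y * u * y⁻¹, s⟭ = y * d * y⁻¹ := by rw [← H.yz, ← uz]; group
    have f2 : ⟬y⁻¹ * u * y, s⟭ = y⁻¹ * d * y := by
      calc _ = y⁻¹ * ⟬u, y * s * y⁻¹⟭ * y := by group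
        _ = y⁻¹ * (⟬u, s⟭ * (s * ⟬u, z⟭ * s⁻¹)) * y := by rw [H.ys]; group
        _ = _ := by rw [f0, uz, one_mul, cj_of_cm (H.Cs hd).symm]
    rw [δ _ (mul_mem u0 (mul_mem u1 u2)) k (RP hk) s H.sR, δ u u0 _ (mul_mem u1 u2) s H.sR,
      δ _ u1 _ u2 s H.sR, f0, f1, f2, br_of_cm (H.Rs k hk).symm, one_mul, mul_one,
      H.ab (inv_conj_mem_of_mem_normalizer (H.yC hq) hd) (conj_mem_of_mem_normalizer (H.yC hq) hd)]
    calc _ = d⁻¹ * tr y d := by unfold tr; group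
      _ = d := by rw [H.try1 hq (CR hd), mul_one, inv_self (H.sq hd)]
  obtain ⟨d, hd, d1⟩ := (bot_or_exists_ne_one (CZ K t)).resolve_left fun e => by
    rw [e, card_bot] at hq; omega
  obtain ⟨d', hd', n⟩ : ∃ d' ∈ CZ K t, d' ∉ zpowers d := by
    by_contra hn
    push Not at hn
    have := card_le_of_le (show CZ K t ≤ zpowers d from hn)
    rw [card_zp2 (H.sq hd) d1] at this
    omega
  obtain ⟨a, ha, ca, ea⟩ := key d hd
  obtain ⟨b, hb, cb, eb⟩ := key d' hd'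
  rcases H.f1' H.oy P3 ha hb ca cb with rfl | rfl | rfl
  · exact d1 (by rw [← ea]; group)
  · exact n (by rw [← eb]; simp)
  · exact n (by rw [← eb, ea]; exact mem_zpowers d)

end big

end BT

end Cfsg.Agent.M9
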