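import Cfsg.Agent.M9.Defs

/-!
# The facts about `PSL(2, 7)` used in case (c)
-/

set_option autoImplicit false
set_option linter.unusedSectionVars false

namespace Cfsg.Agent.M9

open Matrix

/-- The configuration around an `S3 = ⟨g, z⟩` of `PSL(2, 7)`. -/
structure Mod7 {L : Type*} [Group L] (g z g1 g2 a b : L) : Prop where
  o1 : g1 ^ 3 = 1
  o2 : g2 ^ 3 = 1
  n1 : g1 ≠ 1
  n2 : g2 ≠ 1
  ad : a = g1 * z * g1⁻¹
  bd : b = g2 * z * g2⁻¹
  t1 : z * a * (g1⁻¹ * z * g1) = 1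
  t2 : z * b * (g2⁻¹ * z * g2) = 1
  b1 : b * g1 * b⁻¹ = g1⁻¹
  a2 : a * g2 * a⁻¹ = g2⁻¹
  ab : a * b * (a * b) = z
  ta : a * (g * a * g⁻¹) * (g⁻¹ * a * g) = 1
  tb : b * (g * b * g⁻¹) * (g⁻¹ * b * g) = 1
  cz : ∀ x, x * z = z * x → x = 1 ∨ x = z ∨ x = a ∨ x = z * a ∨ x = b ∨ x = z * b ∨ x = a * b ∨
    x = z * (a * b)
  cls : ∀ x, x * x = 1 → x = 1 ∨ ∃ n, n * x * n⁻¹ = z

theorem Mod7.map {L : Type*} [Group L] {g z g1 g2 a b : L} (h : Mod7 g z g1 g2 a b) (f : L ≃* L) :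
    Mod7 (f g) (f z) (f g1) (f g2) (f a) (f b) where
  o1 := by rw [← map_pow, h.o1, map_one]
  o2 := by rw [← map_pow, h.o2, map_one]
  n1 := by simpa using h.n1
  n2 := by simpa using h.n2
  ad := by simpa using congrArg f h.ad
  bd := by simpa using congrArg f h.bd
  t1 := by simpa only [map_mul, map_inv, map_one] using congrArg f h.t1
  t2 := by simpa only [map_mul, map_inv, map_one] using congrArg f h.t2
  b1 := by simpa only [map_mul, map_inv] using congrArg f h.b1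
  a2 := by simpa only [map_mul, map_inv] using congrArg f h.a2
  ab := by simpa only [map_mul] using congrArg f h.ab
  ta := by simpa only [map_mul, map_inv, map_one] using congrArg f h.ta
  tb := by simpa only [map_mul, map_inv, map_one] using congrArg f h.tb
  cz := fun x hx => by
    obtain ⟨y, rfl⟩ := f.surjective x
    simpa only [← map_mul, map_eq_one_iff f f.injective, f.apply_eq_iff_eq] using
      h.cz y (by simpa only [← map_mul, f.apply_eq_iff_eq] using hx)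
  cls := fun x hx => by
    obtain ⟨y, rfl⟩ := f.surjective x
    rcases h.cls y (by simpa only [← map_mul, map_eq_one_iff f f.injective] using hx) with e | ⟨n, e⟩
    · left; rw [e, map_one]
    · right; exact ⟨f n, by simpa only [map_mul, map_inv] using congrArg f e⟩

abbrev SL7 := SpecialLinearGroup (Fin 2) (ZMod 7)

abbrev L7 := ProjectiveSpecialLinearGroup (Fin 2) (ZMod 7)

abbrev Q7 := ZMod 7 × ZMod 7 × ZMod 7 × ZMod 7

def Q7.mul (x y : Q7) : Q7 :=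
  (x.1 * y.1 + x.2.1 * y.2.2.1, x.1 * y.2.1 + x.2.1 * y.2.2.2,
    x.2.2.1 * y.1 + x.2.2.2 * y.2.2.1, x.2.2.1 * y.2.1 + x.2.2.2 * y.2.2.2)

def Q7.inv (x : Q7) : Q7 := (x.2.2.2, -x.2.1, -x.2.2.1, x.1)

def Q7.neg (x : Q7) : Q7 := (-x.1, -x.2.1, -x.2.2.1, -x.2.2.2)

def Q7.det (x : Q7) : ZMod 7 := x.1 * x.2.2.2 - x.2.1 * x.2.2.1

def Q7.E (x y : Q7) : Prop := x = y ∨ x = y.neg

instance (x y : Q7) : Decidable (x.E y) := by unfold Q7.E; infer_instance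

def q7 (A : SL7) : Q7 := (A.1 0 0, A.1 0 1, A.1 1 0, A.1 1 1)

def s7 (x : Q7) (h : x.det = 1) : SL7 :=
  ⟨!![x.1, x.2.1; x.2.2.1, x.2.2.2], by rw [det_fin_two_of]; exact h⟩

def p7 (A : SL7) : L7 := QuotientGroup.mk A

theorem q7_s7 (x : Q7) (h : x.det = 1) : q7 (s7 x h) = x := rfl

theorem q7_det (A : SL7) : (q7 A).det = 1 := by
  have := A.2
  rw [det_fin_two] at this
  exact this

theorem q7_mul (A B : SL7) : q7 (A * B) = (q7 A).mul (q7 B) := by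
  simp [q7, Q7.mul, Matrix.mul_apply, Fin.sum_univ_two]

theorem q7_inv (A : SL7) : q7 A⁻¹ = (q7 A).inv := by
  simp [q7, Q7.inv, adjugate_fin_two]

theorem q7_one : q7 1 = (1, 0, 0, 1) := by simp [q7]

theorem q7_inj {A B : SL7} (h : q7 A = q7 B) : A = B := by
  simp only [q7, Prod.mk.injEq] at h
  ext i j
  fin_cases i <;> fin_cases j <;> simp [h]

theorem p7_mul (A B : SL7) : p7 A * p7 B = p7 (A * B) := rfl

theorem p7_inv (A : SL7) : (p7 A)⁻¹ = p7 A⁻¹ := rfl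

theorem p7_one : (1 : L7) = p7 1 := rfl

theorem p7_surj (x : L7) : ∃ A, x = p7 A := by
  obtain ⟨A, rfl⟩ := QuotientGroup.mk_surjective x
  exact ⟨A, rfl⟩

theorem p7_eq {A B : SL7} : p7 A = p7 B ↔ (q7 A).E (q7 B) := by
  have key : ∀ x y : Q7, y.det = 1 → x.det = 1 → ((y.inv.mul x).E (1, 0, 0, 1) ↔ x.E y) := by
    rintro ⟨a, b, c, d⟩ ⟨e, f, g, h⟩ h1 h2
    simp only [Q7.E, Q7.mul, Q7.inv, Q7.neg, Q7.det, Prod.mk.injEq, neg_zero] at *
    constructor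
    · rintro (⟨k1, k2, k3, k4⟩ | ⟨k1, k2, k3, k4⟩)
      · left
        refine ⟨?_, ?_, ?_, ?_⟩
        · linear_combination e * k1 + f * k3 - a * h1
        · linear_combination e * k2 + f * k4 - b * h1
        · linear_combination g * k1 + h * k3 - c * h1
        · linear_combination g * k2 + h * k4 - d * h1
      · right
        refine ⟨?_, ?_, ?_, ?_⟩
        · linear_combination e * k1 + f * k3 - a * h1
        · linear_combination e * k2 + f * k4 - b * h1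
        · linear_combination g * k1 + h * k3 - c * h1
        · linear_combination g * k2 + h * k4 - d * h1
    · rintro (⟨rfl, rfl, rfl, rfl⟩ | ⟨rfl, rfl, rfl, rfl⟩)
      · left
        refine ⟨?_, ?_, ?_, ?_⟩
        · linear_combination h1
        · ring
        · ring
        · linear_combination h1
      · right
        refine ⟨?_, ?_, ?_, ?_⟩
        · linear_combination -h1
        · ring
        · ring
        · linear_combination -h1
  rw [← key _ _ (q7_det B) (q7_det A), ← q7_inv, ← q7_mul, eq_comm]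
  unfold p7
  rw [QuotientGroup.eq]
  generalize B⁻¹ * A = C
  rw [Matrix.SpecialLinearGroup.mem_center_iff]
  constructor
  · rintro ⟨r, hr, e⟩
    have : ∀ r : ZMod 7, r ^ 2 = 1 → r = 1 ∨ r = -1 := by decide
    have e' : q7 C = (r, 0, 0, r) := by simp [q7, ← e]
    rcases this r (by simpa using hr) with rfl | rfl
    · exact Or.inl e'
    · exact Or.inr (by rw [e']; decide)
  · rintro (e | e)
    · refine ⟨1, by simp, ?_⟩
      rw [q7_inj (e.trans q7_one.symm)]; simp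
    · refine ⟨-1, by simp, ?_⟩
      simp only [q7, Q7.neg, Prod.mk.injEq, neg_zero] at e
      ext i j
      fin_cases i <;> fin_cases j <;> simp [e]

def z7 : Q7 := (0, 1, 6, 0)

def g7 : Q7 := (1, 2, 2, 5)

def l7 : List Q7 := (List.range 7).flatMap fun a => (List.range 7).flatMap fun b =>
  (List.range 7).flatMap fun c => ((List.range 7).map fun d =>
    (((a : ℕ) : ZMod 7), ((b : ℕ) : ZMod 7), ((c : ℕ) : ZMod 7), ((d : ℕ) : ZMod 7))).filter
      fun x : Q7 => x.det = 1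

theorem cls7 : ∀ a b c d : ZMod 7, Q7.det (a, b, c, d) = 1 →
    (Q7.mul (a, b, c, d) (a, b, c, d)).E (1, 0, 0, 1) → Q7.E (a, b, c, d) (1, 0, 0, 1) ∨
      ∃ n ∈ l7, n.det = 1 ∧ ((n.mul (a, b, c, d)).mul n.inv).E z7 := by
  decide +kernel

theorem nrm7 : ∀ a b c d : ZMod 7, Q7.det (a, b, c, d) = 1 →
    ((Q7.mul (a, b, c, d) (a, b, c, d)).mul (a, b, c, d)).E (1, 0, 0, 1) →
    ¬ Q7.E (a, b, c, d) (1, 0, 0, 1) → ((z7.mul (a, b, c, d)).mul z7.inv).E (Q7.inv (a, b, c, d)) →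
      ∃ n ∈ l7, n.det = 1 ∧ ((n.mul z7).mul n.inv).E z7 ∧ ((n.mul g7).mul n.inv).E (a, b, c, d) := by
  decide +kernel

theorem cz7 : ∀ a b c d : ZMod 7, Q7.det (a, b, c, d) = 1 →
    (Q7.mul (a, b, c, d) z7).E (z7.mul (a, b, c, d)) → Q7.E (a, b, c, d) (1, 0, 0, 1) ∨
      Q7.E (a, b, c, d) z7 ∨ Q7.E (a, b, c, d) (2, 4, 4, 5) ∨
      Q7.E (a, b, c, d) (z7.mul (2, 4, 4, 5)) ∨ Q7.E (a, b, c, d) (3, 5, 5, 4) ∨
      Q7.E (a, b, c, d) (z7.mul (3, 5, 5, 4)) ∨ Q7.E (a, b, c, d) (Q7.mul (2, 4, 4, 5) (3, 5, 5, 4)) ∨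
      Q7.E (a, b, c, d) (z7.mul (Q7.mul (2, 4, 4, 5) (3, 5, 5, 4))) := by
  decide +kernel

def Z7 : L7 := p7 (s7 z7 (by decide))

def G7 : L7 := p7 (s7 g7 (by decide))

theorem mod0 : Mod7 G7 Z7 (p7 (s7 (0, 2, 3, 6) (by decide))) (p7 (s7 (2, 1, 0, 4) (by decide)))
    (p7 (s7 (2, 4, 4, 5) (by decide))) (p7 (s7 (3, 5, 5, 4) (by decide))) := by
  unfold G7 Z7
  refine ⟨?_, ?_, ?_, ?_, ?_, ?_, ?_, ?_, ?_, ?_, ?_, ?_, ?_, fun x hx => ?_, fun x hx => ?_⟩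
  iterate 13
    simp only [pow_three', p7_one, p7_inv, p7_mul, Ne, p7_eq, q7_mul, q7_inv, q7_one, q7_s7]
    decide
  · obtain ⟨A, rfl⟩ := p7_surj x
    simp only [p7_one, p7_mul, p7_eq, q7_mul, q7_one, q7_s7] at hx ⊢
    exact cz7 _ _ _ _ (q7_det A) hx
  · obtain ⟨A, rfl⟩ := p7_surj x
    simp only [p7_one, p7_mul, p7_eq, q7_mul, q7_one] at hx ⊢
    rcases cls7 _ _ _ _ (q7_det A) hx with e | ⟨n, -, hn, e⟩
    · exact Or.inl e
    · refine Or.inr ⟨p7 (s7 n hn), ?_⟩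
      simp only [p7_inv, p7_mul, p7_eq, q7_mul, q7_inv, q7_s7]
      exact e

theorem exists_mod7 {g z : L7} (g3 : g ^ 3 = 1) (g1 : g ≠ 1) (zz : z * z = 1) (z1 : z ≠ 1)
    (e : z * g * z⁻¹ = g⁻¹) : ∃ g1 g2 a b, Mod7 g z g1 g2 a b := by
  obtain ⟨m, hm⟩ := (mod0.cls z zz).resolve_left z1
  obtain ⟨A, hA⟩ := p7_surj (m * g * m⁻¹)
  have h3 : p7 A * p7 A * p7 A = 1 := by rw [← hA, ← pow_three', conj_pow, g3]; group
  have h1 : p7 A ≠ 1 := fun h => g1 (by rw [← hA] at h; simpa using h)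
  have h2 : Z7 * p7 A * Z7⁻¹ = (p7 A)⁻¹ := by
    calc _ = m * (z * g * z⁻¹) * m⁻¹ := by rw [← hA, ← hm]; group
      _ = _ := by rw [e, ← hA]; group
  unfold Z7 at h2
  simp only [p7_one, p7_inv, p7_mul, Ne, p7_eq, q7_mul, q7_inv, q7_one, q7_s7] at h1 h2 h3
  obtain ⟨n, -, hn, e1, e2⟩ := nrm7 _ _ _ _ (q7_det A) h3 h1 h2
  have f1 : p7 (s7 n hn) * Z7 * (p7 (s7 n hn))⁻¹ = Z7 := by
    unfold Z7
    simp only [p7_inv, p7_mul, p7_eq, q7_mul, q7_inv, q7_s7]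
    exact e1
  have f2 : p7 (s7 n hn) * G7 * (p7 (s7 n hn))⁻¹ = p7 A := by
    unfold G7
    simp only [p7_inv, p7_mul, p7_eq, q7_mul, q7_inv, q7_s7]
    exact e2
  have := mod0.map (MulAut.conj (m⁻¹ * p7 (s7 n hn)))
  have k1 : MulAut.conj (m⁻¹ * p7 (s7 n hn)) G7 = g := by
    calc _ = m⁻¹ * (p7 (s7 n hn) * G7 * (p7 (s7 n hn))⁻¹) * m := by simp [mul_assoc]
      _ = g := by rw [f2, ← hA]; group
  have k2 : MulAut.conj (m⁻¹ * p7 (s7 n hn)) Z7 = z := by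
    calc _ = m⁻¹ * (p7 (s7 n hn) * Z7 * (p7 (s7 n hn))⁻¹) * m := by simp [mul_assoc]
      _ = z := by rw [f1, ← hm]; group
  rw [k1, k2] at this
  exact ⟨_, _, _, _, this⟩

theorem card_L7 : Nat.card L7 = 168 := by
  haveI : Fact (Nat.Prime 7) := ⟨by norm_num⟩
  have c := PSL2Rec.card_psl2 (F := ZMod 7)
  rw [ZMod.card] at c
  have e : Nat.gcd 2 (7 - 1) = 2 := by norm_num
  rw [e] at c
  exact Nat.eq_of_mul_eq_mul_left two_pos c

end Cfsg.Agent.M9
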