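import Cfsg.Agent.M9.Fp
import Cfsg.Agent.Char.SEmb
import Cfsg.Agent.Wong.Grp

/-!
# Case (c), the `2`-group of order `128`
-/

set_option autoImplicit false
set_option linter.unusedSectionVars false
set_option linter.unusedSimpArgs false

namespace Cfsg.Agent.M9

open Subgroup Cfsg.Agent.Local Cfsg.Agent.FT Cfsg.Agent.Char Cfsg.Agent.Z6
open scoped Pointwise

universe u

variable {G : Type u} [Group G] [Finite G]

theorem rw3 {x y w : G} (h : x * y = w) (r : G) : x * (y * r) = w * r := by rw [← mul_assoc, h]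

theorem cjc {z x y : G} (h : IsConj z x) (n : G) (e : n * x * n⁻¹ = y) : IsConj z y :=
  h.trans (isConj_iff.2 ⟨n, e⟩)

/-- The relations of `⟨s, z, τ, a, b, v, w⟩` without the commutator of `v` and `w`. -/
structure R3 (s z τ a b v w : G) : Prop where
  ss : s * s = 1
  zz : z * z = 1
  ττ : τ * τ = 1
  aa : a * a = 1
  bb : b * b = 1
  vv : v * v = 1
  ww : w * w = 1
  zs : z * s = s * z
  τs : τ * s = s * (z * τ)
  as : a * s = s * a
  bs : b * s = s * b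
  vs : v * s = s * (a * v)
  ws : w * s = s * (b * w)
  τz : τ * z = z * τ
  az : a * z = z * a
  bz : b * z = z * b
  vz : v * z = z * v
  wz : w * z = z * w
  aτ : a * τ = τ * a
  bτ : b * τ = τ * b
  vτ : v * τ = τ * v
  wτ : w * τ = τ * w
  ba : b * a = z * (a * b)
  va : v * a = a * v
  wa : w * a = τ * (a * w)
  vb : v * b = τ * (b * v)
  wb : w * b = b * w
  z1 : z ≠ 1

/-- Collection rules. -/
theorem R3.col {s z τ a b v w : G} (h : R3 s z τ a b v w) :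
    s⁻¹ = s ∧ z⁻¹ = z ∧ τ⁻¹ = τ ∧ a⁻¹ = a ∧ b⁻¹ = b ∧ v⁻¹ = v ∧ w⁻¹ = w ∧ s * s = 1 ∧
    (∀ r, s * (s * r) = 1 * r) ∧ z * z = 1 ∧ (∀ r, z * (z * r) = 1 * r) ∧ τ * τ = 1 ∧
    (∀ r, τ * (τ * r) = 1 * r) ∧ a * a = 1 ∧ (∀ r, a * (a * r) = 1 * r) ∧ b * b = 1 ∧
    (∀ r, b * (b * r) = 1 * r) ∧ v * v = 1 ∧ (∀ r, v * (v * r) = 1 * r) ∧ w * w = 1 ∧
    (∀ r, w * (w * r) = 1 * r) ∧ z * s = s * z ∧ (∀ r, z * (s * r) = (s * z) * r) ∧
    τ * s = s * (z * τ) ∧ (∀ r, τ * (s * r) = (s * (z * τ)) * r) ∧ a * s = s * a ∧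
    (∀ r, a * (s * r) = (s * a) * r) ∧ b * s = s * b ∧ (∀ r, b * (s * r) = (s * b) * r) ∧
    v * s = s * (a * v) ∧ (∀ r, v * (s * r) = (s * (a * v)) * r) ∧ w * s = s * (b * w) ∧
    (∀ r, w * (s * r) = (s * (b * w)) * r) ∧ τ * z = z * τ ∧ (∀ r, τ * (z * r) = (z * τ) * r) ∧
    a * z = z * a ∧ (∀ r, a * (z * r) = (z * a) * r) ∧ b * z = z * b ∧
    (∀ r, b * (z * r) = (z * b) * r) ∧ v * z = z * v ∧ (∀ r, v * (z * r) = (z * v) * r) ∧
    w * z = z * w ∧ (∀ r, w * (z * r) = (z * w) * r) ∧ a * τ = τ * a ∧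
    (∀ r, a * (τ * r) = (τ * a) * r) ∧ b * τ = τ * b ∧ (∀ r, b * (τ * r) = (τ * b) * r) ∧
    v * τ = τ * v ∧ (∀ r, v * (τ * r) = (τ * v) * r) ∧ w * τ = τ * w ∧
    (∀ r, w * (τ * r) = (τ * w) * r) ∧ b * a = z * (a * b) ∧
    (∀ r, b * (a * r) = (z * (a * b)) * r) ∧ v * a = a * v ∧ (∀ r, v * (a * r) = (a * v) * r) ∧
    w * a = τ * (a * w) ∧ (∀ r, w * (a * r) = (τ * (a * w)) * r) ∧ v * b = τ * (b * v) ∧
    (∀ r, v * (b * r) = (τ * (b * v)) * r) ∧ w * b = b * w ∧ (∀ r, w * (b * r) = (b * w) * r) :=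
  ⟨inv_self h.ss, inv_self h.zz, inv_self h.ττ, inv_self h.aa, inv_self h.bb, inv_self h.vv,
    inv_self h.ww, h.ss, rw3 h.ss, h.zz, rw3 h.zz, h.ττ, rw3 h.ττ, h.aa, rw3 h.aa, h.bb, rw3 h.bb,
    h.vv, rw3 h.vv, h.ww, rw3 h.ww, h.zs, rw3 h.zs, h.τs, rw3 h.τs, h.as, rw3 h.as, h.bs,
    rw3 h.bs, h.vs, rw3 h.vs, h.ws, rw3 h.ws, h.τz, rw3 h.τz, h.az, rw3 h.az, h.bz, rw3 h.bz,
    h.vz, rw3 h.vz, h.wz, rw3 h.wz, h.aτ, rw3 h.aτ, h.bτ, rw3 h.bτ, h.vτ, rw3 h.vτ, h.wτ,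
    rw3 h.wτ, h.ba, rw3 h.ba, h.va, rw3 h.va, h.wa, rw3 h.wa, h.vb, rw3 h.vb, h.wb, rw3 h.wb⟩

theorem col0 : (∀ x y w : G, x * y * w = x * (y * w)) ∧ (∀ x y : G, (x * y)⁻¹ = y⁻¹ * x⁻¹) ∧
    (1 : G)⁻¹ = 1 ∧ (∀ x : G, 1 * x = x) ∧ ∀ x : G, x * 1 = x :=
  ⟨mul_assoc, mul_inv_rev, inv_one, one_mul, mul_one⟩

/-- The full set of relations and the fusion data. -/
structure F3 (s z τ a b v w : G) : Prop extends R3 s z τ a b v w where
  wv : w * v = z * (τ * (v * w))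
  nz : ¬ IsConj s z
  ca : IsConj z a
  cb : IsConj z b
  cτ : IsConj z τ
  cv : IsConj z v
  cw : IsConj z w
  s1 : s ≠ 1
  cz : ∀ x, x * s = s * x → x * z = z * x → ∃ u, (u = 1 ∨ u = s ∨ u = z ∨ u = s * z) ∧
    (x = u ∨ x = u * a ∨ x = u * b ∨ x = u * (a * b))
  h2 : ∀ M : Subgroup G, M.index ≠ 2

namespace R3

variable {s z τ a b v w : G} (h : R3 s z τ a b v w)
include h

theorem swap : R3 s z τ b a w v :=
  { h with
    aa := h.bb, bb := h.aa, vv := h.ww, ww := h.vv, as := h.bs, bs := h.as, vs := h.ws, ws := h.vs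
    az := h.bz, bz := h.az, vz := h.wz, wz := h.vz, aτ := h.bτ, bτ := h.aτ, vτ := h.wτ, wτ := h.vτ
    ba := by simp only [col0, h.col]
    va := h.wb, wa := h.vb, vb := h.wa, wb := h.va }

theorem kZ : Kl z τ := ⟨h.zz, h.ττ, h.τz.symm⟩

theorem kP : Kl a v := ⟨h.aa, h.vv, h.va.symm⟩

theorem kQ : Kl b w := ⟨h.bb, h.ww, h.wb.symm⟩

theorem τ1 : τ ≠ 1 := fun e => h.z1 (by simpa [e] using h.τs)

theorem zτ1 : z * τ ≠ 1 := fun e => h.z1 (by
  have : z * τ * s = s * (z * τ) := by rw [e]; simp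
  simpa [col0, h.col] using this)

theorem cP {c p : G} (hc : c ∈ h.kZ.V) (hp : p ∈ h.kP.V) : p * c = c * p := by
  rcases hc with rfl | rfl | rfl | rfl <;> rcases hp with rfl | rfl | rfl | rfl <;>
    simp only [col0, h.col]

theorem cQ {c q : G} (hc : c ∈ h.kZ.V) (hq : q ∈ h.kQ.V) : q * c = c * q := h.swap.cP hc hq

theorem cC {c d : G} (hc : c ∈ h.kZ.V) (hd : d ∈ h.kZ.V) : d * c = c * d := h.kZ.le_cent hc d hd

end R3

namespace F3

variable {s z τ a b v w : G} (h : F3 s z τ a b v w)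
include h

theorem swap : F3 s z τ b a w v :=
  { h.toR3.swap, h with
    wv := by simp only [col0, h.col, h.wv, rw3 h.wv]
    ca := h.cb, cb := h.ca, cv := h.cw, cw := h.cv
    cz := fun x h1 h2 => by
      obtain ⟨u, hu, e | e | e | e⟩ := h.cz x h1 h2
      · exact ⟨u, hu, Or.inl e⟩
      · exact ⟨u, hu, Or.inr (Or.inr (Or.inl e))⟩
      · exact ⟨u, hu, Or.inr (Or.inl e)⟩
      · refine ⟨u * z, ?_, Or.inr (Or.inr (Or.inr (by rw [e]; simp only [col0, h.col])))⟩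
        rcases hu with rfl | rfl | rfl | rfl <;> simp [col0, h.col] }

theorem cm {p q : G} (hp : p ∈ h.kP.V) (hq : q ∈ h.kQ.V) :
    q * p * (q * p) ∈ h.kZ.V ∧ (q * p * (q * p) = 1 → p = 1 ∨ q = 1) := by
  rcases hp with rfl | rfl | rfl | rfl <;> rcases hq with rfl | rfl | rfl | rfl <;>
    simp [col0, h.col, h.wv, rw3 h.wv, Kl.mem_V, h.z1, h.τ1, h.zτ1]

theorem cm' {p q : G} (hp : p ∈ h.kP.V) (hq : q ∈ h.kQ.V) : q * p = q * p * (q * p) * (p * q) := by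
  calc q * p = q * p * (q * (p * p) * q) := by
        rw [h.kP.sq hp, mul_one, h.kQ.sq hq, mul_one]
    _ = _ := by group

/-- The subgroup of order `64`. -/
def T0 : Subgroup G where
  carrier := {x | ∃ c ∈ h.kZ.V, ∃ p ∈ h.kP.V, ∃ q ∈ h.kQ.V, x = c * p * q}
  one_mem' := ⟨1, one_mem _, 1, one_mem _, 1, one_mem _, by simp⟩
  mul_mem' := by
    rintro _ _ ⟨c, hc, p, hp, q, hq, rfl⟩ ⟨c', hc', p', hp', q', hq', rfl⟩
    obtain ⟨d, hd, e⟩ : ∃ d ∈ h.kZ.V, q * p' = d * (p' * q) := ⟨_, (h.cm hp' hq).1, h.cm' hp' hq⟩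
    refine ⟨c * c' * d, mul_mem (mul_mem hc hc') hd, p * p', mul_mem hp hp', q * q', mul_mem hq hq', ?_⟩
    calc _ = c * p * (q * c') * p' * q' := by group
      _ = c * (p * c') * (q * p') * q' := by rw [h.cQ hc' hq]; group
      _ = c * c' * (p * d) * (p' * q) * q' := by rw [h.cP hc' hp, e]; group
      _ = _ := by rw [h.cP hd hp]; group
  inv_mem' := by
    rintro _ ⟨c, hc, p, hp, q, hq, rfl⟩
    refine ⟨c * (q * p * (q * p)), mul_mem hc (h.cm hp hq).1, p, hp, q, hq, ?_⟩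
    rw [mul_inv_rev, mul_inv_rev, inv_self (h.kZ.sq hc), inv_self (h.kP.sq hp), inv_self (h.kQ.sq hq),
      h.cP hc hp, ← mul_assoc, h.cQ hc hq, mul_assoc, mul_assoc, mul_assoc, ← h.cm' hp hq]

theorem mem_T0 {x : G} : x ∈ h.T0 ↔ ∃ c ∈ h.kZ.V, ∃ p ∈ h.kP.V, ∃ q ∈ h.kQ.V, x = c * p * q := Iff.rfl

theorem sq_T0 {c p q : G} (hc : c ∈ h.kZ.V) (hp : p ∈ h.kP.V) (hq : q ∈ h.kQ.V) :
    c * p * q * (c * p * q) = (q * p * (q * p))⁻¹ := by
  calc _ = c * p * (q * c) * p * q := by group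
    _ = c * (p * c) * q * p * q := by rw [h.cQ hc hq]; group
    _ = c * c * (p * q * p * q) := by rw [h.cP hc hp]; group
    _ = _ := by
      rw [h.kZ.sq hc, mul_inv_rev, mul_inv_rev, inv_self (h.kP.sq hp), inv_self (h.kQ.sq hq)]; group

theorem pT0 : IsPGroup 2 h.T0 := by
  rintro ⟨_, c, hc, p, hp, q, hq, rfl⟩
  refine ⟨2, Subtype.ext ?_⟩
  have e := h.kZ.sq (inv_mem (h.cm hp hq).1)
  rw [← h.sq_T0 hc hp hq] at e
  simpa [pow_succ, mul_assoc] using e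

theorem W1 {c p : G} (hc : c ∈ h.kZ.V) (hp : p ∈ h.kP.V) : c * p = 1 ∨ IsConj z (c * p) := by
  rcases hc with rfl | rfl | rfl | rfl <;> rcases hp with rfl | rfl | rfl | rfl
  · left; simp
  all_goals right
  · exact cjc h.ca 1 (by simp only [col0, h.col])
  · exact cjc h.cv 1 (by simp only [col0, h.col])
  · exact cjc h.cv s (by simp only [col0, h.col])
  · exact cjc (IsConj.refl _) 1 (by simp only [col0, h.col])
  · exact cjc h.ca b (by simp only [col0, h.col])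
  · exact cjc h.cv (b * w) (by simp only [col0, h.col, h.wv, rw3 h.wv])
  · exact cjc h.cv (s * b * w) (by simp only [col0, h.col, h.wv, rw3 h.wv])
  · exact cjc h.cτ 1 (by simp only [col0, h.col])
  · exact cjc h.ca w (by simp only [col0, h.col])
  · exact cjc h.cv b (by simp only [col0, h.col])
  · exact cjc h.cv (s * w) (by simp only [col0, h.col, h.wv, rw3 h.wv])
  · exact cjc h.cτ s (by simp only [col0, h.col])
  · exact cjc h.ca (b * w) (by simp only [col0, h.col])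
  · exact cjc h.cv w (by simp only [col0, h.col, h.wv, rw3 h.wv])
  · exact cjc h.cv (s * b) (by simp only [col0, h.col])

theorem notS {x : G} (hx : x ∈ h.T0) : ¬ IsConj s x := fun hs => by
  obtain ⟨c, hc, p, hp, q, hq, rfl⟩ := hx
  obtain ⟨n, hn⟩ := isConj_iff.1 hs
  have e : c * p * q * (c * p * q) = 1 := by rw [← hn, conj_mul, h.ss]; group
  rw [h.sq_T0 hc hp hq, inv_eq_one] at e
  have k : c * p * q = 1 ∨ IsConj z (c * p * q) := by
    rcases (h.cm hp hq).2 e with rfl | rfl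
    · rw [mul_one]; exact h.swap.W1 hc hq
    · rw [mul_one]; exact h.W1 hc hp
  rcases k with k | k
  · rw [k] at hs; exact h.s1 (isConj_one_left.1 hs)
  · exact h.nz (hs.trans k.symm)

theorem sN : s ∈ 𝐍(h.T0) := by
  refine mem_normalizer_of_conj_mem ?_
  rintro _ ⟨c, hc, p, hp, q, hq, rfl⟩
  refine ⟨s * c * s⁻¹, conj_mem_of_mem_normalizer (h.kZ.mem_norm ?_ ?_) hc, s * p * s⁻¹,
    conj_mem_of_mem_normalizer (h.kP.mem_norm ?_ ?_) hp, s * q * s⁻¹,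
    conj_mem_of_mem_normalizer (h.kQ.mem_norm ?_ ?_) hq, by group⟩ <;> simp [col0, h.col, Kl.mem_V]

theorem mem3 {c p q : G} (hc : c ∈ h.kZ.V) (hp : p ∈ h.kP.V) (hq : q ∈ h.kQ.V) : c * p * q ∈ h.T0 :=
  ⟨c, hc, p, hp, q, hq, rfl⟩

theorem cls {x : G} (hx : x ∈ h.T0) (e : x * s * (x * s) = 1) : ∃ m ∈ h.T0, m * s * m⁻¹ = x * s := by
  obtain ⟨c, hc, p, hp, q, hq, rfl⟩ := hx
  have ea : c * p * q * s * (c * p * q * s) * a = a * (c * p * q * s * (c * p * q * s)) := by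
    rw [e]; simp
  have eb : c * p * q * s * (c * p * q * s) * b = b * (c * p * q * s * (c * p * q * s)) := by
    rw [e]; simp
  have z1 := h.z1
  have hτ : τ ∈ h.kZ.V := by simp [Kl.mem_V]
  have hv : v ∈ h.kP.V := by simp [Kl.mem_V]
  have hw : w ∈ h.kQ.V := by simp [Kl.mem_V]
  rcases hp with rfl | rfl | rfl | rfl <;> rcases hq with rfl | rfl | rfl | rfl <;>
    rcases hc with rfl | rfl | rfl | rfl <;>
    first
    | (simp [col0, h.col, h.wv, rw3 h.wv, z1] at e; done)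
    | (simp [col0, h.col, h.wv, rw3 h.wv, z1] at ea; done)
    | (simp [col0, h.col, h.wv, rw3 h.wv, z1] at eb; done)
    | (refine ⟨_, h.mem3 (one_mem _) (one_mem _) (one_mem _), ?_⟩; simp only [col0, h.col]; done)
    | (refine ⟨_, h.mem3 hτ (one_mem _) (one_mem _), ?_⟩; simp only [col0, h.col]; done)
    | (refine ⟨_, h.mem3 (one_mem _) hv (one_mem _), ?_⟩; simp only [col0, h.col]; done)
    | (refine ⟨_, h.mem3 hτ hv (one_mem _), ?_⟩; simp only [col0, h.col]; done)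
    | (refine ⟨_, h.mem3 (one_mem _) (one_mem _) hw, ?_⟩; simp only [col0, h.col]; done)
    | (refine ⟨_, h.mem3 hτ (one_mem _) hw, ?_⟩; simp only [col0, h.col]; done)
    | (refine ⟨_, h.mem3 (one_mem _) hv hw, ?_⟩; simp only [col0, h.col, h.wv, rw3 h.wv]; done)
    | (refine ⟨_, h.mem3 hτ hv hw, ?_⟩; simp only [col0, h.col, h.wv, rw3 h.wv])

theorem false : False := by
  have s0 : s ∉ h.T0 := fun e => h.notS e (IsConj.refl _)
  have ss : s * s ∈ h.T0 := h.ss ▸ one_mem _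
  have hz : h.T0 ⊔ zpowers s ≤ 𝐂[z] := by
    refine sup_le ?_ (zpowers_le.2 (mem_cent1.2 h.zs))
    rintro _ ⟨c, hc, p, hp, q, hq, rfl⟩
    have hz : z ∈ h.kZ.V := by simp [Kl.mem_V]
    exact mul_mem (mul_mem (mem_cent1.2 (h.cC hc hz)) (mem_cent1.2 (h.cP hz hp).symm))
      (mem_cent1.2 (h.cQ hz hq).symm)
  have sT : s ∈ h.T0 ⊔ zpowers s := mem_sup_right (mem_zpowers s)
  have zT : z ∈ h.T0 ⊔ zpowers s :=
    mem_sup_left (by simpa using h.mem3 (c := z) (by simp [Kl.mem_V]) (one_mem _) (one_mem _))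
  have aT : a ∈ h.T0 ⊔ zpowers s :=
    mem_sup_left (by simpa using h.mem3 (p := a) (one_mem _) (by simp [Kl.mem_V]) (one_mem _))
  have bT : b ∈ h.T0 ⊔ zpowers s :=
    mem_sup_left (by simpa using h.mem3 (q := b) (one_mem _) (one_mem _) (by simp [Kl.mem_V]))
  obtain ⟨x, hx, e⟩ := transfer h.h2 h.ss (T := h.T0 ⊔ zpowers s) (D := h.T0)
    (IsPGroup.to_sup_of_normal_left' h.pT0 (fun ⟨y, hy⟩ => ⟨1, Subtype.ext (by
      rcases (mem_zp2 h.ss).1 hy with rfl | rfl <;> simp [pow_two, h.ss])⟩) (zpowers_le.2 h.sN))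
    le_sup_left (by rw [Wong.card_sup2 h.sN ss s0, mul_comm]) fun n hn _ => by
      rcases Wong.mem_sup2 h.sN ss (conj_mem_of_mem_normalizer hn sT) with k | k
      · exact absurd (isConj_iff.2 ⟨n, rfl⟩) (h.notS k)
      obtain ⟨m, hm, e⟩ := h.cls k (by rw [inv_mul_cancel_right, conj_mul, h.ss]; group)
      rw [inv_mul_cancel_right] at e
      have hy : m⁻¹ * n ∈ 𝐍(h.T0 ⊔ zpowers s) := mul_mem (le_normalizer (mem_sup_left (inv_mem hm))) hn
      have ys : m⁻¹ * n * s * (m⁻¹ * n)⁻¹ = s := by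
        calc _ = m⁻¹ * (n * s * n⁻¹) * m := by group
          _ = s := by rw [← e]; group
      rw [← mul_mem_cancel_left (inv_mem (mem_sup_left hm : m ∈ h.T0 ⊔ zpowers s))]
      generalize m⁻¹ * n = y at hy ys
      have k1 := mem_cent1.1 (hz (conj_mem_of_mem_normalizer hy (mul_mem aT bT)))
      have k2 : y * (a * b) * y⁻¹ * s = s * (y * (a * b) * y⁻¹) := by
        rw [← ys, conj_mul, conj_mul, show a * b * s = s * (a * b) by simp only [col0, h.col]]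
      have k3 : y * (a * b) * y⁻¹ * (y * (a * b) * y⁻¹) = y * z * y⁻¹ := by
        rw [conj_mul]; simp only [col0, h.col]
      have yz : y * z * y⁻¹ = z := by
        have z1 : y * z * y⁻¹ ≠ 1 := by simpa using h.z1
        rw [← k3] at z1 ⊢
        obtain ⟨u, rfl | rfl | rfl | rfl, e | e | e | e⟩ := h.cz _ k2 k1.symm <;> rw [e] at z1 ⊢ <;>
          simp [col0, h.col] at z1 ⊢
      obtain ⟨u, hu, e⟩ := h.cz y (mul_inv_eq_iff_eq_mul.1 ys) (mul_inv_eq_iff_eq_mul.1 yz)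
      have uT : u ∈ h.T0 ⊔ zpowers s := by
        rcases hu with rfl | rfl | rfl | rfl
        exacts [one_mem _, sT, zT, mul_mem sT zT]
      rcases e with rfl | rfl | rfl | rfl
      exacts [uT, mul_mem uT aT, mul_mem uT bT, mul_mem uT (mul_mem aT bT)]
  exact h.notS hx e

end F3

end Cfsg.Agent.M9
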