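import Cfsg.Agent.M9.CaseB2

/-!
# Case (b) is impossible
-/

set_option autoImplicit false
set_option linter.unusedSectionVars false

namespace Cfsg.Agent.M9

open Subgroup Cfsg.Agent.Local Cfsg.Agent.FT Cfsg.Agent.Char Cfsg.Agent.Z6
open scoped Pointwise commutatorElement

universe u

variable {G : Type u} [Group G] [Finite G]

theorem Fp.sq_four {y : G} {K : Subgroup G} (F : Fp y K ⊥) (c : Nat.card K = 4) {x : G} (hx : x ∈ K) : x * x = 1 := by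
  by_contra e
  have h4 : x ^ 4 = 1 := c ▸ pow_card_of_mem hx
  have o : orderOf x = 2 ^ 2 := orderOf_eq_prime_pow (n := 1) (by rwa [pow_one, pow_two]) h4
  have h1 : zpowers x = K := eq_of_le_of_card_ge (zpowers_le.2 hx) (by rw [c, Nat.card_zpowers, o]; rfl)
  obtain ⟨i, hi⟩ := mem_powers_iff_mem_zpowers.2 (h1.ge (F.cj hx))
  replace hi : x ^ i = y * x * y⁻¹ := hi
  have h2 : y * (x * x) * y⁻¹ = (x * x) ^ i := by rw [← conj_mul, ← hi, (Commute.refl x).mul_pow]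
  have h3 : x * x * (x * x) = 1 := by rw [← h4]; simp only [pow_succ, pow_zero, one_mul, mul_assoc]
  rcases (mem_zp2 h3).1 (h2 ▸ pow_mem (mem_zpowers _) i) with e1 | e1
  · exact e (by simpa using e1)
  · exact e (F.fix _ (mul_mem hx hx) (mul_inv_eq_iff_eq_mul.1 e1))

theorem lemT {y s : G} {S : Subgroup G} (hy : orderOf y = 3) (pS : IsPGroup 2 S) (yS : y ∈ 𝐍(S)) (sS : s ∈ S)
    (ss : s * s = 1) (s1 : s ≠ 1) (sy : s * y = y * s) (fix : ∀ k ∈ S, y * k = k * y → k = 1 ∨ k = s)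
    (el : ∀ x ∈ S, s * x = x * s → x * x = 1) (c8 : Nat.card ↥(𝐂[s] ⊓ S) ≤ 8) :
    ∃ D ≤ S, y ∈ 𝐍(D) ∧ s ∉ D ∧ Nat.card S = 2 * Nat.card D := by
  obtain ⟨L, ⟨nL, yL, sL⟩, hL⟩ := Set.Finite.exists_maximal (Set.toFinite {L | L ⊴ S ∧ y ∈ 𝐍(L) ∧ s ∉ L})
    ⟨⊥, Nrm.bot S, mem_norm_bot y, s1⟩
  obtain ⟨M, ⟨nM, yM, LM, sM⟩, hM⟩ := Set.Finite.exists_minimal (Set.toFinite {M | M ⊴ S ∧ y ∈ 𝐍(M) ∧ L ≤ M ∧ s ∈ M})
    ⟨S, Nrm.refl S, yS, nL.le, sS⟩
  have h1 : ∀ x ∈ S, ⟬x, s⟭ ∈ L := fun x hx => by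
    have n1 := nL.sup (nM.commutator (Nrm.refl S))
    have n2 : y ∈ 𝐍(L ⊔ ⁅M, S⁆) := le_normalizer_sup (zpowers_le.2 yL)
      (le_normalizer_commutator (zpowers_le.2 yM) (zpowers_le.2 yS)) (mem_zpowers y)
    have n3 : L ⊔ ⁅M, S⁆ ≤ M := sup_le LM (commutator_le_left_iff.2 nM.norm)
    refine hL ⟨n1, n2, fun e => sL ?_⟩ le_sup_left (mem_sup_right ?_)
    · rwa [le_of_sup_commutator_of_nil pS.isNilpotent nM.le LM nL.norm
        (le_antisymm n3 (hM ⟨n1, n2, le_sup_left, e⟩ n3))]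
    · rw [commutator_comm]; exact commutator_mem_commutator hx sM
  have sN : s ∈ 𝐍(L) := nL.norm sS
  have m1 : ∀ {a}, a ∈ L ⊔ zpowers s ↔ a ∈ L ∨ a * s ∈ L := fun {a} => by
    refine ⟨fun ha => ?_, fun ha => ha.elim mem_sup_left fun ha =>
      (mul_mem_cancel_right (mem_sup_right (mem_zpowers s))).1 (mem_sup_left ha)⟩
    obtain ⟨l, hl, b, hb, rfl⟩ := (mem_sup_of_right_le_normalizer (zpowers_le.2 sN)).1 ha
    rcases (mem_zp2 ss).1 hb with rfl | rfl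
    · exact .inl (by simpa using hl)
    · exact .inr (by rwa [mul_assoc, ss, mul_one])
  have F : Fp y S (L ⊔ zpowers s) := ⟨hy, yS, le_normalizer_sup (zpowers_le.2 yL) (zpowers_le.2 (norm_zp sy))
    (mem_zpowers y), ⟨sup_le nL.le (zpowers_le.2 sS), fun x hx => mem_normalizer_of_conj_mem fun a ha => by
      rcases m1.1 ha with e | e
      · exact mem_sup_left (nL.conj_mem hx e)
      · refine m1.2 (.inr ?_)
        have := mul_mem (nL.conj_mem hx e) (h1 x hx)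
        rwa [show x * (a * s) * x⁻¹ * ⟬x, s⟭ = x * a * (s * s) * x⁻¹ * s⁻¹ by group, ss, mul_one, inv_self ss] at this⟩, ndvd_of_pg2 pS, fun k hk e => by
    rcases fix k hk e with rfl | rfl
    exacts [one_mem _, mem_sup_right (mem_zpowers _)]⟩
  have c1 := PG.card_sup_zpowers (p := 2) sN sL (by rw [pow_two, ss]; exact one_mem L)
  have c2 := card_mul_relIndex F.nrm.le
  have c3 := F.modEq
  have c4 := card_inf_mul_relIndex 𝐂[s] S
  have o1 : {w | ConjIn S s w} ⊆ (· * s) '' (L : Set G) := by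
    rintro _ ⟨x, hx, rfl⟩
    exact ⟨_, h1 x hx, by simp⟩
  have o2 : ((· * s) '' (L : Set G)).ncard = Nat.card L := Set.ncard_image_of_injective _ (mul_left_injective s)
  have o3 := Set.ncard_le_ncard o1
  rw [o2, ncard_conjIn] at o3
  have p : 0 < Nat.card L := Nat.card_pos
  refine ⟨L, nL.le, yL, sL, ?_⟩
  by_contra hn
  have c5 : (L ⊔ zpowers s).relIndex S = 4 := by
    have : Nat.card L * (2 * (L ⊔ zpowers s).relIndex S) ≤ Nat.card L * 8 := by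
      rw [← mul_assoc, mul_comm _ 2, ← c1, c2, ← c4, mul_comm _ 8]
      exact Nat.mul_le_mul c8 o3
    have := Nat.le_of_mul_le_mul_left this p
    have : (L ⊔ zpowers s).relIndex S ≠ 1 := fun e => hn (by rw [← c2, e, c1, mul_one])
    omega
  have o4 := Set.eq_of_subset_of_ncard_le o1 (by
    rw [o2, ncard_conjIn]
    rw [c5, c1, ← c4] at c2
    nlinarith)
  have h2 : ∀ x ∈ S, x * x ∈ L := fun x hx => by
    have n := F.nrm.norm hx
    refine (m1.1 ((cos_eq_one_iff (mul_mem n n)).1 ?_)).resolve_right fun e => s1 ?_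
    · rw [(cos _).map_mul n n]
      exact F.quo.sq_four ((card_quo F.nrm.norm).trans c5) (F.mq hx)
    · obtain ⟨r, hr, e1⟩ := o4.ge ⟨_, e, rfl⟩
      replace e1 : r⁻¹ * x * r * (r⁻¹ * x * r) = s := by
        calc _ = r⁻¹ * (x * x * (s * s)) * r := by rw [ss]; group
          _ = s := by rw [← mul_assoc (x * x), show x * x * s * s = r * s * r⁻¹ from e1]; group
      rw [← e1]
      exact el _ (mul_mem (mul_mem (inv_mem hr) hx) hr) (by rw [← e1, mul_assoc _ (r⁻¹ * x * r)])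
  have h3 : ∀ a ∈ S, ∀ b ∈ S, ⟬a, b⟭ ∈ L := fun a ha b hb => by
    rw [show ⟬a, b⟭ = a * b * (a * b) * (b⁻¹ * (a * a)⁻¹ * b) * (b * b)⁻¹ by group]
    exact mul_mem (mul_mem (h2 _ (mul_mem ha hb)) (nL.inv_conj_mem hb (inv_mem (h2 a ha)))) (inv_mem (h2 b hb))
  have sw : ∀ {p a b q}, p ∈ S → a ∈ S → b ∈ S → p * (a * b) * q ∈ L → p * (b * a) * q ∈ L := fun hp ha hb e => by
    have := mul_mem (nL.conj_mem hp (h3 _ hb _ ha)) e
    convert this using 1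
    group
  have h4 : ∀ a ∈ S, ∀ b ∈ S, tr y a * tr y b ∈ L → tr y (a * b) ∈ L := fun a ha b hb e => by
    have e1 := sw (q := y * b * y⁻¹ * (y⁻¹ * b * y)) ha (mul_mem (F.cj ha) (F.cj' ha)) hb
      (by convert e using 1; simp only [tr, mul_assoc])
    have e2 := sw (q := y⁻¹ * b * y) (mul_mem (mul_mem ha hb) (F.cj ha)) (F.cj' ha) (F.cj hb)
      (by convert e1 using 1; simp only [mul_assoc])
    convert e2 using 1
    rw [tr]
    group
  have h5 : ∀ l ∈ L, tr y l ∈ L := fun l hl =>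
    mul_mem (mul_mem hl (conj_mem_of_mem_normalizer yL hl)) (inv_conj_mem_of_mem_normalizer yL hl)
  have ts : tr y s = s := by rw [tr, ← sy, mul_inv_cancel_right, ss, one_mul, mul_assoc, sy, inv_mul_cancel_left]
  let D : Subgroup G :=
    { carrier := {x | x ∈ S ∧ tr y x ∈ L}
      one_mem' := ⟨one_mem _, h5 _ (one_mem _)⟩
      mul_mem' := fun {a b} ha hb => ⟨mul_mem ha.1 hb.1, h4 a ha.1 b hb.1 (mul_mem ha.2 hb.2)⟩
      inv_mem' := fun {a} ha => ⟨inv_mem ha.1, by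
        rw [show a⁻¹ = a * (a * a)⁻¹ by group]
        exact h4 a ha.1 _ (inv_mem (mul_mem ha.1 ha.1)) (mul_mem ha.2 (h5 _ (inv_mem (h2 a ha.1))))⟩ }
  have LD : L ≤ D := fun l hl => ⟨nL.le hl, h5 l hl⟩
  have DL : D ≤ L := hL ⟨⟨fun _ h => h.1, fun x hx => mem_normalizer_of_conj_mem fun d hd => by
      rw [show x * d * x⁻¹ = ⟬x, d⟭ * d by group]
      exact mul_mem (LD (h3 x hx d hd.1)) hd⟩, mem_normalizer_of_conj_mem fun d hd => ⟨F.cj hd.1, by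
      have := tr_conj y y d
      rw [mul_inv_cancel_right] at this
      exact this ▸ conj_mem_of_mem_normalizer yL hd.2⟩, fun e => sL (ts ▸ e.2)⟩ LD
  have := relIndex_eq_one.2 (show S ≤ L ⊔ zpowers s from fun x hx => m1.2 ((m1.1 (F.prod hx)).imp
    (fun e => DL ⟨hx, e⟩) fun e => DL ⟨mul_mem hx sS, h4 x hx s sS (ts.symm ▸ e)⟩))
  omega

theorem two_mul_le_of_lt {K L : Subgroup G} (h : K < L) : 2 * Nat.card K ≤ Nat.card L := by
  have h1 := card_mul_relIndex h.le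
  have h2 : K.relIndex L ≠ 1 := fun e => h.not_ge (relIndex_eq_one.1 e)
  have h3 : K.relIndex L ≠ 0 := fun e => by rw [e, mul_zero] at h1; exact Nat.card_pos.ne h1
  rw [← h1, mul_comm]
  exact Nat.mul_le_mul_left _ (by omega)

namespace CS

variable {g h s t z ρ y : G} {Q P S V : Subgroup G} (H : CS g h s t z ρ Q P y S V)
include H

theorem le8 {K : Subgroup G} (pK : IsPGroup 2 K) {w : G} (hw : IsConj s w) (hK : K ≤ 𝐂[w]) : Nat.card K ≤ 8 := by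
  obtain ⟨n, hn⟩ := pK.exists_card_eq
  have h1 := card_dvd_of_le hK
  rw [show Nat.card 𝐂[w] = Nat.card 𝐂[s] from (cc_conj hw).symm, H.card, H.Q_eq, card_zp2 H.ss H.s1, hn] at h1
  rw [hn]
  exact Nat.le_of_dvd (by norm_num) ((Nat.Coprime.pow_left n (by norm_num)).dvd_of_dvd_mul_right (n := 15) h1)

theorem decR' {r : G} (hr : r ∈ 𝐂[s] ⊓ 𝐂[z]) : ∃ k ∈ zpowers s,
    r = k ∨ r = k * z ∨ r = k * (y * z * y⁻¹) ∨ r = k * (y⁻¹ * z * y) :=
  let ⟨k, hk, _, e⟩ := H.decR hr; ⟨k, H.Q_eq ▸ hk, e⟩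

theorem z1V : y * z * y⁻¹ ∈ V := conj_mem_of_mem_normalizer H.yV H.zV

theorem z2V : y⁻¹ * z * y ∈ V := inv_conj_mem_of_mem_normalizer H.yV H.zV

theorem memR {r : G} (hr : r ∈ 𝐂[s] ⊓ 𝐂[z]) : r ∈ V ∨ s * r ∈ V := by
  obtain ⟨k, hk, e⟩ := H.decR' hr
  obtain ⟨v, hv, rfl⟩ : ∃ v ∈ V, r = k * v := by
    rcases e with e | e | e | e
    exacts [⟨1, one_mem _, by rw [e, mul_one]⟩, ⟨_, H.zV, e⟩, ⟨_, H.z1V, e⟩, ⟨_, H.z2V, e⟩]
  rcases (mem_zp2 H.ss).1 hk with rfl | rfl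
  · exact .inl (by rwa [one_mul])
  · exact .inr (by rwa [← mul_assoc, H.ss, one_mul])

theorem memV {v : G} (hv : v ∈ V) : v = 1 ∨ v = z ∨ v = y * z * y⁻¹ ∨ v = y⁻¹ * z * y := by
  obtain ⟨k, hk, e⟩ := H.decR' (H.VR hv)
  rcases (mem_zp2 H.ss).1 hk with rfl | rfl
  · simpa only [one_mul] using e
  · refine absurd ?_ H.sV
    rcases e with rfl | rfl | rfl | rfl
    exacts [hv, (mul_mem_cancel_right H.zV).1 hv, (mul_mem_cancel_right H.z1V).1 hv, (mul_mem_cancel_right H.z2V).1 hv]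

theorem cent_V {a v : G} (h1 : ∀ v ∈ V, a * v = v * a → a * (y * v * y⁻¹) = y * v * y⁻¹ * a) (hv : v ∈ V) (v1 : v ≠ 1)
    (c : a * v = v * a) : a ∈ 𝐂(V) := by
  have c0 : a * z = z * a := by
    have c1 := h1 _ hv c
    have c2 := h1 _ (conj_mem_of_mem_normalizer H.yV hv) c1
    rcases H.memV hv with e | e | e | e
    · exact absurd e v1
    · exact e ▸ c
    · rwa [e, conj2 H.oy, show y⁻¹ * (y * z * y⁻¹) * y = z by group] at c2
    · rwa [e, conj3] at c1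
  have c1 := h1 _ H.zV c0
  have c2 := h1 _ H.z1V c1
  rw [conj2 H.oy] at c2
  intro w hw
  rcases H.memV hw with rfl | rfl | rfl | rfl
  exacts [by simp, c0.symm, c1.symm, c2.symm]

theorem false : False := by
  have z01 : z ≠ y * z * y⁻¹ := fun e => H.z1 (H.fV H.zV (mul_inv_eq_iff_eq_mul.1 e.symm))
  have z1' : y * z * y⁻¹ ≠ 1 := fun e => H.z1 (by simpa using e)
  have V3 := three_le_card H.zV H.z1V H.z1 z1' z01
  have V0 : V ≠ ⊥ := fun e => H.z1 (mem_bot.1 (e ▸ H.zV))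
  have Vel : ∀ v ∈ V, v * v = 1 := fun v hv => H.Rel (H.VR hv)
  have C3 : ¬ 3 ∣ Nat.card 𝐂(V) := fun d => by
    obtain ⟨a, ha, o⟩ := exists_mem_orderOf_eq_of_dvd_card Nat.prime_three d
    rcases H.four o H.zz H.z11 H.zz1 (ha _ H.zV).symm (ha _ H.z1V).symm with e | e | e
    exacts [H.z1 e, z1' e, z01 e]
  have RC : 𝐂[s] ⊓ 𝐂[z] ≤ 𝐂(V) := fun _ hr _ hv => comm_of_sq (fun _ => H.Rel) (H.VR hv) hr
  have yC : y ∈ 𝐍(𝐂(V)) := normalizer_le_normalizer_centralizer V H.yV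
  obtain ⟨T, ⟨pT, yT, TC, RT, tT⟩, hT⟩ := Set.Finite.exists_maximal
    (Set.toFinite {T : Subgroup G | IsPGroup 2 T ∧ y ∈ 𝐍(T) ∧ T ≤ 𝐂(V) ∧ 𝐂[s] ⊓ 𝐂[z] ≤ T ∧ t ∈ T})
    ⟨S ⊓ 𝐂(V), H.pS.to_le inf_le_left, le_normalizer_inf (zpowers_le.2 H.fS.nK) (zpowers_le.2 yC) (mem_zpowers y),
      inf_le_right, le_inf H.fS.nrm.le RC, H.tS, H.cent_V (H.lem.1 t H.tS) H.zV H.z1 H.tz⟩
  have TR : ∀ x ∈ T, s * x = x * s → x ∈ 𝐂[s] ⊓ 𝐂[z] := fun x hx e => ⟨mem_cent1.2 e, mem_cent1.2 (TC hx z H.zV)⟩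
  have big : ∀ w, IsConj s w → ¬ T ≤ 𝐂[w] := fun w hw e => by
    have h1 := two_mul_le_of_lt (lt_of_le_of_ne H.VR fun e => H.sV (e ▸ H.sR))
    have h2 := two_mul_le_of_lt (lt_of_le_of_ne RT fun e => H.s_ne_sz (by
      rw [← H.tst, ← mem_cent1.1 (mem_inf.1 (e.ge tT)).1, mul_inv_cancel_right]))
    have := H.le8 pT hw e
    omega
  have VT : ∀ v ∈ V, T ≤ 𝐂[v] := fun v hv x hx => mem_cent1.2 (TC hx v hv)
  have fx : ∀ k ∈ T, y * k = k * y → k = 1 ∨ k = s := fun k hk e => by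
    rcases H.f1' H.oy (ndvd_of_pg2 pT) (RT H.sR) hk (mem_cent1.1 H.yX).symm e with e | e | e
    exacts [absurd e H.s1, .inl e, .inr e.symm]
  obtain ⟨D, DT, yD, sD, cD⟩ := lemT H.oy pT yT (RT H.sR) H.ss H.s1 (mem_cent1.1 H.yX) fx
    (fun x hx e => H.Rel (TR x hx e)) (H.le8 (pT.to_le inf_le_right) (IsConj.refl s) inf_le_left)
  have F0 : Fp y D ⊥ := ⟨H.oy, yD, mem_norm_bot y, Nrm.bot D, ndvd_of_pg2 (pT.to_le DT), fun k hk e =>
    (fx k (DT hk) e).resolve_right fun e => sD (e ▸ hk)⟩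
  have VD : V ≤ D := fun v hv => by
    by_contra hn
    have v1 := conj_mem_of_mem_normalizer H.yV hv
    have v2 := inv_conj_mem_of_mem_normalizer H.yV hv
    have h1 := mul_mem_two DT cD (RT (H.VR hv)) (RT (H.VR v1)) hn fun e => hn (by
      simpa [mul_assoc] using inv_conj_mem_of_mem_normalizer yD e)
    have h2 : tr y v = 1 := ((mem_zp2 H.ss).1 (H.fP.prod (H.RP (H.VR hv)))).resolve_right fun e =>
      H.sV (e ▸ mul_mem (mul_mem hv v1) v2)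
    have h3 : y⁻¹ * v * y ∈ D := (mul_mem_cancel_left h1).1 (show tr y v ∈ D from h2 ▸ one_mem D)
    exact hn (by simpa [mul_assoc] using conj_mem_of_mem_normalizer yD h3)
  have NV : 𝐍(T) ≤ 𝐍(V) := fun n hn => mem_normalizer_of_conj_mem fun v hv => by
    have h1 : T ≤ 𝐂[n * v * n⁻¹] := fun x hx => by
      rw [cent_conj, Local.mem_conj_smul_iff]
      exact VT v hv (inv_conj_mem_of_mem_normalizer hn hx)
    refine (H.memR (TR _ (conj_mem_of_mem_normalizer hn (RT (H.VR hv))) (mem_cent1.1 (h1 (RT H.sR))).symm)).resolve_right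
      fun e => big s (IsConj.refl s) fun x hx => mem_cent1.2 ?_
    have := (show Commute _ x from mem_cent1.1 (VT _ e hx)).mul_left (Commute.inv_left (mem_cent1.1 (h1 hx)))
    rwa [mul_inv_cancel_right] at this
  have h1 : ∀ K ≤ 𝐍(V), ¬ 3 ∣ Nat.card K → K ≤ core {3}ᶜ 𝐍(V) := fun K hK pK a ha =>
    H.compl V0 (ndvd_of_pg2 (pg2_of_sq Vel)) H.oy H.yV (fun m hm => H.noinv C3 (RC H.sR)
      (normalizer_le_normalizer_centralizer V hm) (H.RP (H.VR (conj_mem_of_mem_normalizer hm H.zV)))) (hK ha)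
      fun d => pK (d.trans (orderOf_dvd_card_of_mem ha))
  have F1 : Fp y (core {3}ᶜ 𝐍(V)) 𝐂(V) := H.fp H.oy ((core_nrm _ _).norm H.yV) yC
    ⟨h1 _ (centralizer_le_normalizer _) C3, (core_le _ _).trans (normalizer_le_normalizer_centralizer V)⟩ (core_ndvd _)
    (RC H.sR) H.s1 (mem_cent1.1 H.yX).symm
  have F2 : Fp y (core {3}ᶜ 𝐍(V) ⊓ 𝐍(T)) T := H.fp H.oy
    (le_normalizer_inf (zpowers_le.2 F1.nK) (zpowers_le.2 (le_normalizer yT)) (mem_zpowers y)) yT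
    ⟨le_inf (TC.trans F1.nrm.le) le_normalizer, inf_le_right⟩
    (fun d => F1.ndvd (d.trans (card_dvd_of_le inf_le_left))) (RT H.sR) H.s1 (mem_cent1.1 H.yX).symm
  have QT : QQ (core {3}ᶜ 𝐍(V) ⊓ 𝐍(T)) ≤ T := by
    have l1 : QQ (core {3}ᶜ 𝐍(V) ⊓ 𝐍(T)) ≤ core {3}ᶜ 𝐍(V) := (core_le _ _).trans inf_le_left
    obtain ⟨v, hv, v1, c⟩ := exists_ne_one_mem_centralizer_of_isPGroup (isPGroup_core 2 _) (l1.trans (core_le _ _))
      ((pg2_of_sq Vel).card_eq_or_dvd.resolve_left (by omega))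
    exact hT ⟨isPGroup_core 2 _, (F2.fpQ pT).nK, fun a ha => H.cent_V
      ((F1.lemM Vel H.yV (core_le _ _) le_rfl fun _ => H.fV).1 a (l1 ha)) hv v1 (c a ha), RT.trans (F2.le_QQ pT),
      F2.le_QQ pT tT⟩ (F2.le_QQ pT)
  obtain ⟨w, wD, hw⟩ := transfer H.h2 H.ss pT DT cD fun n hn p => by
    have l1 : T ⊔ zpowers n ≤ 𝐍(T) := sup_le le_normalizer (zpowers_le.2 hn)
    exact QT (F2.two pT (le_inf (h1 _ (l1.trans NV) (ndvd_of_pg2 p)) l1) p (mem_sup_right (mem_zpowers n)))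
  have wV : w ∉ V := fun e => big w hw (VT w e)
  have ww : w * w = 1 := by
    obtain ⟨n, rfl⟩ := isConj_iff.1 hw
    exact (H.toHyp.conj n).ss
  have cw : ∀ v ∈ V, v * w = w * v := TC (DT wD)
  have l1 : V ⊔ zpowers w ≤ D ⊓ 𝐂[w] := sup_le (fun v hv => ⟨VD hv, mem_cent1.2 (cw v hv).symm⟩)
    (zpowers_le.2 ⟨wD, mem_cent1.2 rfl⟩)
  have h2 := two_mul_le_of_lt (lt_of_le_of_ne (le_sup_left : V ≤ V ⊔ zpowers w) fun e =>
    wV (e ▸ mem_sup_right (mem_zpowers w)))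
  have h3 := two_mul_le_of_lt (lt_of_le_of_ne l1 fun e => wV (by
    obtain ⟨v, hv, b, hb, e1⟩ := (mem_sup_of_right_le_normalizer (zpowers_le.2 (centralizer_le_normalizer _
      (TC (DT wD))))).1 (e.ge ⟨F0.cj wD, mem_cent1.2 (F0.cc0 wD wD (Commute.refl w))⟩)
    rcases (mem_zp2 ww).1 hb with rfl | rfl
    · simpa [mul_assoc] using inv_conj_mem_of_mem_normalizer H.yV (show y * w * y⁻¹ ∈ V from e1 ▸ by simpa using hv)
    · refine (F0.up bot_le ⟨VD, DT.trans (TC.trans (centralizer_le_normalizer _))⟩ H.yV).fix' wD ?_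
      rwa [← e1, cw v hv, inv_mul_cancel_left]))
  have := H.le8 ((pT.to_le DT).to_le inf_le_left) hw (inf_le_right : D ⊓ 𝐂[w] ≤ 𝐂[w])
  omega

end CS

theorem CB.false {g h s t z ρ : G} {Q : Subgroup G} {π} (H : CB g h s t z ρ Q π) : False := by
  obtain ⟨P, y, H1⟩ := H.exists_CY
  obtain ⟨S, V, H2⟩ := H1.exists_CS
  exact H2.false

end Cfsg.Agent.M9
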