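import Cfsg.Agent.M9.Base
import Cfsg.Agent.M9.CaseB0

/-!
# Case (b): the frame `C(s) / Q = A5`
-/

set_option autoImplicit false
set_option linter.unusedSectionVars false

namespace Cfsg.Agent.M9

open Subgroup Cfsg.Agent.Local Cfsg.Agent.FT Cfsg.Agent.Char Cfsg.Agent.Z6
open scoped Pointwise

universe u

variable {G : Type u} [Group G] [Finite G]

/-- Case (b) with a Sylow `2`-subgroup `P` of `C(s)` and an element `y` of order three normalising it. -/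
structure CY (g h s t z ρ : G) (Q P : Subgroup G) (y : G) : Prop extends Hyp g h s t z ρ where
  nQ : Q ⊴ 𝐂[s]
  sQ : s ∈ Q
  sq : ∀ x ∈ Q, x * x = 1 ∨ x * x = s
  cm : ∀ x ∈ Q, ∀ y ∈ Q, x * y = y * x ∨ x * y = y * x * s
  card : Nat.card 𝐂[s] = 60 * Nat.card Q
  oy : orderOf y = 3
  yX : y ∈ 𝐂[s]
  PX : P ≤ 𝐂[s]
  memP : ∀ x ∈ 𝐂[s], x ∈ P ↔ ⟬x, z⟭ ∈ Q
  yP : y ∈ 𝐍(P)
  dec : ∀ x ∈ P, ∃ k ∈ Q, x = k ∨ x = k * z ∨ x = k * (y * z * y⁻¹) ∨ x = k * (y⁻¹ * z * y)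
  m1 : ∀ m ∈ 𝐂[s], m * y * m⁻¹ = y⁻¹ → m * z * m⁻¹ ∉ P
  m2 : ∀ w ∈ 𝐂[s], w * w = 1 → w * z * w⁻¹ ∈ P → w ∈ P

theorem pg2_of_four {s : G} {Q : Subgroup G} (ss : s * s = 1) (h : ∀ x ∈ Q, x * x = 1 ∨ x * x = s) {x : G} (hx : x ∈ Q) :
    x ^ 4 = 1 := by
  rw [show 4 = 2 * 2 from rfl, pow_mul, sq x, sq]
  rcases h x hx with e | e <;> rw [e]
  exacts [mul_one 1, ss]

theorem CB.exists_CY {g h s t z ρ : G} {Q : Subgroup G} {π} (H : CB g h s t z ρ Q π) : ∃ P y, CY g h s t z ρ Q P y := by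
  have nQ : Q ⊴ 𝐂[s] := ⟨H.le, fun x hx => mem_normalizer_of_conj_mem fun q hq =>
    (H.ker (⟨x, hx⟩ * ⟨q, H.le hq⟩ * ⟨x, hx⟩⁻¹)).1 (by rw [map_mul, map_mul, (H.ker ⟨q, _⟩).2 hq]; simp)⟩
  have pQ : IsPGroup 2 Q := fun x => ⟨2, Subtype.ext (pg2_of_four H.ss H.sq x.2)⟩
  have zQ : z ∉ Q := fun e => inv_not_mem H.og (nQ.norm H.gX) (ndvd_of_pg2 pQ) H.zg (mem_sup_left e)
  obtain ⟨σ, s3, s1, f1, f2, f3⟩ := a5_four (π ⟨z, H.zX⟩)
    (by rw [← map_mul, show (⟨z, H.zX⟩ * ⟨z, H.zX⟩ : 𝐂[s]) = 1 from Subtype.ext H.zz, map_one]) fun e => zQ ((H.ker _).1 e)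
  obtain ⟨x, rfl⟩ := H.surj σ
  have x3 : (x ^ 4) ^ 3 = 1 := by
    rw [← pow_mul, mul_comm, pow_mul]
    exact Subtype.ext (pg2_of_four H.ss H.sq ((H.ker _).1 (by rw [map_pow, s3])))
  have x4 : π (x ^ 4) = π x := by rw [map_pow, pow_succ, s3, one_mul]
  rw [← x4] at s1 f1 f2
  generalize x ^ 4 = y at *
  have mP : ∀ x : 𝐂[s], x.1 ∈ ((𝐂[π ⟨z, H.zX⟩]).comap π).map (𝐂[s]).subtype ↔ π x * π ⟨z, H.zX⟩ = π ⟨z, H.zX⟩ * π x :=
    fun x => (mem_map_iff_mem (subtype_injective _)).trans (mem_cent1.trans eq_comm)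
  have kk : ∀ x w : 𝐂[s], π x = π w → ∃ k ∈ Q, x.1 = k * w := fun x w e =>
    ⟨_, (H.ker (x * w⁻¹)).1 (by rw [map_mul, map_inv, e, mul_inv_cancel]), by simp⟩
  refine ⟨((𝐂[π ⟨z, H.zX⟩]).comap π).map (𝐂[s]).subtype, y, H.toHyp, nQ, H.sQ, H.sq, H.cm, ?_, ?_, y.2, map_subtype_le _,
    fun x hx => ?_, mem_normalizer_of_conj_mem ?_, ?_, fun m hm e e' => ?_, fun w hw ww e => ?_⟩
  · rw [card_eq_card_quotient_mul_card_subgroup π.ker,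
      Nat.card_congr (QuotientGroup.quotientKerEquivOfSurjective π H.surj).toEquiv,
      show π.ker = Q.subgroupOf 𝐂[s] from Subgroup.ext H.ker, Nat.card_congr (subgroupOfEquivOfLe H.le).toEquiv]
    have := two_mul_nat_card_alternatingGroup (α := Fin 5)
    rw [Nat.card_perm, Nat.card_fin, show Nat.factorial 5 = 120 from rfl] at this
    congr 1
    omega
  · rw [orderOf_coe]
    exact orderOf_eq_prime x3 fun e => s1 (by rw [e, map_one])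
  · refine (mP ⟨x, hx⟩).trans (Iff.trans ?_ (H.ker (⟬(⟨x, hx⟩ : 𝐂[s]), ⟨z, H.zX⟩⟭)))
    simp only [map_mul, map_inv, mul_inv_eq_iff_eq_mul, one_mul]
  · rintro _ ⟨x, hx, rfl⟩
    refine (mP (y * x * y⁻¹)).2 ?_
    simpa only [map_mul, map_inv] using (f1 _ ((mP x).1 ⟨x, hx, rfl⟩)).2
  · rintro _ ⟨x, hx, rfl⟩
    rcases (f1 _ ((mP x).1 ⟨x, hx, rfl⟩)).1 with e | e | e | e
    · exact ⟨x, (H.ker x).1 e, .inl rfl⟩
    · obtain ⟨k, hk, e⟩ := kk x _ e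
      exact ⟨k, hk, .inr (.inl e)⟩
    · obtain ⟨k, hk, e⟩ := kk x (y * ⟨z, H.zX⟩ * y⁻¹) (by simpa only [map_mul, map_inv] using e)
      exact ⟨k, hk, .inr (.inr (.inl e))⟩
    · obtain ⟨k, hk, e⟩ := kk x (y⁻¹ * ⟨z, H.zX⟩ * y) (by simpa only [map_mul, map_inv] using e)
      exact ⟨k, hk, .inr (.inr (.inr e))⟩
  · refine f2 (π ⟨m, hm⟩) ?_ ?_
    · rw [← map_mul, ← map_inv, ← map_mul, ← map_inv]
      exact congrArg π (Subtype.ext e)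
    · simpa only [map_mul, map_inv] using (mP (⟨m, hm⟩ * ⟨z, H.zX⟩ * ⟨m, hm⟩⁻¹)).1 e'
  · refine (mP ⟨w, hw⟩).2 (f3 _ ?_ ?_)
    · rw [← map_mul, show (⟨w, hw⟩ * ⟨w, hw⟩ : 𝐂[s]) = 1 from Subtype.ext ww, map_one]
    · simpa only [map_mul, map_inv] using (mP (⟨w, hw⟩ * ⟨z, H.zX⟩ * ⟨w, hw⟩⁻¹)).1 e

theorem comm_of_sqs {a b : G} (aa : a * a = 1) (bb : b * b = 1) (h : a * b * (a * b) = 1) : a * b = b * a := by
  rw [← inv_self h, mul_inv_rev, inv_self aa, inv_self bb]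

theorem cL {s l x : G} (hl : l ∈ zpowers s) (hx : x ∈ 𝐂[s]) : Commute l x := by
  obtain ⟨i, rfl⟩ := hl
  exact Commute.zpow_left (mem_cent1.1 hx) i

theorem inv3 {s a b c : G} (ss : s * s = 1) (aa : a * a = 1) (bb : b * b = 1) (cc : c * c = 1) (hc : c ∈ 𝐂[s])
    (h : a * b * c ∈ zpowers s) : a * b = b * a := by
  refine comm_of_sqs aa bb ?_
  rw [show a * b = a * b * c * c by rw [mul_assoc, cc, mul_one], (cL h hc).symm.mul_mul_mul_comm, cc, mul_one]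
  rcases (mem_zp2 ss).1 h with e | e <;> rw [e]
  exacts [mul_one 1, ss]

theorem Hyp.compl {g h s t z ρ : G} (H : Hyp g h s t z ρ) {D : Subgroup G} (h1 : D ≠ ⊥) (h3 : ¬ 3 ∣ Nat.card D) {y : G}
    (hy : orderOf y = 3) (yD : y ∈ 𝐍(D)) (hi : ∀ m ∈ 𝐍(D), m * y * m⁻¹ ≠ y⁻¹) {a : G} (ha : a ∈ 𝐍(D))
    (h : ¬ 3 ∣ orderOf a) : a ∈ core {3}ᶜ 𝐍(D) := by
  have hS : IsSylowIn 3 (zpowers y) 𝐍(D) := ⟨zpowers_le.2 yD, pg3 hy, fun d => H.f3 h1 h3 (by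
    rw [← card_mul_relIndex (zpowers_le.2 yD), card_zp hy]
    exact Nat.mul_dvd_mul_left 3 d)⟩
  have := Burnside_normal_complement hS fun m hm => by
    rw [cent_zpowers, mem_cent1]
    rcases mem_zpowers_three hy (conj_mem_of_mem_normalizer hm.2 (mem_zpowers y)) with e | e | e
    · exact absurd (by simpa using e) (ne_one_of hy)
    · exact (mul_inv_eq_iff_eq_mul.1 e).symm
    · exact absurd e (hi m hm.1)
  exact mem_of_three hy (this.norm (mem_zpowers y)) (core_ndvd _) (this.sup.symm ▸ ha) h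

namespace CY

variable {g h s t z ρ y : G} {Q P : Subgroup G} (H : CY g h s t z ρ Q P y)
include H

theorem pQ : IsPGroup 2 Q := fun x => ⟨2, Subtype.ext (pg2_of_four H.ss H.sq x.2)⟩

theorem QP : Q ≤ P := fun x hx => (H.memP x (H.nQ.le hx)).2 (by
  simpa only [mul_assoc] using mul_mem hx (H.nQ.conj_mem H.zX (inv_mem hx)))

theorem zP : z ∈ P := (H.memP z H.zX).2 (by simp)

theorem z1P : y * z * y⁻¹ ∈ P := conj_mem_of_mem_normalizer H.yP H.zP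

theorem z2P : y⁻¹ * z * y ∈ P := inv_conj_mem_of_mem_normalizer H.yP H.zP

theorem z11 : y * z * y⁻¹ * (y * z * y⁻¹) = 1 := by rw [conj_mul, H.zz]; group

theorem z22 : y⁻¹ * z * y * (y⁻¹ * z * y) = 1 := by
  calc _ = y⁻¹ * (z * z) * y := by group
    _ = 1 := by rw [H.zz]; group

theorem pP : IsPGroup 2 P := fun x => ⟨3, Subtype.ext (by
  have k : ∀ k ∈ Q, ∀ w ∈ P, w * w = 1 → (k * w) ^ 2 ^ 3 = 1 := fun k hk w hw ww => by
    rw [show 2 ^ 3 = 2 * 4 from rfl, pow_mul]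
    refine pg2_of_four H.ss H.sq ?_
    rw [show (k * w) ^ 2 = k * (w * k * w⁻¹) by rw [inv_self ww, pow_two]; group]
    exact mul_mem hk (H.nQ.conj_mem (H.PX hw) hk)
  obtain ⟨q, hq, e | e | e | e⟩ := H.dec x x.2 <;> rw [coe_pow, e]
  exacts [mul_one q ▸ k q hq 1 (one_mem _) (mul_one 1), k q hq _ H.zP H.zz, k q hq _ H.z1P H.z11, k q hq _ H.z2P H.z22])⟩

theorem fP : Fp y P (zpowers s) :=
  H.fp H.oy H.yP (norm_zp (mem_cent1.1 H.yX)) ⟨zpowers_le.2 (H.QP H.sQ), fun _ hx => norm_zp (mem_cent1.1 (H.PX hx))⟩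
    (ndvd_of_pg2 H.pP) (mem_zpowers s) H.s1 (mem_cent1.1 H.yX).symm

theorem fQ : Fp g Q (zpowers s) :=
  H.fp H.og (H.nQ.norm H.gX) (norm_zp H.sg) ⟨zpowers_le.2 H.sQ, fun _ hx => norm_zp (mem_cent1.1 (H.nQ.le hx))⟩
    (ndvd_of_pg2 H.pQ) (mem_zpowers s) H.s1 H.sg.symm

theorem zz1 : z * (y * z * y⁻¹) = y * z * y⁻¹ * z := inv3 H.ss H.zz H.z11 H.z22 (H.PX H.z2P) (H.fP.prod H.zP)

theorem zz2 : z * (y⁻¹ * z * y) = y⁻¹ * z * y * z := by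
  calc _ = y⁻¹ * (y * z * y⁻¹ * z) * y := by group
    _ = _ := by rw [← H.zz1]; group

theorem Uy {x : G} (hx : x ∈ Q) (e : ⟬z, x⟭ ∈ zpowers s) : ⟬z, y * x * y⁻¹⟭ ∈ zpowers s := H.fP.cc H.zP (H.QP hx) e

theorem Uy' {x : G} (hx : x ∈ Q) (e : ⟬z, x⟭ ∈ zpowers s) : ⟬z, y⁻¹ * x * y⟭ ∈ zpowers s := by
  simpa only [inv_inv] using H.fP.inv.cc H.zP (H.QP hx) e

theorem zg' {c m : G} (hm : m ∈ zpowers s) (e : z * c * z⁻¹ = m * c) :
    z * (g * c * g⁻¹) * z⁻¹ = m * (g⁻¹ * c * g) ∧ z * (g⁻¹ * c * g) * z⁻¹ = m * (g * c * g⁻¹) := by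
  have c1 := (cL hm H.gX).eq
  have c2 := (cL hm H.gX).inv_right.eq
  constructor
  · calc _ = z * g * z⁻¹ * (z * c * z⁻¹) * (z * g * z⁻¹)⁻¹ := by group
      _ = _ := by rw [H.zg, e, ← mul_assoc, ← c2]; group
  · calc _ = (z * g * z⁻¹)⁻¹ * (z * c * z⁻¹) * (z * g * z⁻¹) := by group
      _ = _ := by rw [H.zg, e, inv_inv, ← mul_assoc, ← c1]; group

theorem comm_mul {u a b : G} (hu : u ∈ Q) (ha : a ∈ Q) (hb : b ∈ Q) (e : Commute u a ↔ Commute u b) :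
    Commute u (a * b) := by
  by_cases e1 : Commute u a
  · exact e1.mul_right (e.1 e1)
  have e2 := (H.cm u hu a ha).resolve_left e1
  have e3 := (H.cm u hu b hb).resolve_left (mt e.2 e1)
  rw [commute_iff_eq, ← mul_assoc, e2, mul_assoc _ s, mem_cent1.1 (H.nQ.le hb), ← mul_assoc, mul_assoc a, e3, mul_assoc,
    mul_assoc _ s, H.ss, mul_one, mul_assoc]

theorem Uab {c u : G} (hc : c ∈ Q) (hu : u ∈ Q) (ec : ⟬z, c⟭ ∈ zpowers s) (eu : ⟬z, u⟭ ∈ zpowers s) : Commute u c := by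
  have ha := H.fQ.cj hc
  have hb := H.fQ.cj' hc
  have k : ∀ {a b l : G}, l ∈ zpowers s → b ∈ Q → z * a * z⁻¹ = l * b → Commute u a → Commute u b := fun hl hb e h => by
    have h1 : Commute (z * u * z⁻¹) (z * _ * z⁻¹) := h.map (MulAut.conj z)
    rw [e, show z * u * z⁻¹ = ⟬z, u⟭ * u by group] at h1
    have h2 := (cL eu (mul_mem (H.nQ.le (H.fQ.nrm.le hl)) (H.nQ.le hb))).inv_left.mul_left h1
    rw [inv_mul_cancel_left] at h2
    simpa using (cL hl (H.nQ.le hu)).symm.inv_right.mul_right h2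
  obtain ⟨e1, e2⟩ := H.zg' ec (c := c) (by group)
  have := (cL (H.fQ.prod hc) (H.nQ.le hu)).symm.mul_right (H.comm_mul hu ha hb ⟨k ec hb e1, k ec ha e2⟩).inv_right
  rwa [tr, mul_assoc c, mul_inv_cancel_right] at this

theorem Uel {c : G} (hc : c ∈ Q) (ec : ⟬z, c⟭ ∈ zpowers s) : c * c = 1 := by
  refine (H.sq c hc).resolve_right fun e => H.s1 ?_
  have ha := H.nQ.conj_mem H.yX hc
  have hb := H.nQ.inv_conj_mem H.yX hc
  have c1 := H.Uab hc ha ec (H.Uy hc ec)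
  have c2 := (H.Uab hc hb ec (H.Uy' hc ec)).mul_right (H.Uab ha hb (H.Uy hc ec) (H.Uy' hc ec))
  have e1 : y * c * y⁻¹ * (y * c * y⁻¹) = s := by rw [conj_mul, e, ← mem_cent1.1 H.yX, mul_inv_cancel_right]
  have e2 : y⁻¹ * c * y * (y⁻¹ * c * y) = s := by
    calc _ = y⁻¹ * (c * c * y) := by group
      _ = s := by rw [e, mem_cent1.1 H.yX, inv_mul_cancel_left]
  have e3 : tr y c * tr y c = s := by
    rw [tr, c2.mul_mul_mul_comm, c1.mul_mul_mul_comm, e, e1, e2, H.ss, one_mul]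
  rcases (mem_zp2 H.ss).1 (H.fP.prod (H.QP hc)) with e4 | e4 <;> rw [e4] at e3
  · rw [← e3, mul_one]
  · rw [← e3, H.ss]

theorem Uz {c : G} (hc : c ∈ Q) (ec : ⟬z, c⟭ ∈ zpowers s) : z * c = c * z := by
  have cc := H.Uel hc ec
  have ha := H.nQ.le (H.fQ.cj hc)
  have hb := H.nQ.le (H.fQ.cj' hc)
  have e0 := H.fQ.prod hc
  have aa : g * c * g⁻¹ * (g * c * g⁻¹) = 1 := by rw [conj_mul, cc]; group
  have bb : g⁻¹ * c * g * (g⁻¹ * c * g) = 1 := by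
    calc _ = g⁻¹ * (c * c) * g := by group
      _ = 1 := by rw [cc]; group
  have e3 : z * tr g c * z⁻¹ = tr g c := by rw [← (cL e0 H.zX).eq, mul_inv_cancel_right]
  obtain ⟨m, hm, e4⟩ : ∃ m ∈ zpowers s, z * c * z⁻¹ = m * c := ⟨_, ec, by group⟩
  obtain ⟨e1, e2⟩ := H.zg' hm e4
  have ab := inv3 H.ss aa bb cc (H.nQ.le hc) (by
    rw [show g * c * g⁻¹ * (g⁻¹ * c * g) * c = c⁻¹ * (tr g c * c) by rw [tr]; group, (cL e0 (H.nQ.le hc)).eq,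
      inv_mul_cancel_left]
    exact e0)
  rw [tr, ← conj_mul, ← conj_mul, e1, e2, e4] at e3
  generalize g * c * g⁻¹ = a at *
  generalize g⁻¹ * c * g = b at *
  rcases (mem_zp2 H.ss).1 hm with e | e
  · rw [e, one_mul] at e4
    exact mul_inv_eq_iff_eq_mul.1 e4
  · rw [e, mul_assoc s c, ← mul_assoc c, ← mem_cent1.1 (H.nQ.le hc), ← mul_assoc, ← mul_assoc, ← mul_assoc, H.ss, one_mul,
      ← mem_cent1.1 (mul_mem (H.nQ.le hc) hb), mul_assoc, mul_assoc, ← ab, ← mul_assoc c] at e3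
    exact absurd (mul_eq_right.1 e3) H.s1

end CY

end Cfsg.Agent.M9
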