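import Cfsg.Agent.M9.CaseB1

/-!
# Case (b): the elementary abelian group `R = C(s, z)` and its normaliser
-/

set_option autoImplicit false
set_option linter.unusedSectionVars false

namespace Cfsg.Agent.M9

open Subgroup Cfsg.Agent.Local Cfsg.Agent.FT Cfsg.Agent.Char Cfsg.Agent.Z6
open scoped Pointwise commutatorElement

universe u

variable {G : Type u} [Group G] [Finite G]

/-- A `2`-group `S` normalising `R = C(s, z)` and the complement `V = [R, S]` of `⟨s⟩` in `R`. -/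
structure CS (g h s t z ρ : G) (Q P : Subgroup G) (y : G) (S V : Subgroup G) : Prop
    extends CY g h s t z ρ Q P y where
  pS : IsPGroup 2 S
  fS : Fp y S (𝐂[s] ⊓ 𝐂[z])
  PS : P ≤ S
  tS : t ∈ S
  VR : V ≤ 𝐂[s] ⊓ 𝐂[z]
  yV : y ∈ 𝐍(V)
  SV : S ≤ 𝐍(V)
  sV : s ∉ V
  cmV : ∀ x ∈ S, ∀ r ∈ 𝐂[s] ⊓ 𝐂[z], ⟬x, r⟭ ∈ V

namespace CY

variable {g h s t z ρ y : G} {Q P : Subgroup G} (H : CY g h s t z ρ Q P y)
include H

theorem cmL {c : G} (e : z * c = c * z) : ⟬z, c⟭ ∈ zpowers s := by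
  rw [e, mul_inv_cancel_right, mul_inv_cancel]; exact one_mem _

theorem sR : s ∈ 𝐂[s] ⊓ 𝐂[z] := ⟨mem_cent1.2 rfl, mem_cent1.2 H.sz.symm⟩

theorem zR : z ∈ 𝐂[s] ⊓ 𝐂[z] := ⟨H.zX, mem_cent1.2 rfl⟩

theorem z1R : y * z * y⁻¹ ∈ 𝐂[s] ⊓ 𝐂[z] := ⟨H.PX H.z1P, mem_cent1.2 H.zz1⟩

theorem z2R : y⁻¹ * z * y ∈ 𝐂[s] ⊓ 𝐂[z] := ⟨H.PX H.z2P, mem_cent1.2 H.zz2⟩

theorem RP : 𝐂[s] ⊓ 𝐂[z] ≤ P := fun x hx => (H.memP x hx.1).2 (by
  rw [← mem_cent1.1 hx.2, mul_inv_cancel_right, mul_inv_cancel]; exact one_mem _)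

theorem Uy1 {k : G} (hk : k ∈ Q) (e : z * k = k * z) : z * (y * k * y⁻¹) = y * k * y⁻¹ * z :=
  H.Uz (H.nQ.conj_mem H.yX hk) (H.Uy hk (H.cmL e))

theorem Uy2 {k : G} (hk : k ∈ Q) (e : z * k = k * z) : z * (y⁻¹ * k * y) = y⁻¹ * k * y * z :=
  H.Uz (H.nQ.inv_conj_mem H.yX hk) (H.Uy' hk (H.cmL e))

theorem U1 {k : G} (hk : k ∈ Q) : z * k = k * z ↔ y * z * y⁻¹ * k = k * (y * z * y⁻¹) := by
  refine ⟨fun e => ?_, fun e => ?_⟩
  · calc _ = y * (z * (y⁻¹ * k * y)) * y⁻¹ := by group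
      _ = _ := by rw [H.Uy2 hk e]; group
  · simpa only [conj3] using H.Uy1 (H.nQ.inv_conj_mem H.yX hk) (by
      calc _ = y⁻¹ * (y * z * y⁻¹ * k) * y := by group
        _ = _ := by rw [e]; group)

theorem U2 {k : G} (hk : k ∈ Q) : z * k = k * z ↔ y⁻¹ * z * y * k = k * (y⁻¹ * z * y) := by
  refine ⟨fun e => ?_, fun e => ?_⟩
  · calc _ = y⁻¹ * (z * (y * k * y⁻¹)) * y := by group
      _ = _ := by rw [H.Uy1 hk e]; group
  · have := H.Uy2 (H.nQ.conj_mem H.yX hk) (by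
      calc _ = y * (y⁻¹ * z * y * k) * y⁻¹ := by group
        _ = _ := by rw [e]; group)
    rwa [show y⁻¹ * (y * k * y⁻¹) * y = k by group] at this

theorem decR {r : G} (hr : r ∈ 𝐂[s] ⊓ 𝐂[z]) : ∃ k ∈ Q, z * k = k * z ∧
    (r = k ∨ r = k * z ∨ r = k * (y * z * y⁻¹) ∨ r = k * (y⁻¹ * z * y)) := by
  obtain ⟨k, hk, e⟩ := H.dec r (H.RP hr)
  refine ⟨k, hk, mem_cent1.1 ?_, e⟩
  have h2 := (mem_inf.1 hr).2
  rcases e with rfl | rfl | rfl | rfl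
  exacts [h2, (mul_mem_cancel_right (mem_inf.1 H.zR).2).1 h2, (mul_mem_cancel_right (mem_inf.1 H.z1R).2).1 h2,
    (mul_mem_cancel_right (mem_inf.1 H.z2R).2).1 h2]

theorem Rel {r : G} (hr : r ∈ 𝐂[s] ⊓ 𝐂[z]) : r * r = 1 := by
  obtain ⟨k, hk, e, h⟩ := H.decR hr
  have kk := H.Uel hk (H.cmL e)
  have h1 : ∀ w, w * w = 1 → w * k = k * w → k * w * (k * w) = 1 := fun w ww c => by
    rw [(show Commute w k from c).mul_mul_mul_comm, kk, ww, mul_one]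
  rcases h with rfl | rfl | rfl | rfl
  exacts [kk, h1 _ H.zz e, h1 _ H.z11 ((H.U1 hk).1 e), h1 _ H.z22 ((H.U2 hk).1 e)]

theorem pR : IsPGroup 2 ↥(𝐂[s] ⊓ 𝐂[z]) := pg2_of_sq fun _ => H.Rel

theorem yR : y ∈ 𝐍(𝐂[s] ⊓ 𝐂[z]) := mem_normalizer_of_conj_mem fun r hr => by
  obtain ⟨k, hk, e, h⟩ := H.decR hr
  have h1 : y * k * y⁻¹ ∈ 𝐂[s] ⊓ 𝐂[z] := ⟨H.nQ.le (H.nQ.conj_mem H.yX hk), mem_cent1.2 (H.Uy1 hk e)⟩
  rcases h with rfl | rfl | rfl | rfl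
  · exact h1
  · rw [← conj_mul]; exact mul_mem h1 H.z1R
  · rw [← conj_mul, conj2 H.oy]; exact mul_mem h1 H.z2R
  · rw [← conj_mul, conj3]; exact mul_mem h1 H.zR

theorem tR : t ∈ 𝐍(𝐂[s] ⊓ 𝐂[z]) := mem_normalizer_of_conj_mem fun r hr => by
  have h1 : Commute (t * (s * z) * t⁻¹) (t * r * t⁻¹) :=
    (Commute.mul_left (mem_cent1.1 hr.1) (mem_cent1.1 hr.2)).map (MulAut.conj t)
  have h2 : Commute (t * z * t⁻¹) (t * r * t⁻¹) := Commute.map (mem_cent1.1 hr.2) (MulAut.conj t)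
  rw [H.tszt] at h1
  rw [H.tzt] at h2
  exact ⟨mem_cent1.2 h1, mem_cent1.2 h2⟩

theorem PR : P ≤ 𝐍(𝐂[s] ⊓ 𝐂[z]) := fun p hp => by
  obtain ⟨k, hk, e⟩ := H.dec p hp
  have h1 : k ∈ 𝐍(𝐂[s] ⊓ 𝐂[z]) := mem_normalizer_of_conj_mem fun r hr => by
    have h2 : ⟬k, r⟭ ∈ Q := by simpa only [mul_assoc] using mul_mem hk (H.nQ.conj_mem hr.1 (inv_mem hk))
    have h3 := inv_mem (H.fP.cls (H.QP hk) (H.RP hr) H.zP)
    rw [show k * r * k⁻¹ = ⟬k, r⟭ * r by group]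
    refine mul_mem ⟨H.nQ.le h2, mem_cent1.2 (H.Uz h2 ?_)⟩ hr
    convert h3 using 1
    group
  rcases e with rfl | rfl | rfl | rfl
  exacts [h1, mul_mem h1 (le_normalizer H.zR), mul_mem h1 (le_normalizer H.z1R), mul_mem h1 (le_normalizer H.z2R)]

theorem noinv {E : Subgroup G} (h3 : ¬ 3 ∣ Nat.card E) (sE : s ∈ E) {m : G} (hm : m ∈ 𝐍(E)) (hz : m * z * m⁻¹ ∈ P) :
    m * y * m⁻¹ ≠ y⁻¹ := fun e => by
  have c : Commute (m * y * m⁻¹) (m * s * m⁻¹) := Commute.map (mem_cent1.1 H.yX).symm (MulAut.conj m)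
  rw [e] at c
  rcases H.f1' H.oy h3 sE (conj_mem_of_mem_normalizer hm sE) (mem_cent1.1 H.yX).symm (Commute.inv_left_iff.1 c) with
    e1 | e1 | e1
  · exact H.s1 e1
  · exact H.s1 (by simpa using e1)
  · exact H.m1 m (mem_cent1.2 (mul_inv_eq_iff_eq_mul.1 e1.symm).symm) e hz

theorem exists_CS : ∃ S V, CS g h s t z ρ Q P y S V := by
  have R0 : 𝐂[s] ⊓ 𝐂[z] ≠ ⊥ := fun e => H.s1 (mem_bot.1 (e ▸ H.sR))
  have R3 := ndvd_of_pg2 H.pR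
  have h1 : ∀ K ≤ 𝐍(𝐂[s] ⊓ 𝐂[z]), IsPGroup 2 K → K ≤ core {3}ᶜ 𝐍(𝐂[s] ⊓ 𝐂[z]) := fun K hK pK a ha =>
    H.compl R0 R3 H.oy H.yR (fun m hm => H.noinv R3 H.sR hm (H.RP (conj_mem_of_mem_normalizer hm H.zR))) (hK ha)
      fun d => ndvd_of_pg2 pK (d.trans (orderOf_dvd_card_of_mem ha))
  have F : Fp y (core {3}ᶜ 𝐍(𝐂[s] ⊓ 𝐂[z])) (𝐂[s] ⊓ 𝐂[z]) := H.fp H.oy ((core_nrm _ _).norm H.yR) H.yR
    ⟨h1 _ le_normalizer H.pR, core_le _ _⟩ (core_ndvd _) H.sR H.s1 (mem_cent1.1 H.yX).symm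
  have fS := F.fpQ H.pR
  have PS := F.two H.pR (h1 _ H.PR H.pP) H.pP
  have tS := F.two H.pR (h1 _ (zpowers_le.2 H.tR) (pg_zp2 H.tt)) (pg_zp2 H.tt) (mem_zpowers t)
  have pS : IsPGroup 2 (QQ (core {3}ᶜ 𝐍(𝐂[s] ⊓ 𝐂[z]))) := isPGroup_core 2 _
  generalize QQ (core {3}ᶜ 𝐍(𝐂[s] ⊓ 𝐂[z])) = S at *
  have lt := commutator_lt_of_isNilpotent pS.isNilpotent fS.nrm.le fS.nrm.norm R0
  have cm : ∀ x ∈ S, ∀ r ∈ 𝐂[s] ⊓ 𝐂[z], ⟬x, r⟭ ∈ ⁅𝐂[s] ⊓ 𝐂[z], S⁆ := fun x hx r hr => by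
    rw [commutator_comm]; exact commutator_mem_commutator hx hr
  have yV : y ∈ 𝐍(⁅𝐂[s] ⊓ 𝐂[z], S⁆) :=
    le_normalizer_commutator (zpowers_le.2 H.yR) (zpowers_le.2 fS.nK) (mem_zpowers y)
  refine ⟨S, _, H, pS, fS, PS, tS, lt.le, yV, le_normalizer_commutator fS.nrm.norm le_normalizer, fun e => lt.not_ge ?_, cm⟩
  have zV : z ∈ ⁅𝐂[s] ⊓ 𝐂[z], S⁆ := by
    have := cm t tS s H.sR
    rwa [H.tst, H.sz, mul_inv_cancel_right] at this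
  intro r hr
  obtain ⟨k, hk, e1, h⟩ := H.decR hr
  have kV : k ∈ ⁅𝐂[s] ⊓ 𝐂[z], S⁆ := by
    have h2 := cm _ (PS (H.QP (H.fQ.cj hk))) z H.zR
    have h3 := (H.zg' (one_mem _) (c := k⁻¹) (by rw [one_mul, (Commute.inv_right e1).eq, mul_inv_cancel_right])).1
    rw [mul_assoc, mul_assoc, ← mul_assoc z, conj_inv', h3, one_mul, inv_self (H.Uel hk (H.cmL e1))] at h2
    have := mul_mem (zpowers_le.2 e (H.fQ.prod hk)) (inv_mem h2)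
    rwa [tr, mul_assoc k, mul_inv_cancel_right] at this
  rcases h with rfl | rfl | rfl | rfl
  exacts [kV, mul_mem kV zV, mul_mem kV (conj_mem_of_mem_normalizer yV zV),
    mul_mem kV (inv_conj_mem_of_mem_normalizer yV zV)]

end CY

namespace CS

variable {g h s t z ρ y : G} {Q P S V : Subgroup G} (H : CS g h s t z ρ Q P y S V)
include H

theorem zV : z ∈ V := by
  have := H.cmV t H.tS s H.sR
  rwa [H.tst, H.sz, mul_inv_cancel_right] at this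

theorem fV {v : G} (hv : v ∈ V) (c : y * v = v * y) : v = 1 := by
  rcases H.f1' H.oy (ndvd_of_pg2 H.pR) H.sR (H.VR hv) (mem_cent1.1 H.yX).symm c with e | e | e
  exacts [absurd e H.s1, e, absurd (e ▸ hv) H.sV]

theorem lem : (∀ a ∈ S, ∀ v ∈ V, a * v = v * a → a * (y * v * y⁻¹) = y * v * y⁻¹ * a) ∧
    ∀ a ∈ S, ∀ b ∈ S, ∀ v ∈ V, b * ⟬a, v⟭ = ⟬a, v⟭ * b :=
  H.fS.lemM (fun _ hv => H.Rel (H.VR hv)) H.yV H.SV
    (fun _ hr _ hv => comm_of_sq (fun _ => H.Rel) (H.VR hv) hr) fun _ => H.fV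

theorem Ucen {u k : G} (hu : u ∈ Q) (e : z * u = u * z) (hk : k ∈ Q) : Commute k u := by
  refine (H.cm k hk u hu).resolve_right fun e1 => H.sV ?_
  have := H.cmV k (H.PS (H.QP hk)) u ⟨H.nQ.le hu, mem_cent1.2 e⟩
  rwa [e1, mem_cent1.1 (H.nQ.le (mul_mem hu hk)) |>.symm, mul_assoc s, mul_inv_cancel_right, mul_inv_cancel_right] at this

theorem Qel {k : G} (hk : k ∈ Q) : k * k = 1 := by
  obtain ⟨d, hd, d', hd', e, e', rfl⟩ := H.fQ.fact H.zz H.zg (H.nQ.norm H.zX) (norm_zp H.sz) hk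
  rw [(H.Ucen hd (H.Uz hd e) (H.fQ.cj hd')).mul_mul_mul_comm, conj_mul, H.Uel hd e, H.Uel hd' e']
  group

theorem tr_cm {x : G} (hx : x ∈ Q) : tr g ⟬x, z⟭ = 1 := by
  have c : ∀ {a b : G}, a ∈ Q → b ∈ Q → Commute a b := comm_of_sq fun _ => H.Qel
  have hw := H.nQ.conj_mem H.zX hx
  have e1 : tr g (z * x * z⁻¹) = tr g x := by
    have := tr_conj z g⁻¹ x
    rw [← conj_inv', H.zg, inv_inv] at this
    rw [this, show tr g⁻¹ x = tr g x by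
      rw [tr, tr, inv_inv, mul_assoc x, mul_assoc x, (c (H.fQ.cj' hx) (H.fQ.cj hx)).eq],
      ← (cL (H.fQ.prod hx) H.zX).eq, mul_inv_cancel_right]
  rw [show ⟬x, z⟭ = x * (z * x * z⁻¹) by rw [inv_self (H.Qel hx)]; group]
  generalize z * x * z⁻¹ = w at *
  have e2 : tr g (x * w) = tr g x * tr g w := by
    rw [tr, tr, tr, ← conj_mul, show g⁻¹ * (x * w) * g = g⁻¹ * x * g * (g⁻¹ * w * g) by group,
      (c hw (H.fQ.cj hx)).mul_mul_mul_comm, (c (mul_mem hw (H.fQ.cj hw)) (H.fQ.cj' hx)).mul_mul_mul_comm]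
  rw [e2, e1, H.Qel (H.fQ.tr_mem hx)]

theorem Q_eq : Q = zpowers s := by
  refine le_antisymm (fun k hk => ?_) H.fQ.nrm.le
  by_contra hn
  obtain ⟨x, hx, d1⟩ : ∃ x ∈ Q, ⟬x, z⟭ ≠ 1 := by
    by_contra! e
    have e1 : ∀ x ∈ Q, z * x = x * z := fun x hx => by
      have := e x hx
      rw [mul_inv_eq_one, mul_inv_eq_iff_eq_mul] at this
      exact this.symm
    exact hn (H.fQ.triv H.zz H.zg (norm_zp H.sz) hk (H.cmL (e1 k hk)) (H.cmL (e1 _ (H.fQ.cj hk))))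
  have QS : Q ≤ S := H.QP.trans H.PS
  have dQ : ⟬x, z⟭ ∈ Q := (H.memP x (H.nQ.le hx)).1 (H.QP hx)
  have tg := H.tr_cm hx
  have td := H.lem.2 x (QS hx) t H.tS z H.zV
  have xR : ¬ Q ≤ 𝐂[s] ⊓ 𝐂[z] := fun e => d1 (by rw [← mem_cent1.1 (e hx).2]; group)
  generalize ⟬x, z⟭ = d at *
  replace td : t * d * t⁻¹ = d := mul_inv_eq_iff_eq_mul.2 td
  have th : tr h d = 1 := by
    have := tr_conj t g d
    rwa [← H.hd, td, tg, mul_one, mul_inv_cancel] at this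
  have e1 : h * d * h⁻¹ = t * (g * d * g⁻¹) * t⁻¹ := by
    conv_lhs => rw [← td, H.hd]
    group
  have a2 : h * d * h⁻¹ ∈ 𝐍(Q) := by
    have hS : h * d * h⁻¹ ∈ S := e1 ▸ mul_mem (mul_mem H.tS (QS (H.fQ.cj dQ))) (inv_mem H.tS)
    have c1 : Commute (t * s * t⁻¹) (t * (g * d * g⁻¹) * t⁻¹) :=
      Commute.map (mem_cent1.1 (H.nQ.le (H.fQ.cj dQ))) (MulAut.conj t)
    rw [← e1, H.tst] at c1
    generalize h * d * h⁻¹ = u at *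
    have h1 : ∀ w ∈ MulAut.conj u • Q, w ∈ Q ∨ w ∈ 𝐂[s] ⊓ 𝐂[z] := fun w hw => by
      have k1 := mem_conj_smul_iff.1 hw
      have wS : w ∈ S := by simpa [mul_assoc] using mul_mem (mul_mem hS (QS k1)) (inv_mem hS)
      have ww : w * w = 1 := by simpa [mul_assoc] using congrArg (fun a => u * a * u⁻¹) (H.Qel k1)
      have c2 : Commute w (u * s * u⁻¹) := by
        simpa [mul_assoc] using Commute.map (mem_cent1.1 (H.nQ.le k1)).symm (MulAut.conj u)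
      have c3 : Commute w ⟬u, z⟭ := H.lem.2 u hS w wS z H.zV
      have wX : w ∈ 𝐂[s] := by
        have := c2.mul_right c3
        rw [show u * s * u⁻¹ * ⟬u, z⟭ = u * (s * z) * u⁻¹ * z⁻¹ by group, ← c1.eq, mul_inv_cancel_right,
          mul_inv_cancel_right] at this
        exact mem_cent1.2 this.symm
      obtain ⟨k, hk, e⟩ := H.dec w (H.m2 w wX ww (H.RP (H.fS.nrm.conj_mem wS H.zR)))
      have k2 : ∀ v, v * v = 1 → w = k * v → v * k = k * v := fun v vv e =>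
        (comm_of_sqs (H.Qel hk) vv (e ▸ ww)).symm
      have k3 : z * k = k * z → k ∈ 𝐂[s] ⊓ 𝐂[z] := fun e => ⟨H.nQ.le hk, mem_cent1.2 e⟩
      rcases e with e | e | e | e
      · exact .inl (e ▸ hk)
      · exact .inr (e ▸ mul_mem (k3 (k2 _ H.zz e)) H.zR)
      · exact .inr (e ▸ mul_mem (k3 ((H.U1 hk).2 (k2 _ H.z11 e))) H.z1R)
      · exact .inr (e ▸ mul_mem (k3 ((H.U2 hk).2 (k2 _ H.z22 e))) H.z2R)
    rcases SubgroupClass.subset_union.1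
      (show ((MulAut.conj u • Q : Subgroup G) : Set G) ⊆ Q ∪ (𝐂[s] ⊓ 𝐂[z] : Subgroup G) from h1) with e | e
    · exact mem_normalizer_of_conj_mem fun k hk => e (conj_mem_conj_smul u hk)
    · refine absurd (fun k hk => ?_) xR
      simpa [mul_assoc] using H.fS.nrm.inv_conj_mem hS (e (conj_mem_conj_smul u hk))
  have Q0 : Q ≠ ⊥ := fun e => H.s1 (mem_bot.1 (e ▸ H.sQ))
  refine H.mtrick (D₂ := MulAut.conj t • Q) Q0 (ndvd_of_pg2 H.pQ) (fun e => H.s1 ?_)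
    (by rw [card_conj_smul]; exact ndvd_of_pg2 H.pQ) H.fQ.nK ?_ d1 tg th (le_normalizer dQ) a2
    (le_normalizer (td ▸ conj_mem_conj_smul t dQ)) ?_
  · have := conj_mem_conj_smul t H.sQ
    rw [e] at this
    simpa using this
  · rw [normalizer_conj_smul, H.hd]
    exact conj_mem_conj_smul t H.fQ.nK
  · rw [normalizer_conj_smul, Local.mem_conj_smul_iff, ← H.ti, inv_inv, H.ti]
    rwa [e1, H.ti] at a2

end CS

end Cfsg.Agent.M9
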