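import Cfsg.Agent.M9.PG
import Cfsg.Agent.M9.CMod
import Cfsg.Agent.M9.CT4

/-!
# Case (c): `C(s) / ⟨s⟩ = PSL(2, 7)`
-/

set_option autoImplicit false
set_option linter.unusedSectionVars false
set_option linter.unusedSimpArgs false

namespace Cfsg.Agent.M9

open Subgroup Cfsg.Agent.Local Cfsg.Agent.FT Cfsg.Agent.Char Cfsg.Agent.Z6
open scoped Pointwise

universe u

variable {G : Type u} [Group G] [Finite G]

/-- The lifted configuration, relations up to `s`. -/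
structure FC0 (g h s t z ρ g1 g2 a b : G) : Prop extends Hyp g h s t z ρ where
  o1 : orderOf g1 = 3
  o2 : orderOf g2 = 3
  s1g : g1 * s = s * g1
  s2g : g2 * s = s * g2
  ad : a = g1 * z * g1⁻¹
  bd : b = g2 * z * g2⁻¹
  az : a * z = z * a
  bz : b * z = z * b
  b1 : b * g1 * b⁻¹ = g1⁻¹
  a2 : a * g2 * a⁻¹ = g2⁻¹
  ab' : a * b * (a * b) = z ∨ a * b * (a * b) = z * s
  ta' : tr g a = 1 ∨ tr g a = s
  tb' : tr g b = 1 ∨ tr g b = s
  cz : ∀ x, x * s = s * x → x * z = z * x → ∃ u, (u = 1 ∨ u = s ∨ u = z ∨ u = s * z) ∧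
    (x = u ∨ x = u * a ∨ x = u * b ∨ x = u * (a * b))
  nz : ¬ IsConj s z
  syl : ¬ 32 ∣ Nat.card 𝐂[s]

theorem comm_of_three {x y w s : G} (xx : x * x = 1) (yy : y * y = 1) (ww : w * w = 1)
    (ss : s * s = 1) (ws : w * s = s * w) (e : x * y * w = 1 ∨ x * y * w = s) : y * x = x * y := by
  have k : x * y * (x * y) = 1 := by
    rcases e with e | e
    · rw [eq_inv_of_mul_eq_one_left e, inv_self ww, ww]
    · rw [eq_mul_inv_of_mul_eq e, inv_self ww, mul_assoc, ← mul_assoc w, ws, mul_assoc, ww, mul_one, ss]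
  rw [← inv_self k, mul_inv_rev, inv_self xx, inv_self yy]

theorem CC.exists_FC0 {g h s t z ρ : G} {π} (H : CC g h s t z ρ π) :
    ∃ g1 g2 a b, FC0 g h s t z ρ g1 g2 a b := by
  have cs : ∀ x : 𝐂[s], x.1 * s = s * x.1 := fun x => (mem_cent1.1 x.2).symm
  have eq : ∀ x y : 𝐂[s], π x = π y → x.1 = y.1 ∨ x.1 = s * y.1 := fun x y e => by
    have := (H.ker (x * y⁻¹)).1 (by rw [map_mul, map_inv, e, mul_inv_cancel])
    simpa only [coe_mul, coe_inv, mul_inv_eq_iff_eq_mul, one_mul] using this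
  have lift : ∀ y, y ^ 3 = 1 → y ≠ 1 → ∃ x : 𝐂[s], π x = y ∧ orderOf x.1 = 3 := fun y y3 y1 => by
    obtain ⟨x, rfl⟩ := H.surj y
    have : Fact (Nat.Prime 3) := ⟨Nat.prime_three⟩
    have πs : π ⟨s, mem_cent1.2 rfl⟩ = 1 := (H.ker _).2 (Or.inr rfl)
    rcases (H.ker (x ^ 3)).1 (by rw [map_pow, y3]) with e | e
    · exact ⟨x, rfl, orderOf_eq_prime e fun k => y1 ((H.ker _).2 (Or.inl k))⟩
    · refine ⟨x * ⟨s, mem_cent1.2 rfl⟩, by rw [map_mul, πs, mul_one], orderOf_eq_prime ?_ fun k => y1 ?_⟩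
      · rw [coe_mul, Commute.mul_pow (cs x), ← coe_pow, e, pow_three, H.ss, mul_one, H.ss]
      · have := (H.ker _).2 (Or.inl k)
        rwa [map_mul, πs, mul_one] at this
  set z' : 𝐂[s] := ⟨z, H.zX⟩ with hz'
  set g' : 𝐂[s] := ⟨g, H.gX⟩ with hg'
  have g3 : g ^ 3 = 1 := by rw [← H.og, pow_orderOf_eq_one]
  obtain ⟨k1, k2, a0, b0, M⟩ := exists_mod7 (g := π g') (z := π z')
    (by rw [← map_pow]; exact (H.ker _).2 (Or.inl g3))
    (fun e => by
      rcases (H.ker _).1 e with e | e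
      · have := H.og; rw [show g = 1 from e] at this; simp at this
      · rw [show g = s from e, pow_three, H.ss, mul_one] at g3; exact H.s1 g3)
    (by rw [← map_mul]; exact (H.ker _).2 (Or.inl H.zz))
    (fun e => ((H.ker _).1 e).elim H.z1 fun e => H.s_ne_z e.symm)
    (by rw [← map_inv, ← map_inv, ← map_mul, ← map_mul]; exact congrArg π (Subtype.ext H.zg))
  obtain ⟨g1, rfl, o1⟩ := lift k1 M.o1 M.n1
  obtain ⟨g2, rfl, o2⟩ := lift k2 M.o2 M.n2
  set a' := g1 * z' * g1⁻¹ with ha'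
  set b' := g2 * z' * g2⁻¹ with hb'
  obtain rfl : a0 = π a' := by rw [M.ad, ha', map_mul, map_mul, map_inv]
  obtain rfl : b0 = π b' := by rw [M.bd, hb', map_mul, map_mul, map_inv]
  have cz : ∀ n : G, n * z * n⁻¹ * (n * z * n⁻¹) = 1 := fun n => by rw [conj_mul, H.zz]; group
  have ex : ∀ (c y : 𝐂[s]), orderOf y.1 = 3 → π c * π y * (π c)⁻¹ = (π y)⁻¹ →
      c.1 * y.1 * c.1⁻¹ = y.1⁻¹ := fun c y o e => by
    have y3 : y.1 ^ 3 = 1 := by rw [← o, pow_orderOf_eq_one]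
    rcases eq (c * y * c⁻¹) y⁻¹ (by simpa only [map_mul, map_inv] using e) with k | k
    · exact k
    · have k' : c.1 * y.1 * c.1⁻¹ = s * y.1⁻¹ := k
      have := congrArg (· ^ 3) k'
      simp only [conj_pow, Commute.mul_pow (Commute.inv_right (cs y).symm), inv_pow, y3, pow_three s,
        H.ss, mul_one, inv_one, mul_inv_cancel] at this
      exact absurd this.symm H.s1
  have cm : ∀ y : 𝐂[s], π z' * π (y * z' * y⁻¹) * ((π y)⁻¹ * π z' * π y) = 1 →
      y.1 * z * y.1⁻¹ * z = z * (y.1 * z * y.1⁻¹) := fun y e =>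
    comm_of_three H.zz (cz _) (by simpa using cz y.1⁻¹) H.ss (cs (y⁻¹ * z' * y))
      ((H.ker (z' * (y * z' * y⁻¹) * (y⁻¹ * z' * y))).1 (by simpa only [map_mul, map_inv] using e))
  refine ⟨g1.1, g2.1, a'.1, b'.1, H.toHyp, o1, o2, cs g1, cs g2, rfl, rfl, cm g1 M.t1, cm g2 M.t2,
    ex _ _ o1 M.b1, ex _ _ o2 M.a2, ?_, ?_, ?_, fun x xs xz => ?_, fun hc => ?_, ?_⟩
  · rw [← H.sz]
    exact eq (a' * b' * (a' * b')) z' (by simpa only [map_mul] using M.ab)
  · exact (H.ker (a' * (g' * a' * g'⁻¹) * (g'⁻¹ * a' * g'))).1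
      (by simpa only [map_mul π, map_inv π] using M.ta)
  · exact (H.ker (b' * (g' * b' * g'⁻¹) * (g'⁻¹ * b' * g'))).1
      (by simpa only [map_mul π, map_inv π] using M.tb)
  · set x' : 𝐂[s] := ⟨x, mem_cent1.2 xs.symm⟩
    have k := M.cz (π x') (by rw [← map_mul, ← map_mul]; exact congrArg π (Subtype.ext xz))
    rw [← map_one π] at k
    simp only [← map_mul] at k
    rcases k with k | k | k | k | k | k | k | k <;> rcases eq _ _ k with k | k
    · exact ⟨1, by simp, Or.inl k⟩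
    · exact ⟨s, by simp, Or.inl (k.trans (mul_one s))⟩
    · exact ⟨z, by simp, Or.inl k⟩
    · exact ⟨s * z, by simp, Or.inl k⟩
    · exact ⟨1, by simp, Or.inr (Or.inl (k.trans (one_mul _).symm))⟩
    · exact ⟨s, by simp, Or.inr (Or.inl k)⟩
    · exact ⟨z, by simp, Or.inr (Or.inl k)⟩
    · exact ⟨s * z, by simp, Or.inr (Or.inl (k.trans (mul_assoc ..).symm))⟩
    · exact ⟨1, by simp, Or.inr (Or.inr (Or.inl (k.trans (one_mul _).symm)))⟩
    · exact ⟨s, by simp, Or.inr (Or.inr (Or.inl k))⟩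
    · exact ⟨z, by simp, Or.inr (Or.inr (Or.inl k))⟩
    · exact ⟨s * z, by simp, Or.inr (Or.inr (Or.inl (k.trans (mul_assoc ..).symm)))⟩
    · exact ⟨1, by simp, Or.inr (Or.inr (Or.inr (k.trans (one_mul _).symm)))⟩
    · exact ⟨s, by simp, Or.inr (Or.inr (Or.inr k))⟩
    · exact ⟨z, by simp, Or.inr (Or.inr (Or.inr k))⟩
    · exact ⟨s * z, by simp, Or.inr (Or.inr (Or.inr (k.trans (mul_assoc ..).symm)))⟩
  · obtain ⟨n, hn⟩ := isConj_iff.1 hc.symm
    have r4 : (n * ρ * n⁻¹) ^ 4 = s := by rw [conj_pow, ← H.zd, hn]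
    set r : 𝐂[s] := ⟨n * ρ * n⁻¹, mem_cent1.2 (by rw [← r4, ← pow_succ, ← pow_succ'])⟩
    have k : ∀ y : 𝐂[s], y.1 ^ 4 = s → y.1 * y.1 * (y.1 * y.1) ≠ 1 := fun y e k =>
      H.s1 (by rw [← e, ← k]; simp [pow_succ, mul_assoc])
    rcases M.cls (π (r * r)) (by
      rw [← map_mul]; exact (H.ker _).2 (Or.inr (Eq.trans (by simp [r, pow_succ, mul_assoc]) r4))) with e | ⟨m, e⟩
    · refine k r r4 ?_
      rcases (H.ker _).1 e with e | e <;> rw [← coe_mul, e]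
      · simp
      · exact H.ss
    · obtain ⟨m, rfl⟩ := H.surj m
      refine k (m * r * m⁻¹) (by rw [coe_mul, coe_mul, coe_inv, conj_pow, r4, cs, mul_inv_cancel_right]) ?_
      rcases eq (m * r * m⁻¹ * (m * r * m⁻¹)) z' (by rw [conj_mul, ← e]; simp only [map_mul, map_inv])
        with e | e <;> rw [← coe_mul, e]
      · exact H.zz
      · exact H.szsz
  · have c := card_eq_card_quotient_mul_card_subgroup π.ker
    rw [Nat.card_congr (QuotientGroup.quotientKerEquivOfSurjective π H.surj).toEquiv, card_L7] at c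
    have k : π.ker = zpowers ⟨s, mem_cent1.2 rfl⟩ := by
      ext x
      rw [MonoidHom.mem_ker, H.ker, mem_zp2 (Subtype.ext H.ss), Subtype.ext_iff, Subtype.ext_iff]
      rfl
    have : Fact (Nat.Prime 2) := ⟨Nat.prime_two⟩
    rw [k, Nat.card_zpowers, orderOf_eq_prime (p := 2) (Subtype.ext (by simp [pow_two, H.ss]))
      (fun e => H.s1 (congrArg Subtype.val e))] at c
    rw [c]; norm_num

namespace FC0

variable {g h s t z ρ g1 g2 a b : G} (H : FC0 g h s t z ρ g1 g2 a b)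
include H

theorem aa : a * a = 1 := by rw [H.ad, conj_mul, H.zz]; group

theorem bb : b * b = 1 := by rw [H.bd, conj_mul, H.zz]; group

theorem g1s : g1 * s * g1⁻¹ = s := by rw [H.s1g, mul_inv_cancel_right]

theorem g2s : g2 * s * g2⁻¹ = s := by rw [H.s2g, mul_inv_cancel_right]

theorem as : a * s = s * a := by rw [H.ad, ← H.g1s, conj_mul, conj_mul, H.sz]

theorem bs : b * s = s * b := by rw [H.bd, ← H.g2s, conj_mul, conj_mul, H.sz]

theorem ts : t * s = s * (z * t) := by rw [← mul_assoc, ← H.tst, inv_mul_cancel_right]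

theorem c1 : s⁻¹ = s ∧ z⁻¹ = z ∧ a⁻¹ = a ∧ b⁻¹ = b ∧ t⁻¹ = t ∧ s * s = 1 ∧ (∀ r, s * (s * r) = 1 * r) ∧
    z * z = 1 ∧ (∀ r, z * (z * r) = 1 * r) ∧ a * a = 1 ∧ (∀ r, a * (a * r) = 1 * r) ∧ b * b = 1 ∧
    (∀ r, b * (b * r) = 1 * r) ∧ t * t = 1 ∧ (∀ r, t * (t * r) = 1 * r) ∧ z * s = s * z ∧
    (∀ r, z * (s * r) = s * z * r) ∧ a * s = s * a ∧ (∀ r, a * (s * r) = s * a * r) ∧ b * s = s * b ∧
    (∀ r, b * (s * r) = s * b * r) ∧ a * z = z * a ∧ (∀ r, a * (z * r) = z * a * r) ∧ b * z = z * b ∧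
    (∀ r, b * (z * r) = z * b * r) ∧ t * s = s * (z * t) ∧ (∀ r, t * (s * r) = s * (z * t) * r) ∧
    t * z = z * t ∧ ∀ r, t * (z * r) = z * t * r :=
  ⟨H.si, H.zi, inv_self H.aa, inv_self H.bb, H.ti, H.ss, rw3 H.ss, H.zz, rw3 H.zz, H.aa, rw3 H.aa, H.bb,
    rw3 H.bb, H.tt, rw3 H.tt, H.sz.symm, rw3 H.sz.symm, H.as, rw3 H.as, H.bs, rw3 H.bs, H.az, rw3 H.az,
    H.bz, rw3 H.bz, H.ts, rw3 H.ts, H.tz, rw3 H.tz⟩

theorem sq' {x : G} (xs : x * s = s * x) (xz : x * z = z * x) : x * x = 1 ∨ x * x = a * b * (a * b) := by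
  obtain ⟨u, rfl | rfl | rfl | rfl, rfl | rfl | rfl | rfl⟩ := H.cz x xs xz <;> simp [col0, H.c1]

/-- Conjugation by `t` preserves `C(s) ∩ C(z)`. -/
theorem tT {x : G} (xs : x * s = s * x) (xz : x * z = z * x) :
    t * x * t⁻¹ * s = s * (t * x * t⁻¹) ∧ t * x * t⁻¹ * z = z * (t * x * t⁻¹) := by
  constructor <;> simp only [col0, H.c1, xs, xz, rw3 xs, rw3 xz]

theorem ab : a * b * (a * b) = z := by
  refine H.ab'.resolve_right fun e => ?_
  obtain ⟨k1, k2⟩ := H.tT (x := a * b) (by simp only [col0, H.c1]) (by simp only [col0, H.c1])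
  have := H.sq' k1 k2
  rw [conj_mul, e] at this
  simp [col0, H.c1, H.s1, H.z1] at this

theorem ba : b * a = z * (a * b) := by
  calc b * a = (a * b * (a * b))⁻¹ * (a * b) := by simp only [col0, H.c1]
    _ = _ := by rw [H.ab, H.zi]

theorem c2 : b * a = z * (a * b) ∧ ∀ r, b * (a * r) = z * (a * b) * r := ⟨H.ba, rw3 H.ba⟩

theorem swap : FC0 g h s t z ρ g2 g1 b a :=
  { H with
    o1 := H.o2, o2 := H.o1, s1g := H.s2g, s2g := H.s1g, ad := H.bd, bd := H.ad, az := H.bz, bz := H.az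
    b1 := H.a2, a2 := H.b1, ab' := Or.inl (by simp only [col0, H.c1, H.c2]), ta' := H.tb', tb' := H.ta'
    cz := fun x h1 h2 => by
      obtain ⟨u, hu, e | e | e | e⟩ := H.cz x h1 h2
      · exact ⟨u, hu, Or.inl e⟩
      · exact ⟨u, hu, Or.inr (Or.inr (Or.inl e))⟩
      · exact ⟨u, hu, Or.inr (Or.inl e)⟩
      · refine ⟨u * z, ?_, Or.inr (Or.inr (Or.inr (by rw [e]; simp only [col0, H.c1, H.c2])))⟩
        rcases hu with rfl | rfl | rfl | rfl <;> simp [col0, H.c1] }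

theorem sq {x : G} (xs : x * s = s * x) (xz : x * z = z * x) : x * x = 1 ∨ x * x = z :=
  H.ab ▸ H.sq' xs xz

theorem nab : a * b ≠ b * a := by simp [H.c2, H.z1]

theorem a1 : a ≠ 1 := fun e => H.nab (by simp [e])

theorem a_ne_z : a ≠ z := fun e => H.nab (by rw [e, H.bz])

theorem ca : IsConj z a := isConj_iff.2 ⟨g1, H.ad.symm⟩

theorem na : ¬ IsConj s a := fun e => H.nz (e.trans H.ca.symm)

theorem ya : IsConj s (s * a) := cjc H.s_conj_sz g1 (by rw [← conj_mul, H.g1s, ← H.ad])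

theorem gz : g1 * z * g1⁻¹ = a := H.ad.symm

theorem gz' : g1⁻¹ * z * g1 = z * a := by
  calc _ = (b * g1 * b⁻¹) * z * (b * g1 * b⁻¹)⁻¹ := by rw [H.b1, inv_inv]
    _ = b * (g1 * (b⁻¹ * z * b) * g1⁻¹) * b⁻¹ := by group
    _ = _ := by
      rw [show b⁻¹ * z * b = z by simp only [col0, H.c1], H.gz]; simp only [col0, H.c1, H.c2]

theorem ga : g1 * a * g1⁻¹ = z * a := by rw [← H.gz', ← conj2 H.o1, H.gz]

theorem ga' : g1⁻¹ * a * g1 = z := by rw [← H.gz]; group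

theorem g1s' : g1⁻¹ * s * g1 = s := by rw [mul_assoc, ← H.s1g, inv_mul_cancel_left]

theorem invT {x : G} (xs : x * s = s * x) (xz : x * z = z * x) (xx : x * x = 1) (n : ¬ IsConj s x) :
    x = 1 ∨ x = z ∨ x = a ∨ x = z * a ∨ x = b ∨ x = z * b := by
  have k1 := H.s_conj_sz
  have k2 := H.ya
  have k3 := H.swap.ya
  have k4 : IsConj s (s * z * a) := cjc H.ya b (by simp only [col0, H.c1, H.c2])
  have k5 : IsConj s (s * z * b) := cjc H.swap.ya a (by simp only [col0, H.c1, H.c2])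
  obtain ⟨u, rfl | rfl | rfl | rfl, rfl | rfl | rfl | rfl⟩ := H.cz x xs xz <;>
    first
    | exact absurd (by assumption) n
    | exact absurd (IsConj.refl _) n
    | (simp [col0, H.c1, H.c2, H.z1] at xx; done)
    | simp

theorem zga : z * (g * a * g⁻¹) * z⁻¹ = g⁻¹ * a * g := by
  calc _ = (z * g * z⁻¹) * (z * a * z⁻¹) * (z * g * z⁻¹)⁻¹ := by group
    _ = _ := by rw [H.zg, ← H.az]; group

theorem gas : g * a * g⁻¹ * s = s * (g * a * g⁻¹) := by
  have : g * s * g⁻¹ = s := by rw [← H.sg, mul_inv_cancel_right]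
  rw [← this, conj_mul, conj_mul, H.as]

theorem kl : Kl a (g * a * g⁻¹) := by
  have e : ∀ n : G, n * a * n⁻¹ * (n * a * n⁻¹) = 1 := fun n => by rw [conj_mul, H.aa]; group
  refine ⟨H.aa, e g, (comm_of_three H.aa (e g) (by simpa using e g⁻¹) H.ss ?_ H.ta').symm⟩
  rw [← H.zga, ← show z * s * z⁻¹ = s by simp only [col0, H.c1], conj_mul, conj_mul, H.gas]

/-- Transport of `C(s) ∩ C(a)` to `C(s) ∩ C(z)`. -/
theorem back {x : G} (xs : x * s = s * x) (xa : x * a = a * x) :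
    g1⁻¹ * x * g1 * s = s * (g1⁻¹ * x * g1) ∧ g1⁻¹ * x * g1 * z = z * (g1⁻¹ * x * g1) := by
  have e : ∀ p q : G, g1⁻¹ * p * g1 * (g1⁻¹ * q * g1) = g1⁻¹ * (p * q) * g1 := fun p q => by group
  exact ⟨by rw [← H.g1s', e, e, xs], by rw [← H.ga', e, e, xa]⟩

theorem ta : tr g a = 1 := by
  refine H.ta'.resolve_right fun e => ?_
  have k : g * a * g⁻¹ * z * (g * a * g⁻¹ * z) = a * s := by
    rw [← e, tr, ← H.zga]; simp only [col0, H.c1]
  obtain ⟨k1, k2⟩ := H.back (x := g * a * g⁻¹ * z) (by rw [mul_assoc, ← H.sz, ← mul_assoc, H.gas, mul_assoc])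
    (by rw [mul_assoc, ← H.az, ← mul_assoc, ← H.kl.comm, mul_assoc])
  have := H.sq k1 k2
  rw [show ∀ p : G, g1⁻¹ * p * g1 * (g1⁻¹ * p * g1) = g1⁻¹ * (p * p) * g1 from fun p => by group, k,
    show g1⁻¹ * (a * s) * g1 = g1⁻¹ * a * g1 * (g1⁻¹ * s * g1) by group, H.ga', H.g1s', ← H.sz] at this
  rcases this with e | e
  · exact H.sz1 e
  · exact H.z_ne_sz e.symm

theorem gaa : g⁻¹ * a * g = a * (g * a * g⁻¹) := by
  rw [eq_inv_of_mul_eq_one_right H.ta, mul_inv_rev, H.kl.ip, H.kl.iq, H.kl.comm]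

theorem invA {x : G} (xs : x * s = s * x) (xa : x * a = a * x) (xx : x * x = 1) (n : ¬ IsConj s x)
    (xz : x * z ≠ z * x) : x = g1 * b * g1⁻¹ ∨ x = a * (g1 * b * g1⁻¹) := by
  obtain ⟨k1, k2⟩ := H.back xs xa
  have e : x = g1 * (g1⁻¹ * x * g1) * g1⁻¹ := by group
  rcases H.invT k1 k2 (by
      rw [show ∀ p : G, g1⁻¹ * p * g1 * (g1⁻¹ * p * g1) = g1⁻¹ * (p * p) * g1 from fun p => by group, xx]
      group)
    (fun c => n (cjc c g1 e.symm)) with k | k | k | k | k | k <;> rw [k] at e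
  · exact absurd (by simp [e]) xz
  · exact absurd (by rw [e, H.gz, H.az]) xz
  · exact absurd (by rw [e, H.ga]; simp only [col0, H.c1]) xz
  · exact absurd (by rw [e, ← conj_mul, H.gz, H.ga]; simp only [col0, H.c1]) xz
  · exact Or.inl e
  · exact Or.inr (by rw [e, ← conj_mul, H.gz])

theorem case1 (e : t * a * t⁻¹ = b ∨ t * a * t⁻¹ = z * b) : False := by
  refine pg H.h2 H.ss H.aa H.bb H.ab H.zz H.z1 H.as.symm H.bs.symm H.syl H.na H.swap.na H.nz H.ya
    H.swap.ya fun r hr rs => ?_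
  have hT : closure {s, a, b} ≤ 𝐂[s] ⊓ 𝐂[z] := by
    rw [closure_le]
    rintro x (rfl | rfl | rfl) <;> refine ⟨mem_cent1.2 ?_, mem_cent1.2 ?_⟩ <;> simp only [H.c1]
  obtain ⟨k1, k2⟩ := hT (conj_mem_of_mem_normalizer hr (mul_mem (subset_closure (by simp) : a ∈ _)
    (subset_closure (by simp) : b ∈ _)))
  have rz := H.sq (mem_cent1.1 k1).symm (mem_cent1.1 k2).symm
  rw [conj_mul, H.ab] at rz
  replace rz := rz.resolve_left (by simpa using H.z1)
  have k : t * r * a * (t * r)⁻¹ * a = a * (t * r * a * (t * r)⁻¹) := by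
    obtain ⟨u, rfl | rfl | rfl | rfl, k | k | k | k⟩ := H.cz (t * r)
      (by rw [mul_assoc, mul_inv_eq_iff_eq_mul.1 rs]; simp only [col0, H.c1])
      (by rw [mul_assoc, mul_inv_eq_iff_eq_mul.1 rz]; simp only [col0, H.c1]) <;> rw [k] <;>
      simp only [col0, H.c1, H.c2]
  rw [show t * r * a * (t * r)⁻¹ = t * (r * a * r⁻¹) * t⁻¹ by group] at k
  constructor <;> intro c <;> rw [c] at k
  · rcases e with e | e <;> rw [e] at k <;> simp [col0, H.c1, H.c2, H.z1] at k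
  · rw [← conj_mul, H.tzt] at k
    rcases e with e | e <;> rw [e] at k <;> simp [col0, H.c1, H.c2, H.z1] at k

theorem case2 (e : t * a * t⁻¹ = a) : False := by
  have K := H.kl
  have K' := K.conj t
  have hu : t * (g * a * g⁻¹) * t⁻¹ = h * a * h⁻¹ := by
    calc _ = t * g * t⁻¹ * (t * a * t⁻¹) * (t * g * t⁻¹)⁻¹ := by group
      _ = _ := by rw [e, ← H.hd]
  have hu' : t * (h * a * h⁻¹) * t⁻¹ = g * a * g⁻¹ := by
    rw [← hu, show ∀ p, t * (t * p * t⁻¹) * t⁻¹ = t * t * p * (t * t)⁻¹ from fun p => by group, H.tt]; group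
  rw [e, hu] at K'
  have th : tr h a = 1 := by
    have := tr_conj t g a
    rwa [← H.hd, e, H.ta, mul_one, mul_inv_cancel] at this
  have haa : h⁻¹ * a * h = a * (h * a * h⁻¹) := by
    rw [eq_inv_of_mul_eq_one_right th, mul_inv_rev, K'.ip, K'.iq, K'.comm]
  set a' := g * a * g⁻¹ with ha'
  set u := h * a * h⁻¹ with hud
  have uz : u * z * u⁻¹ = a * z := by
    have : z * u * z⁻¹ = a * u := by
      calc _ = (z * h * z⁻¹) * (z * a * z⁻¹) * (z * h * z⁻¹)⁻¹ := by rw [hud]; group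
        _ = _ := by rw [H.zh, ← H.az, ← haa]; group
    calc _ = u * (z * u * z⁻¹) * z := by rw [K'.iq]; group
      _ = _ := by rw [this, K'.comm', K'.qq, mul_one]
  have ua : u * a * u⁻¹ = a := by rw [← K'.comm, mul_inv_cancel_right]
  have us : u * s * u⁻¹ = s * a := by
    have : u * (s * z) * u⁻¹ = s * z := by
      have k : h * (s * z) * h⁻¹ = s * z := by rw [← H.szh, mul_inv_cancel_right]
      rw [hud, ← k, conj_inv', conj_mul, conj_mul]; simp only [col0, H.c1]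
    calc _ = u * (s * z) * u⁻¹ * (u * z * u⁻¹) := by rw [conj_mul, mul_assoc s, H.zz, mul_one]
      _ = _ := by rw [this, uz]; simp only [col0, H.c1]
  have a'z : a' * z ≠ z * a' := fun k => H.a1 (by
    have := H.zga
    rw [H.gaa, ← ha', ← k, mul_inv_cancel_right] at this
    simpa using this)
  have na' : ¬ IsConj s a' := fun c => H.na (c.trans (isConj_iff.2 ⟨g, rfl⟩ : IsConj a a').symm)
  have va : u * a' * u⁻¹ * a = a * (u * a' * u⁻¹) := by
    nth_rw 1 [← ua]; nth_rw 2 [← ua]; rw [conj_mul, conj_mul, K.comm]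
  have v : u * a' * u⁻¹ = a' ∨ u * a' * u⁻¹ = a * a' := by
    have k1 := H.invA H.gas K.comm.symm K.qq na' a'z
    have k2 := H.invA (x := u * a' * u⁻¹) (by
        have : u * a' * u⁻¹ * (s * a) = s * a * (u * a' * u⁻¹) := by
          rw [← us, conj_mul, conj_mul, H.gas]
        rw [mul_assoc s, ← va, ← mul_assoc, ← mul_assoc s] at this
        exact mul_right_cancel this) va (by rw [conj_mul, K.qq]; group)
      (fun c => na' (c.trans (isConj_iff.2 ⟨u, rfl⟩ : IsConj a' _).symm)) fun k => a'z (by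
        have : u * a' * u⁻¹ * (a * z) = a * z * (u * a' * u⁻¹) := by
          rw [← mul_assoc, va, mul_assoc, k, mul_assoc a z]
        rw [← uz, conj_mul, conj_mul] at this
        simpa using this)
    rw [← ha'] at k1
    rcases k1 with k1 | k1 <;> rcases k2 with k2 | k2 <;> rw [k2, k1] <;> simp [rw3 H.aa]
  have nb : ∀ {p : G} (k : Kl a p), k.V ≠ ⊥ := fun k c => H.a1 (by
    rw [← mem_bot, ← c, Kl.mem_V]; simp)
  have mV : ∀ {p : G} (k : Kl a p), a ∈ k.V := fun k => by simp [Kl.mem_V]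
  refine H.mtrick (nb K) K.not_dvd (nb K') K'.not_dvd (K.mem_norm ?_ ?_) (K'.mem_norm ?_ ?_) H.a1 H.ta th
    (le_normalizer (mV K)) (K.mem_norm ?_ ?_) (le_normalizer (mV K')) (K'.mem_norm ?_ ?_)
  · simp [Kl.mem_V, ha']
  · rw [show g * a' * g⁻¹ = a * a' by rw [ha', conj2 H.og, H.gaa]]; simp [Kl.mem_V]
  · simp [Kl.mem_V, hud]
  · rw [show h * u * h⁻¹ = a * u by rw [hud, conj2 H.oh, haa]]; simp [Kl.mem_V]
  · rw [ua]; exact mV K
  · rcases v with v | v <;> rw [v] <;> simp [Kl.mem_V]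
  · rw [← K.comm, mul_inv_cancel_right]; exact mV K'
  · have : a' * u * a'⁻¹ = t * (u * a' * u⁻¹) * t⁻¹ := by
      calc _ = t * u * t⁻¹ * (t * a' * t⁻¹) * (t * u * t⁻¹)⁻¹ := by rw [hu, hu']
        _ = _ := by group
    rcases v with v | v <;> rw [this, v]
    · rw [hu]; simp [Kl.mem_V]
    · rw [← conj_mul, e, hu]; simp [Kl.mem_V]

theorem cA {x : G} (xs : x * s = s * x) (xz : x * z = z * x) (xa : x * a = a * x) :
    ∃ v, (v = 1 ∨ v = z ∨ v = a ∨ v = z * a) ∧ (x = v ∨ x = s * v) := by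
  obtain ⟨u, rfl | rfl | rfl | rfl, rfl | rfl | rfl | rfl⟩ := H.cz x xs xz <;>
    first
    | (simp [col0, H.c1, H.c2, H.z1] at xa; done)
    | (refine ⟨_, ?_, Or.inl rfl⟩; simp; done)
    | (refine ⟨_, ?_, Or.inr rfl⟩; simp; done)
    | (refine ⟨1, ?_, Or.inr (mul_one _).symm⟩; simp; done)
    | (refine ⟨_, ?_, Or.inr (mul_assoc ..)⟩; simp)

section

variable {x : G} (xz : x * z = z * x) (xa : x * a = a * x)
include xz xa

theorem x1a : g1 * x * g1⁻¹ * a = a * (g1 * x * g1⁻¹) := by rw [← H.gz, conj_mul, conj_mul, xz]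

theorem x1z : g1 * x * g1⁻¹ * z = z * (g1 * x * g1⁻¹) := by
  have : g1 * x * g1⁻¹ * (z * a) = z * a * (g1 * x * g1⁻¹) := by rw [← H.ga, conj_mul, conj_mul, xa]
  rw [mul_assoc z, ← H.x1a xz xa, ← mul_assoc, ← mul_assoc z] at this
  exact mul_right_cancel this

theorem x1s (xs : x * s = s * (z * x)) : g1 * x * g1⁻¹ * s = s * (a * (g1 * x * g1⁻¹)) := by
  rw [← H.g1s, ← H.gz, conj_mul, conj_mul, conj_mul, xs]

theorem key (xb : x * b = b * x) {c : G} (hc : c = 1 ∨ c = z) (xx : x * x = c) {v : G}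
    (hv : v = 1 ∨ v = z ∨ v = a ∨ v = z * a) (e : tr g1 x = v) :
    g1 * x * g1⁻¹ * x = x * (g1 * x * g1⁻¹) ∧
      b * (g1 * x * g1⁻¹) * b⁻¹ = (x * (g1 * x * g1⁻¹))⁻¹ := by
  have v1 : v = 1 := by
    have k : g1 * v * g1⁻¹ = x⁻¹ * v * x := by
      rw [← e, tr, ← conj_mul, ← conj_mul, conj2 H.o1, conj3]; group
    have k' : x⁻¹ * v * x = v := by
      rcases hv with rfl | rfl | rfl | rfl <;> simp [mul_assoc, ← xz, ← xa, ← rw3 xz, rw3 xz.symm]
    rw [k'] at k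
    rcases hv with rfl | rfl | rfl | rfl
    · rfl
    · rw [H.gz] at k; exact absurd k H.a_ne_z
    · rw [H.ga] at k; exact absurd (by simpa using k) H.z1
    · rw [← conj_mul, H.gz, H.ga] at k; exact absurd (by simpa [col0, H.c1] using k) H.a1
  rw [v1] at e
  have e' : g1⁻¹ * x * g1 = (x * (g1 * x * g1⁻¹))⁻¹ := eq_inv_of_mul_eq_one_right e
  constructor
  · have k1 : g1 * x * g1⁻¹ * (g1 * x * g1⁻¹) = g1 * c * g1⁻¹ := by rw [conj_mul, xx]
    have k2 : g1⁻¹ * x * g1 * (g1⁻¹ * x * g1) = g1⁻¹ * c * g1 := by rw [← xx]; group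
    have k3 : (g1⁻¹ * c * g1)⁻¹ = c * (g1 * c * g1⁻¹) := by
      rcases hc with rfl | rfl
      · simp
      · rw [H.gz, H.gz']; simp only [col0, H.c1]
    rw [← k1, ← k2, e', mul_inv_rev, inv_inv] at k3
    nth_rw 1 [← xx] at k3
    generalize g1 * x * g1⁻¹ = y at k3
    exact mul_right_cancel (show y * x * y = x * y * y by simpa [mul_assoc] using k3)
  · calc _ = b * g1 * b⁻¹ * (b * x * b⁻¹) * (b * g1 * b⁻¹)⁻¹ := by group
      _ = _ := by rw [H.b1, ← xb, ← e']; group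

end

theorem th0 {τ : G} (ττ : τ * τ = 1) (τs : τ * s = s * (z * τ)) (τz : τ * z = z * τ)
    (τa : τ * a = a * τ) (τb : τ * b = b * τ) (ct : IsConj s (τ * s * b * a)) :
    g1 * τ * g1⁻¹ * τ = τ * (g1 * τ * g1⁻¹) ∧ g1 * τ * g1⁻¹ * b = τ * (b * (g1 * τ * g1⁻¹)) ∧
      g1⁻¹ * τ * g1 = τ * (g1 * τ * g1⁻¹) := by
  have p1 := H.x1a τz τa
  have p2 := H.x1z τz τa
  have p3 := H.x1s τz τa τs
  have q1 := H.x1a p2 p1
  have q2 := H.x1z p2 p1
  have q3 : g1⁻¹ * τ * g1 * s = s * (z * (a * (g1⁻¹ * τ * g1))) := by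
    rw [← conj2 H.o1, ← H.g1s, ← mul_assoc z, ← H.ga, conj_mul, conj_mul, conj_mul, p3]
  have pp : g1 * τ * g1⁻¹ * (g1 * τ * g1⁻¹) = 1 := by rw [conj_mul, ττ]; group
  rw [conj2 H.o1] at q1 q2
  have f1 : g1 * (τ * s) * g1⁻¹ = g1 * τ * g1⁻¹ * s := by rw [← conj_mul, H.g1s]
  have f2 : g1⁻¹ * (τ * s) * g1 = g1⁻¹ * τ * g1 * s := by nth_rw 2 [← H.g1s']; group
  have bp : b * (g1 * τ * g1⁻¹) * b⁻¹ = g1⁻¹ * τ * g1 := by
    calc _ = b * g1 * b⁻¹ * (b * τ * b⁻¹) * (b * g1 * b⁻¹)⁻¹ := by group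
      _ = _ := by rw [H.b1, ← τb]; group
  have tτ : tr g1 τ = τ * (g1 * τ * g1⁻¹) * (g1⁻¹ * τ * g1) := rfl
  have tτs : tr g1 (τ * s) = τ * s * (g1 * τ * g1⁻¹ * s) * (g1⁻¹ * τ * g1 * s) := by rw [tr, f1, f2]
  have K1 := fun v hv e => H.key τz τa τb (Or.inl rfl) ττ (v := v) hv e
  have K2 := fun v hv e => H.key (x := τ * s) (by simp only [col0, H.c1, τs, rw3 τs, τz, rw3 τz])
    (by simp only [col0, H.c1, τs, rw3 τs, ← τa, rw3 τa.symm])
    (by simp only [col0, H.c1, τs, rw3 τs, ← τb, rw3 τb.symm]) (Or.inr rfl)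
    (by simp only [col0, H.c1, τs, rw3 τs, τz, rw3 τz, ττ]) (v := v) hv e
  rw [f1] at K2
  rw [tτ] at K1
  rw [tτs] at K2
  generalize g1 * τ * g1⁻¹ = p at *
  generalize g1⁻¹ * τ * g1 = q at *
  have r : (τ * s = s * (z * τ) ∧ ∀ r, τ * (s * r) = s * (z * τ) * r) ∧
      (τ * z = z * τ ∧ ∀ r, τ * (z * r) = z * τ * r) ∧ (τ * a = a * τ ∧ ∀ r, τ * (a * r) = a * τ * r) ∧
      (p * s = s * (a * p) ∧ ∀ r, p * (s * r) = s * (a * p) * r) ∧
      (p * z = z * p ∧ ∀ r, p * (z * r) = z * p * r) ∧ (p * a = a * p ∧ ∀ r, p * (a * r) = a * p * r) ∧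
      (q * s = s * (z * (a * q)) ∧ ∀ r, q * (s * r) = s * (z * (a * q)) * r) ∧
      (q * z = z * q ∧ ∀ r, q * (z * r) = z * q * r) ∧ (q * a = a * q ∧ ∀ r, q * (a * r) = a * q * r) ∧
      τ⁻¹ = τ ∧ p⁻¹ = p ∧ (τ * τ = 1 ∧ ∀ r, τ * (τ * r) = 1 * r) ∧ p * p = 1 ∧ ∀ r, p * (p * r) = 1 * r :=
    ⟨⟨τs, rw3 τs⟩, ⟨τz, rw3 τz⟩, ⟨τa, rw3 τa⟩, ⟨p3, rw3 p3⟩, ⟨p2, rw3 p2⟩, ⟨p1, rw3 p1⟩, ⟨q3, rw3 q3⟩,
      ⟨q2, rw3 q2⟩, ⟨q1, rw3 q1⟩, inv_self ττ, inv_self pp, ⟨ττ, rw3 ττ⟩, pp, rw3 pp⟩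
  obtain ⟨v, hv, e | e⟩ := H.cA (x := τ * p * q) (by simp only [col0, H.c1, r])
    (by simp only [col0, H.c1, r]) (by simp only [col0, H.c1, r])
  · obtain ⟨k1, k2⟩ := K1 v hv e
    rw [mul_inv_rev, inv_self ττ, inv_self pp, k1] at k2
    refine ⟨k1, ?_, bp.symm.trans k2⟩
    have := mul_inv_eq_iff_eq_mul.1 k2
    rw [this]; simp only [col0, r]
  · exfalso
    have e2 : τ * s * (p * s) * (q * s) = a * v := by
      calc _ = a * (s * (τ * p * q)) := by simp only [col0, H.c1, r]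
        _ = _ := by rw [e]; simp only [col0, H.c1]
    obtain ⟨-, k2⟩ := K2 (a * v) (by rcases hv with rfl | rfl | rfl | rfl <;> simp [col0, H.c1]) e2
    refine H.swap.na (cjc ct (p * s) ?_)
    have k3 : b * (p * s) = (τ * s * (p * s))⁻¹ * b := mul_inv_eq_iff_eq_mul.1 k2
    rw [mul_inv_eq_iff_eq_mul, k3]
    simp only [col0, H.c1, H.c2, r]

theorem case3 (ea : t * a * t⁻¹ = z * a) (eb : t * b * t⁻¹ = z * b) : False := by
  have ta : t * a = z * (a * t) := by rw [← mul_assoc, ← ea, inv_mul_cancel_right]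
  have tb : t * b = z * (b * t) := by rw [← mul_assoc, ← eb, inv_mul_cancel_right]
  obtain ⟨τ, hτ⟩ : ∃ τ, τ = t * a * b * s := ⟨_, rfl⟩
  have ττ : τ * τ = 1 := by simp only [hτ, col0, H.c1, H.c2, ta, tb, rw3 ta, rw3 tb]
  have τs : τ * s = s * (z * τ) := by simp only [hτ, col0, H.c1, H.c2, ta, tb, rw3 ta, rw3 tb]
  have τz : τ * z = z * τ := by simp only [hτ, col0, H.c1, H.c2, ta, tb, rw3 ta, rw3 tb]
  have τa : τ * a = a * τ := by simp only [hτ, col0, H.c1, H.c2, ta, tb, rw3 ta, rw3 tb]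
  have τb : τ * b = b * τ := by simp only [hτ, col0, H.c1, H.c2, ta, tb, rw3 ta, rw3 tb]
  obtain ⟨v1, v2, v3⟩ := H.th0 ττ τs τz τa τb
    (cjc H.s_conj_t 1 (by simp only [hτ, col0, H.c1, H.c2, ta, tb, rw3 ta, rw3 tb]))
  obtain ⟨w1, w2, -⟩ := H.swap.th0 ττ τs τz τb τa
    (cjc H.s_conj_t s (by simp only [hτ, col0, H.c1, H.c2, ta, tb, rw3 ta, rw3 tb]))
  have sq : ∀ n : G, n * τ * n⁻¹ * (n * τ * n⁻¹) = 1 := fun n => by rw [conj_mul, ττ]; group
  have R : R3 s z τ a b (g1 * τ * g1⁻¹) (g2 * τ * g2⁻¹) :=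
    ⟨H.ss, H.zz, ττ, H.aa, H.bb, sq _, sq _, H.sz.symm, τs, H.as, H.bs, H.x1s τz τa τs,
      H.swap.x1s τz τb τs, τz, H.az, H.bz, H.x1z τz τa, H.swap.x1z τz τb, τa.symm, τb.symm, v1, w1,
      H.ba, H.x1a τz τa, w2, v2, H.swap.x1a τz τb, H.z1⟩
  have gτ : g1 * τ * g1⁻¹ = g1 * τ * g1⁻¹ := rfl
  have gτ2 : IsConj τ (g2 * τ * g2⁻¹) := isConj_iff.2 ⟨g2, rfl⟩
  rw [← conj2 H.o1] at v3
  generalize g2 * τ * g2⁻¹ = w at R gτ2
  revert gτ
  generalize hv : g1 * τ * g1⁻¹ = v at R v3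
  intro _
  have k : τ * (v * (w * (v * w))) = 1 ∨ τ * (v * (w * (v * w))) = z := by
    have ca : τ * (v * (w * (v * w))) * a = a * (τ * (v * (w * (v * w)))) := by simp only [col0, R.col]
    have cb : τ * (v * (w * (v * w))) * b = b * (τ * (v * (w * (v * w)))) := by simp only [col0, R.col]
    have cτ : τ * (v * (w * (v * w))) * τ = τ * (τ * (v * (w * (v * w)))) := by simp only [col0, R.col]
    obtain ⟨u, rfl | rfl | rfl | rfl, e | e | e | e⟩ := H.cz (τ * (v * (w * (v * w))))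
      (by simp only [col0, R.col]) (by simp only [col0, R.col]) <;> rw [e] at ca cb cτ ⊢ <;>
      simp [col0, R.col, H.z1] at ca cb cτ ⊢
  rcases k with k | k
  · have wv : w * v = τ * (v * w) := by
      calc w * v = τ * (v * (τ * (v * (w * (v * w))))) * w := by simp only [col0, R.col]
        _ = _ := by rw [k]; simp only [col0, R.col]
    obtain ⟨y, hy⟩ : ∃ y, y = g1 * w * g1⁻¹ := ⟨_, rfl⟩
    have yv : y * v = v * y := by rw [hy, ← hv, conj_mul, conj_mul, R.wτ]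
    have ya : y * a = a * y := by rw [hy, ← H.gz, conj_mul, conj_mul, R.wz]
    have yτ : y * τ = τ * (v * y) := by
      have : y * (τ * v) = v * (τ * v * y) := by
        rw [hy, ← v3]; nth_rw 2 [← hv]; rw [conj_mul, conj_mul, conj_mul, wv]
      rw [mul_assoc τ, ← yv, ← mul_assoc, ← mul_assoc τ, ← mul_assoc v] at this
      have := mul_right_cancel this
      rw [this, ← mul_assoc v, R.vτ, mul_assoc]
    have yz : y * z = z * (v * y) := by
      have : y * (z * a) = v * (z * a * y) := by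
        rw [hy, ← H.ga, ← hv, conj_mul, conj_mul, conj_mul, R.wa]
      rw [mul_assoc z, ← ya, ← mul_assoc, ← mul_assoc z, ← mul_assoc v] at this
      have := mul_right_cancel this
      rw [this, ← mul_assoc v, R.vz, mul_assoc]
    obtain ⟨n, hn⟩ := cyc3 (b := w * y) (x := τ) (x' := v) (x'' := τ * v)
      (by rw [mul_inv_eq_iff_eq_mul]; simp only [col0, R.col, wv, rw3 wv, yτ])
      (by rw [mul_inv_eq_iff_eq_mul]; simp only [col0, R.col, wv, rw3 wv, yv])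
      (by rw [mul_inv_eq_iff_eq_mul]; simp only [col0, R.col, wv, rw3 wv, yv, rw3 yτ])
      fun e => H.a_ne_z (by have := R.vs; rw [← e, R.τs] at this; simpa using this.symm)
    have c1 : Commute (w * y) (z * τ) := by
      unfold Commute SemiconjBy; simp only [col0, R.col, wv, rw3 wv, yτ, rw3 yz, rw3 yτ]
    have c2 : Commute (w * y) (a * v) := by
      unfold Commute SemiconjBy; simp only [col0, R.col, wv, rw3 wv, yv, rw3 ya]
    rcases H.four hn (a := z * τ) (b := a * v) (by simp only [col0, R.col]) (by simp only [col0, R.col])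
      (by simp only [col0, R.col]) (c1.pow_left n) (c2.pow_left n) with e | e | e
    · exact R.zτ1 e
    · have : a * v * s = s * (a * v) := by rw [e]; simp
      exact H.a1 (by simpa [col0, R.col] using this)
    · have : z * τ * s * (z * τ) = a * v * s * (a * v) := by rw [e]
      exact H.a_ne_z (by simpa [col0, R.col, eq_comm] using this)
  · have wv : w * v = z * (τ * (v * w)) := by
      calc w * v = τ * (v * (τ * (v * (w * (v * w))))) * w := by simp only [col0, R.col]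
        _ = _ := by rw [k]; simp only [col0, R.col]
    have cv : IsConj z v := by
      refine cjc (cjc (cjc H.ca w (y := τ * a) (by simp only [col0, R.col])) g1 (y := v * (z * a))
        (by rw [← conj_mul, hv, H.ga])) (b * w * s) ?_
      simp only [col0, R.col, wv, rw3 wv]
    have cτ : IsConj z τ := cv.trans (isConj_iff.2 ⟨g1, hv⟩ : IsConj τ v).symm
    exact F3.false ⟨R, wv, H.nz, H.ca, H.swap.ca, cτ, cv, cτ.trans gτ2, H.s1, H.cz, H.h2⟩

theorem tcls : t * a * t⁻¹ = a ∨ t * a * t⁻¹ = z * a ∨ t * a * t⁻¹ = b ∨ t * a * t⁻¹ = z * b := by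
  obtain ⟨k1, k2⟩ := H.tT H.as H.az
  rcases H.invT k1 k2 (by rw [conj_mul, H.aa]; group)
    (fun c => H.na (c.trans (isConj_iff.2 ⟨t, rfl⟩ : IsConj a _).symm)) with e | e | e
  · exact absurd (by simpa using e) H.a1
  · rw [← H.tzt] at e; exact absurd (by simpa using e) H.a_ne_z
  · exact e

theorem false : False := by
  rcases H.tcls with e | e | e
  · exact H.case2 e
  · rcases H.swap.tcls with e' | e' | e'
    · exact H.swap.case2 e'
    · exact H.case3 e e'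
    · exact H.swap.case1 e'
  · exact H.case1 e

end FC0

theorem CC.false {g h s t z ρ : G} {π} (H : CC g h s t z ρ π) : False := by
  obtain ⟨g1, g2, a, b, F⟩ := H.exists_FC0
  exact F.false

end Cfsg.Agent.M9
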