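import Cfsg.Agent.Z6.Lem

/-!
# Sylow `3`-normaliser `3 ^ 2 : SD16`: the frame
-/

set_option autoImplicit false
set_option linter.unusedSectionVars false

namespace Cfsg.Agent.M9

open Subgroup Cfsg.Agent.Local Cfsg.Agent.FT Cfsg.Agent.Char Cfsg.Agent.Z6
open scoped Pointwise

universe u

variable {G : Type u} [Group G] [Finite G]

/-- The frame: `M = ⟨g, h⟩ = 3 ^ 2`, `⟨ρ, s⟩ = SD16`, `A = {1, s, z, s * z}`. -/
structure Hyp (g h s t z ρ : G) : Prop where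
  og : orderOf g = 3
  oρ : orderOf ρ = 8
  ss : s * s = 1
  sρ : s * ρ * s⁻¹ = ρ ^ 3
  zd : z = ρ ^ 4
  td : t = ρ * s * ρ⁻¹
  hd : h = t * g * t⁻¹
  sg : s * g = g * s
  zg : z * g * z⁻¹ = g⁻¹
  gh : g * h = h * g
  cls : ∀ y : G, orderOf y = 3 → IsConj g y
  cg : Nat.card 𝐂[g] = 18
  h2 : ∀ M : Subgroup G, M.index ≠ 2

/-- `y` of order three acts on the `3'`-group `K`, fixed point freely modulo `L`. -/
structure Fp (y : G) (K L : Subgroup G) : Prop where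
  ord : orderOf y = 3
  nK : y ∈ 𝐍(K)
  nL : y ∈ 𝐍(L)
  nrm : L ⊴ K
  ndvd : ¬ 3 ∣ Nat.card K
  fix : ∀ k ∈ K, y * k = k * y → k ∈ L

/-- Case (a): `C(s) = K . S3`. -/
structure CA (g h s t z ρ : G) (K : Subgroup G) : Prop extends Hyp g h s t z ρ where
  s3 : S3 𝐂[s] K g z

/-- Case (b): `C(s) / Q = A5` with `Q / ⟨s⟩` elementary abelian. -/
structure CB (g h s t z ρ : G) (Q : Subgroup G) (π : 𝐂[s] →* alternatingGroup (Fin 5)) : Prop
    extends Hyp g h s t z ρ where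
  le : Q ≤ 𝐂[s]
  sQ : s ∈ Q
  sq : ∀ x ∈ Q, x * x = 1 ∨ x * x = s
  cm : ∀ x ∈ Q, ∀ y ∈ Q, x * y = y * x ∨ x * y = y * x * s
  surj : Function.Surjective π
  ker : ∀ x, π x = 1 ↔ x.1 ∈ Q

/-- Case (c): `C(s) / ⟨s⟩ = PSL(2, 7)`. -/
structure CC (g h s t z ρ : G)
    (π : 𝐂[s] →* Matrix.ProjectiveSpecialLinearGroup (Fin 2) (ZMod 7)) : Prop
    extends Hyp g h s t z ρ where
  surj : Function.Surjective π
  ker : ∀ x, π x = 1 ↔ x.1 = 1 ∨ x.1 = s

/-- The product of the three `y`-conjugates of `x`. -/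
def tr (y x : G) : G := x * (y * x * y⁻¹) * (y⁻¹ * x * y)

/-- The commutator, written out. -/
scoped notation "⟬" a ", " b "⟭" => a * b * a⁻¹ * b⁻¹

/-- `O₂(K)`. -/
abbrev QQ (K : Subgroup G) : Subgroup G := core {2} K

/-- `x` permutes three different elements cyclically. -/
theorem cyc3 {b x x' x'' : G} (h1 : b * x * b⁻¹ = x') (h2 : b * x' * b⁻¹ = x'')
    (h3 : b * x'' * b⁻¹ = x) (hne : x ≠ x') : ∃ n : ℕ, orderOf (b ^ n) = 3 := by
  refine exists_three ?_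
  by_contra hn
  have c : Commute (b ^ 3) x := by
    have : b ^ 3 * x * (b ^ 3)⁻¹ = x := by
      calc _ = b * (b * (b * x * b⁻¹) * b⁻¹) * b⁻¹ := by rw [pow_three]; group
        _ = x := by rw [h1, h2, h3]
    exact mul_inv_eq_iff_eq_mul.1 this
  obtain ⟨m, hm⟩ := exists_pow_eq_self_of_coprime (x := b) (cop3 hn).symm
  have := (c.pow_left m).eq
  rw [hm] at this
  exact hne (by rw [← h1, this, mul_inv_cancel_right])

theorem mem_zp2 {s x : G} (hs : s * s = 1) : x ∈ zpowers s ↔ x = 1 ∨ x = s := by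
  refine ⟨fun hx => ?_, by rintro (rfl | rfl); exacts [one_mem _, mem_zpowers _]⟩
  obtain ⟨i, rfl⟩ := mem_powers_iff_mem_zpowers.mpr hx
  beta_reduce
  rcases Nat.even_or_odd' i with ⟨k, rfl | rfl⟩
  · left; rw [pow_mul, sq, hs, one_pow]
  · right; rw [pow_succ, pow_mul, sq, hs, one_pow, one_mul]

namespace Hyp

variable {g h s t z ρ : G} (H : Hyp g h s t z ρ)
include H

theorem ρ8 : ρ ^ 8 = 1 := by rw [← H.oρ, pow_orderOf_eq_one]

theorem si : s⁻¹ = s := inv_self H.ss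

theorem zz : z * z = 1 := by rw [H.zd, ← pow_add, H.ρ8]

theorem zi : z⁻¹ = z := inv_self H.zz

theorem tt : t * t = 1 := by
  calc _ = ρ * (s * s) * ρ⁻¹ := by rw [H.td]; group
    _ = 1 := by rw [H.ss]; group

theorem ti : t⁻¹ = t := inv_self H.tt

theorem z1 : z ≠ 1 := ne_one_of_inv H.og H.zg

theorem sρn (n : ℕ) : s * ρ ^ n * s⁻¹ = ρ ^ (3 * n) := by rw [← conj_pow, H.sρ, ← pow_mul]

theorem sz : s * z = z * s := by
  have := H.sρn 4
  rw [show 3 * 4 = 8 + 4 by norm_num, pow_add, H.ρ8, one_mul, ← H.zd] at this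
  exact mul_inv_eq_iff_eq_mul.1 this

theorem ρz : ρ * z = z * ρ := by rw [H.zd]; group

theorem tz : t * z = z * t := by
  calc _ = ρ * s * (ρ⁻¹ * z * ρ) * ρ⁻¹ := by rw [H.td]; group
    _ = ρ * (s * z) * ρ⁻¹ := by rw [mul_assoc ρ⁻¹, ← H.ρz]; group
    _ = (ρ * z) * s * ρ⁻¹ := by rw [H.sz]; group
    _ = _ := by rw [H.ρz, H.td]; group

/-- `t = ρ ^ 6 * s`. -/
theorem t_eq : t = ρ ^ 6 * s := by
  have e : ρ⁻¹ = ρ ^ 7 := by
    rw [inv_eq_iff_mul_eq_one, ← pow_succ', H.ρ8]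
  calc t = ρ * (s * ρ ^ 7 * s⁻¹) * s := by rw [H.td, e]; group
    _ = (ρ ^ 8) ^ 2 * ρ ^ 6 * s := by rw [H.sρn]; group
    _ = _ := by rw [H.ρ8]; group

theorem tst : t * s * t⁻¹ = s * z := by
  calc _ = ρ ^ 6 * (s * ρ ^ 2 * s⁻¹) * s * (ρ ^ 8)⁻¹ := by rw [H.t_eq]; group
    _ = ρ ^ 8 * ρ ^ 4 * s * (ρ ^ 8)⁻¹ := by rw [H.sρn]; group
    _ = _ := by rw [H.ρ8, one_mul, ← H.zd, H.sz]; group

theorem ρ2 : ρ ^ 2 * s * (ρ ^ 2)⁻¹ = s * z := by
  calc _ = ρ ^ 2 * (s * ρ ^ 6 * s⁻¹) * s * (ρ ^ 8)⁻¹ := by group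
    _ = (ρ ^ 8) ^ 2 * ρ ^ 4 * s * (ρ ^ 8)⁻¹ := by rw [H.sρn]; group
    _ = _ := by rw [H.ρ8, one_pow, one_mul, ← H.zd, H.sz]; group

theorem tzt : t * z * t⁻¹ = z := by rw [H.tz, mul_inv_cancel_right]

theorem tszt : t * (s * z) * t⁻¹ = s := by
  calc _ = (t * s * t⁻¹) * (t * z * t⁻¹) := by group
    _ = s := by rw [H.tst, H.tzt, mul_assoc, H.zz, mul_one]

theorem szsz : s * z * (s * z) = 1 := by
  calc _ = s * (z * s) * z := by group
    _ = (s * s) * (z * z) := by rw [← H.sz]; group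
    _ = 1 := by rw [H.ss, H.zz, mul_one]

theorem s1 : s ≠ 1 := fun e => H.z1 (by simpa [e] using H.tst.symm)

theorem sz1 : s * z ≠ 1 := fun e => H.s1 (by simpa [e] using H.tszt.symm)

theorem s_ne_z : s ≠ z := fun e => H.sz1 (by rw [← e, H.ss])

theorem s_ne_sz : s ≠ s * z := fun e => H.z1 (by simpa using e.symm)

theorem z_ne_sz : z ≠ s * z := fun e => H.s1 (by simpa using e.symm)

theorem oh : orderOf h = 3 := by rw [H.hd, Local.orderOf_conj', H.og]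

theorem tht : t * h * t⁻¹ = g := by
  calc _ = (t * t) * g * (t * t)⁻¹ := by rw [H.hd]; group
    _ = g := by rw [H.tt]; group

theorem zh : z * h * z⁻¹ = h⁻¹ := by
  calc _ = (z * t) * g * (z * t)⁻¹ := by rw [H.hd]; group
    _ = t * (z * g * z⁻¹) * t⁻¹ := by rw [← H.tz]; group
    _ = _ := by rw [H.zg, H.hd]; group

theorem szh : s * z * h = h * (s * z) := by
  calc _ = t * (s * g) * t⁻¹ := by rw [← H.tst, H.hd]; group
    _ = _ := by rw [H.sg, ← H.tst, H.hd]; group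

theorem sh : s * h * s⁻¹ = h⁻¹ := by
  have e : s * z * h * (s * z)⁻¹ = h := by rw [H.szh, mul_inv_cancel_right]
  have : s * (z * h * z⁻¹) * s⁻¹ = h := by rw [← e]; nth_rw 1 [e]; group
  rw [H.zh] at this
  calc _ = (s * h⁻¹ * s⁻¹)⁻¹ := by group
    _ = _ := by rw [this]

theorem szg : s * z * g * (s * z)⁻¹ = g⁻¹ := by
  calc _ = s * (z * g * z⁻¹) * s⁻¹ := by group
    _ = (s * g * s⁻¹)⁻¹ := by rw [H.zg]; group
    _ = _ := by rw [H.sg, mul_inv_cancel_right]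

theorem conj (n : G) : Hyp (n * g * n⁻¹) (n * h * n⁻¹) (n * s * n⁻¹) (n * t * n⁻¹) (n * z * n⁻¹)
    (n * ρ * n⁻¹) where
  og := by rw [Local.orderOf_conj', H.og]
  oρ := by rw [Local.orderOf_conj', H.oρ]
  ss := by rw [conj_mul, H.ss]; group
  sρ := by rw [conj_pow, ← H.sρ]; group
  zd := by rw [conj_pow, ← H.zd]
  td := by rw [H.td]; group
  hd := by rw [H.hd]; group
  sg := by rw [conj_mul, conj_mul, H.sg]
  zg := by rw [conj_inv', conj_inv', ← H.zg]; group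
  gh := by rw [conj_mul, conj_mul, H.gh]
  cls := fun y hy => (isConj_iff.2 ⟨n, rfl⟩ : IsConj g _).symm.trans (H.cls y hy)
  cg := by rw [cent_conj, card_conj_smul, H.cg]
  h2 := H.h2

/-- The symmetry given by `t`. -/
theorem swap : Hyp h g (s * z) t z (t * ρ * t⁻¹) := by
  have := H.conj t
  rwa [← H.hd, H.tht, H.tst, H.tzt, mul_inv_cancel_right] at this

theorem s_conj_sz : IsConj s (s * z) := isConj_iff.2 ⟨t, H.tst⟩

theorem s_conj_t : IsConj s t := isConj_iff.2 ⟨ρ, H.td.symm⟩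

theorem gX : g ∈ 𝐂[s] := mem_cent1.2 H.sg

theorem zX : z ∈ 𝐂[s] := mem_cent1.2 H.sz

end Hyp

theorem CA.conj {g h s t z ρ : G} {K : Subgroup G} (H : CA g h s t z ρ K) (n : G) :
    CA (n * g * n⁻¹) (n * h * n⁻¹) (n * s * n⁻¹) (n * t * n⁻¹) (n * z * n⁻¹) (n * ρ * n⁻¹)
      (MulAut.conj n • K) :=
  ⟨H.toHyp.conj n, by rw [cent_conj]; exact H.s3.conj n⟩

theorem CA.swap {g h s t z ρ : G} {K : Subgroup G} (H : CA g h s t z ρ K) :
    CA h g (s * z) t z (t * ρ * t⁻¹) (MulAut.conj t • K) := by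
  have := H.conj t
  rwa [← H.hd, H.tht, H.tst, H.tzt, mul_inv_cancel_right] at this

end Cfsg.Agent.M9
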