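import Cfsg.Agent.M9.Base
import Cfsg.Agent.Wong.Suz
import Cfsg.Agent.Wong.Excl
import Cfsg.Agent.Char.CentInv
import Cfsg.Agent.Char.D8
import Cfsg.Agent.M11.Golay
import Cfsg.Agent.L34.Id

/-!
# The frame, the trichotomy and the identification of `M₁₁`
-/

set_option autoImplicit false
set_option linter.unusedSectionVars false

namespace Cfsg.Agent.M9

open Subgroup Cfsg.Agent.Local Cfsg.Agent.FT Cfsg.Agent.Char Cfsg.Agent.Z6
open scoped Pointwise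

universe u

variable {G : Type u} [Group G] [Finite G]

namespace Hyp

variable {g h s t z ρ : G} (H : Hyp g h s t z ρ)
include H

theorem end_nc : ¬ Commute (ρ ^ 2) s := fun c => H.s_ne_sz (by
  rw [← H.ρ2, c.eq, mul_inv_cancel_right])

/-- The Sylow `2`-subgroups are semidihedral when `A` contains the `2`-elements of `C(A)`. -/
theorem end_syl (hR : ∀ x, x * s = s * x → x * z = z * x → IsPGroup 2 (zpowers x) →
      x = 1 ∨ x = s ∨ x = z ∨ x = s * z) :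
    ∃ n a, orderOf a = 2 ^ (n + 3) ∧ z = a ^ 2 ^ (n + 2) ∧ s ∉ zpowers a ∧
      s * a * s⁻¹ = a ^ (2 ^ (n + 2) - 1) ∧ ¬ 2 ^ (n + 5) ∣ Nat.card G := by
  have n1 : zpowers s ≤ 𝐍(zpowers ρ) := Wong.norm_zpowers (H.sρ ▸ pow_mem (mem_zpowers ρ) 3)
  have p1 : IsPGroup 2 (zpowers ρ) := .of_card (n := 3) (by rw [Nat.card_zpowers, H.oρ]; rfl)
  obtain ⟨T, hT, le⟩ := exists_isSylowIn_ge (N := 𝐂[z]) (isPGroup_sup p1 (pg_zp2 H.ss) n1)
    (sup_le (zpowers_le.2 (mem_cent1.2 H.ρz.symm)) (zpowers_le.2 (mem_cent1.2 H.sz.symm)))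
  have ρT : ρ ∈ T := le (mem_sup_left (mem_zpowers ρ))
  have sT : s ∈ T := le (mem_sup_right (mem_zpowers s))
  have zT : z ∈ T := H.zd ▸ pow_mem ρT 4
  have cz : ∀ x ∈ T, Commute x z := fun x hx => (mem_cent1.1 (hT.le hx)).symm
  have hC : ∀ x ∈ T, Commute x s → x = 1 ∨ x = s ∨ x = z ∨ x = z * s := fun x hx c => by
    rw [← H.sz]
    exact hR x c (cz x hx) (hT.isPGroup.to_le (zpowers_le.2 hx))
  obtain ⟨n, a, h1, h2, h3, h4, h5⟩ := Wong.suzuki hT.isPGroup sT zT H.ss H.zz H.z1 H.s1 H.s_ne_z cz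
    hC ⟨ρ ^ 2, pow_mem ρT 2, H.end_nc⟩
  have hS : IsSylowIn 2 T ⊤ := by
    refine isSylowIn_iff_normalizer.1 (hT.of_le (le_inf le_top le_normalizer) fun x hx => ?_)
    have c : ∀ y ∈ T, Commute y (x * z * x⁻¹) := fun y hy => by
      have := (cz _ (conj_mem_of_mem_normalizer (inv_mem hx.2) hy)).map (MulAut.conj x)
      simpa [mul_assoc] using this
    rcases hC _ (conj_mem_of_mem_normalizer hx.2 zT) (c s sT).symm with e | e | e | e
    · exact absurd (conj_eq_one_iff.1 e) H.z1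
    · exact absurd (e ▸ c _ (pow_mem ρT 2)) H.end_nc
    · exact mem_cent1.2 (mul_inv_eq_iff_eq_mul.1 e).symm
    · have := (cz _ (pow_mem ρT 2)).inv_right.mul_right (e ▸ c _ (pow_mem ρT 2))
      rw [inv_mul_cancel_left] at this
      exact absurd this H.end_nc
  rcases h5 with e | ⟨h5, e⟩
  · exfalso
    obtain ⟨j, e1 | e1⟩ := Wong.mem_sup2' (e ▸ inv_mem (mem_zpowers a)) (H.ss ▸ one_mem _) (h4 ▸ ρT)
    · have e2 := H.sρ
      rw [e1, ← conj_pow, e, inv_pow, ← e1, inv_eq_iff_mul_eq_one, ← pow_succ', ← H.zd] at e2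
      exact H.z1 e2
    · have e2 : ρ ^ 2 = 1 := by
        calc _ = a ^ j * (s * a ^ j * s⁻¹) * (s * s) := by rw [e1, sq]; group
          _ = 1 := by rw [← conj_pow, e, H.ss]; group
      exact H.end_nc (e2 ▸ Commute.one_left s)
  · obtain ⟨m, rfl⟩ : ∃ m, n = m + 1 := ⟨n - 1, by omega⟩
    refine ⟨m, a, h1, h2, h3, e, fun d => hS.not_dvd ?_⟩
    have c : Nat.card T = 2 ^ (m + 4) := by
      rw [h4, Wong.card_sup2 (zpowers_le.1 (Wong.norm_zpowers (e ▸ pow_mem (mem_zpowers a) _)))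
        (H.ss ▸ one_mem _) h3, Nat.card_zpowers, h1, pow_succ 2 (m + 3)]
    rw [← T.card_mul_index, c, pow_succ] at d
    rw [relIndex_top_right]
    exact Nat.dvd_of_mul_dvd_mul_left (by positivity) d

end Hyp

theorem Hyp.one {g h s t z ρ : G} (H : Hyp g h s t z ρ)
    (hR : ∀ x, x * s = s * x → x * z = z * x → IsPGroup 2 (zpowers x) →
      x = 1 ∨ x = s ∨ x = z ∨ x = s * z) : IsConj s z := by
  obtain ⟨n, a, h1, h2, h3, h4, h5⟩ := H.end_syl hR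
  rw [h2]
  exact (Wong.one_class H.h2 (n := n + 2) h1 (h4 ▸ pow_mem (mem_zpowers a) _) H.ss h3 h5 H.s1
    H.ss).symm

theorem Hyp.fin [IsSimpleGroup G] {g h s t z ρ : G} (H : Hyp g h s t z ρ)
    (hR : ∀ x, x * s = s * x → x * z = z * x → x = 1 ∨ x = s ∨ x = z ∨ x = s * z) :
    Spor.IsoM11 G := by
  obtain ⟨n, a, h1, h2, -, h4, h5⟩ := H.end_syl fun x a b _ => hR x a b
  have hS : Wong.SD a s n := ⟨h1, H.ss, h4, h5, fun x c1 c2 => by
    rw [← h2] at c2 ⊢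
    rw [← H.sz]
    exact hR x c1 c2⟩
  rcases hS.main with ⟨⟨e⟩⟩ | ⟨⟨e⟩⟩
  · have c := L34.card_psl3 (F := ZMod 3)
    rw [ZMod.card, ← Nat.card_congr e.toEquiv] at c
    exact absurd ⟨208, by norm_num at c; omega⟩ H.not27
  · obtain ⟨e'⟩ := M11.nonempty_M11_equiv
    exact ⟨e.trans e'.symm⟩

theorem Hyp.end_ci {g h s t z ρ : G} (H : Hyp g h s t z ρ) :
    CI (⟨g, H.gX⟩ : 𝐂[s]) ⟨s, mem_cent1.2 rfl⟩ := by
  refine ⟨fun x => Subtype.ext (mem_cent1.1 x.2).symm, Subtype.ext H.ss, by rw [orderOf_mk, H.og],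
    fun x c => ?_⟩
  have sg : s ∉ zpowers g := fun e => by
    have := orderOf_dvd_card_of_mem e
    rw [card_zp H.og, ord_two H.ss H.s1] at this
    omega
  have n1 : s ∈ 𝐍(zpowers g) := norm_zp H.sg.symm
  have c1 := Wong.card_sup2 n1 (H.ss ▸ one_mem _) sg
  rw [card_zp H.og] at c1
  have l1 : zpowers g ⊔ zpowers s ≤ 𝐂[g] ⊓ 𝐂[s] :=
    sup_le (zpowers_le.2 ⟨mem_cent1.2 rfl, H.gX⟩)
      (zpowers_le.2 ⟨mem_cent1.2 H.sg.symm, mem_cent1.2 rfl⟩)
  have c2 := card_dvd_of_le l1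
  have c3 := card_dvd_of_le (inf_le_left : 𝐂[g] ⊓ 𝐂[s] ≤ 𝐂[g])
  have c4 : Nat.card ↥(𝐂[g] ⊓ 𝐂[s]) ≠ 18 := fun e => by
    have := (eq_of_le_of_card_ge (inf_le_left : 𝐂[g] ⊓ 𝐂[s] ≤ 𝐂[g]) (by rw [e, H.cg])).ge
      (mem_cent1.2 H.gh)
    have e2 := H.sh
    rw [mem_cent1.1 this.2, mul_inv_cancel_right, ← sq_of H.oh] at e2
    exact ne_one_of H.oh (by simpa using e2)
  rw [c1] at c2
  rw [H.cg] at c3
  have c5 : Nat.card ↥(𝐂[g] ⊓ 𝐂[s]) ≤ 6 := by
    have := Nat.le_of_dvd (by norm_num) c3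
    generalize Nat.card ↥(𝐂[g] ⊓ 𝐂[s]) = k at *
    interval_cases k <;> omega
  have hx : x.1 ∈ zpowers g ⊔ zpowers s := (eq_of_le_of_card_ge l1 (by omega)).ge
    ⟨mem_cent1.2 (congrArg Subtype.val c).symm, x.2⟩
  have key : ∀ y : 𝐂[s], y.1 ∈ zpowers g → y ∈ zpowers (⟨g, H.gX⟩ : 𝐂[s]) := by
    rintro y ⟨i, e⟩
    exact ⟨i, Subtype.ext e⟩
  refine (Wong.mem_sup2 n1 (H.ss ▸ one_mem _) hx).imp (key _) fun e => key _ ?_
  rwa [H.si] at e

theorem Hyp.tri {g h s t z ρ : G} (H : Hyp g h s t z ρ) :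
    (∃ K, CA g h s t z ρ K) ∨ (∃ Q π, CB g h s t z ρ Q π) ∨ ∃ π, CC g h s t z ρ π := by
  have hc := H.end_ci
  obtain ⟨N, hN, hk, -⟩ := hc.exists_quot
  have hf := QuotientGroup.mk'_surjective N
  have h2 := hc.sct hf hk
  generalize QuotientGroup.mk' N = f at hk hf h2
  have hk' : ∀ x, f x = 1 ↔ x.1 = 1 ∨ x.1 = s := fun x => by
    rw [hk, Subtype.ext_iff, Subtype.ext_iff]; rfl
  have mem : ∀ (L : Subgroup (𝐂[s] ⧸ N)) (x : 𝐂[s]), x.1 ∈ (L.comap f).map 𝐂[s].subtype ↔ f x ∈ L :=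
    fun L x => mem_map_iff_mem (subtype_injective _)
  rcases S3331.result _ h2.card (le_antisymm (fun g hg => h2.cent g (hg _ (mem_zpowers _)).symm)
    (by rw [cent_zpowers]; exact zpowers_le.2 (mem_cent1.2 rfl))) with
    ⟨L, hL, -, a, b⟩ | ⟨L, hL, a, b, ⟨e⟩⟩ | ⟨⟨e⟩⟩
  · set K := (L.comap f).map 𝐂[s].subtype with hK
    have nK : K ⊴ 𝐂[s] := nrm_of_conj_mem (map_subtype_le _) fun x hx k hk => by
      have kX := map_subtype_le _ hk
      have := hL.conj_mem _ ((mem L ⟨k, kX⟩).1 hk) (f ⟨x, hx⟩)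
      rw [← map_inv, ← map_mul, ← map_mul] at this
      exact (mem L _).2 this
    have dK : ¬ 3 ∣ Nat.card K := fun d => by
      obtain ⟨y, hy, o⟩ := exists_mem_orderOf_eq_of_dvd_card Nat.prime_three d
      have yX := nK.le hy
      have d1 : orderOf (f ⟨y, yX⟩) ∣ 3 := (orderOf_map_dvd f _).trans (by rw [orderOf_mk, o])
      have d2 := orderOf_dvd_card_of_mem ((mem L ⟨y, yX⟩).1 hy)
      rcases (hk' _).1 (orderOf_eq_one_iff.1 (Nat.eq_one_of_dvd_coprimes a d2 d1)) with e | e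
      · exact ne_one_of o e
      · change y = s at e
        rw [e, ord_two H.ss H.s1] at o
        omega
    have cK : Nat.card 𝐂[s] = Nat.card ((𝐂[s] ⧸ N) ⧸ L) * Nat.card K := by
      rw [hK, card_map_of_injective (subtype_injective _), mul_comm, ← (L.comap f).card_mul_index,
        index_comap_of_surjective _ hf]
      rfl
    rcases b with b | ⟨⟨b⟩⟩
    · exfalso
      refine inv_not_mem H.og (nK.norm H.gX) dK H.zg ((eq_of_le_of_card_ge
        (sup_le nK.le (zpowers_le.2 H.gX)) ?_).ge H.zX)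
      rw [card_sup_three H.og (nK.norm H.gX) dK, cK, b]
    · refine Or.inl ⟨K, H, nK, dK, H.gX, H.zX, H.og, H.zg, ?_⟩
      rw [cK, Nat.card_congr b.toEquiv, Nat.card_perm]
      simp [Nat.factorial]
  · refine Or.inr (Or.inl ⟨(L.comap f).map 𝐂[s].subtype,
      (e.toMonoidHom.comp (QuotientGroup.mk' L)).comp f, H, map_subtype_le _,
      (mem L ⟨s, mem_cent1.2 rfl⟩).2 (by rw [(hk' _).2 (Or.inr rfl)]; exact one_mem _), ?_, ?_,
      (e.surjective.comp (QuotientGroup.mk'_surjective L)).comp hf, fun x => ?_⟩)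
    · rintro _ ⟨x, hx, rfl⟩
      exact (hk' (x * x)).1 (by rw [map_mul, ← sq]; exact b _ hx)
    · rintro _ ⟨x, hx, rfl⟩ _ ⟨y, hy, rfl⟩
      have c : f x * f y = f y * f x := congrArg Subtype.val (a.1.comm ⟨f x, hx⟩ ⟨f y, hy⟩)
      refine ((hk' ((y * x)⁻¹ * (x * y))).1 (by
        rw [map_mul, map_inv, map_mul, map_mul, c, inv_mul_cancel])).imp (fun e => ?_) fun e => ?_
      · exact (inv_mul_eq_one.1 e).symm
      · exact inv_mul_eq_iff_eq_mul.1 e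
    · rw [mem, ← QuotientGroup.eq_one_iff]
      exact e.map_eq_one_iff
  · exact Or.inr (Or.inr ⟨e.toMonoidHom.comp f, H, e.surjective.comp hf, fun x =>
      e.map_eq_one_iff.trans (hk' x)⟩)

theorem end_card {G : Type u} [Group G] [Finite G] (M : Sylow 3 G)
    (hM9 : Nat.card ↥(M : Subgroup G) = 9) {e : V9 → G} (hp : Param (M : Subgroup G) e)
    (hCM : Subgroup.centralizer ((M : Subgroup G) : Set G) = (M : Subgroup G))
    (Q : Sylow 2 𝐍((M : Subgroup G))) (hQ : Nat.card (Q : Subgroup 𝐍((M : Subgroup G))) = 16) :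
    Nat.card 𝐍((M : Subgroup G)) = 144 := by
  have h1 := Q.not_dvd_index
  have h2 := (Q : Subgroup 𝐍((M : Subgroup G))).card_mul_index
  have h3 := M.not_dvd_index
  have h4 := (M : Subgroup G).card_mul_index
  have h5 := 𝐍((M : Subgroup G)).card_mul_index
  have h6 := card_dvd_of_le (le_normalizer (H := (M : Subgroup G)))
  rw [hQ] at h2
  rw [hM9] at h4 h6
  obtain ⟨m, hm⟩ : 144 ∣ Nat.card 𝐍((M : Subgroup G)) :=
    Nat.Coprime.mul_dvd_of_dvd_of_dvd (m := 16) (n := 9) (by norm_num) ⟨_, h2.symm⟩ h6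
  by_contra hne
  obtain ⟨p, hp', hpm⟩ := Nat.exists_prime_and_dvd (show m ≠ 1 by rintro rfl; exact hne hm)
  obtain ⟨k, rfl⟩ := hpm
  rcases card_normalizer_nine hp hCM hp' (hm ▸ (dvd_mul_right p k).mul_left _) with rfl | rfl
  · exact h1 ⟨9 * k, by omega⟩
  · refine h3 ⟨16 * k * 𝐍((M : Subgroup G)).index, ?_⟩
    rw [hm] at h5
    linarith

set_option synthInstance.maxSize 1024 in
theorem end_lin8 : ∀ u v : V9, (∀ w, (lin9 u v)^[8] w = w) → (∀ w, (lin9 u v)^[4] w = w) ∨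
    ((∀ w, (lin9 u v)^[4] w = -w) ∧ ∀ w, w ≠ 0 → (∀ i < 8, (lin9 u v)^[i] w = w → i = 0) ∧
      ∀ w', w' ≠ 0 → ∃ i < 8, (lin9 u v)^[i] w = w') := by
  decide +kernel

theorem end_lin2 : ∀ u v : V9, (∀ w, lin9 u v (lin9 u v w) = w) →
    (∀ w, lin9 u v w = -w) ∨ ∃ w, w ≠ 0 ∧ lin9 u v w = w := by
  decide +kernel

theorem setup {G : Type u} [Group G] [Finite G] [IsSimpleGroup G] (hG : ¬ IsMulCommutative G)
    (M : Sylow 3 G) (hM9 : Nat.card ↥(M : Subgroup G) = 9) (hMel : ∀ m ∈ (M : Subgroup G), m ^ 3 = 1)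
    (hCM : Subgroup.centralizer ((M : Subgroup G) : Set G) = (M : Subgroup G)) (N : Subgroup G)
    (hN : N = Subgroup.normalizer ((M : Subgroup G) : Set G))
    (hCg : ∀ g ∈ (M : Subgroup G), g ≠ 1 → Subgroup.centralizer ({g} : Set G) ≤ N)
    (hS : ∀ S : Sylow 2 ↥N, Nat.card ↥(S : Subgroup ↥N) = 16 ∧ ∃ a ∈ (S : Subgroup ↥N),
      ∃ b ∈ (S : Subgroup ↥N), orderOf a = 8 ∧ orderOf b = 2 ∧ b * a * b⁻¹ = a ^ 3) :
    ∃ g h s t z ρ : G, Hyp g h s t z ρ := by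
  classical
  subst hN
  obtain ⟨Q⟩ : Nonempty (Sylow 2 𝐍((M : Subgroup G))) := inferInstance
  obtain ⟨hQ, ⟨ρ, ρN⟩, -, ⟨s, sN⟩, -, oρ, os, sρ⟩ := hS Q
  rw [orderOf_mk] at oρ os
  replace sρ : s * ρ * s⁻¹ = ρ ^ 3 := congrArg Subtype.val sρ
  have hcomm : ∀ a ∈ (M : Subgroup G), ∀ b ∈ (M : Subgroup G), a * b = b * a := fun a ha b hb => by
    rw [← hCM] at hb; exact hb a ha
  obtain ⟨e, hp⟩ := exists_param_e9 hM9 hMel hcomm
  have cN := end_card M hM9 hp hCM Q hQ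
  have ss := sq_of_two os
  have ρ8 : ρ ^ 8 = 1 := by rw [← oρ, pow_orderOf_eq_one]
  have faith : ∀ x, x * x = 1 → (∀ w, x * e w * x⁻¹ = e w) → x = 1 := fun x xx hx => by
    have h1 : x ∈ (M : Subgroup G) := hCM.le fun m hm => by
      obtain ⟨w, rfl⟩ := (hp.mem m).1 hm
      exact (mul_inv_eq_iff_eq_mul.1 (hx w)).symm
    have := hMel x h1
    rwa [pow_three', xx, one_mul] at this
  obtain ⟨u, v, huv⟩ := hp.exists_lin ρN
  obtain ⟨u', v', huv'⟩ := hp.exists_lin sN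
  have it : ∀ n w, ρ ^ n * e w * (ρ ^ n)⁻¹ = e ((lin9 u v)^[n] w) := by
    intro n
    induction n with
    | zero => simp
    | succ n ih =>
      intro w
      rw [Function.iterate_succ_apply, ← ih, ← huv, pow_succ]; group
  have zz : ρ ^ 4 * ρ ^ 4 = 1 := by rw [← pow_add, ρ8]
  have pw : ∀ n, 0 < n → n < 8 → ρ ^ n ≠ 1 := fun n a b => pow_ne_one_of_lt_orderOf a.ne' (oρ ▸ b)
  obtain ⟨hz, reg⟩ := (end_lin8 u v fun w => hp.inj (by rw [← it, ρ8]; group)).resolve_left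
    fun c => pw 4 (by norm_num) (by norm_num) (faith _ zz fun w => by rw [it, c])
  have sz : s * ρ ^ 4 = ρ ^ 4 * s := by
    rw [← mul_inv_eq_iff_eq_mul, ← conj_pow, sρ, ← pow_mul, show 3 * 4 = 8 + 4 by norm_num, pow_add,
      ρ8, one_mul]
  obtain ⟨w, w0, hw⟩ := (end_lin2 u' v' fun w => hp.inj (by
      rw [← huv', ← huv']
      calc _ = (s * s) * e w * (s * s)⁻¹ := by group
        _ = _ := by rw [ss]; group)).resolve_left fun c => by
    have h1 := faith (s * ρ ^ 4) (by rw [← sq, Commute.mul_pow sz, sq, sq, ss, zz, one_mul]) fun w => by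
      calc _ = s * (ρ ^ 4 * e w * (ρ ^ 4)⁻¹) * s⁻¹ := by group
        _ = _ := by rw [it, hz, huv', c, neg_neg]
    rw [eq_inv_of_mul_eq_one_left h1] at sρ
    refine pw 2 (by norm_num) (by norm_num) ?_
    calc _ = ρ⁻¹ * ρ ^ 3 := by group
      _ = 1 := by rw [← sρ]; group
  have og : orderOf (e w) = 3 := orderOf_eq_prime (hMel _ (hp.mem' w)) (hp.ne_one w0)
  have sg : s * e w = e w * s := mul_inv_eq_iff_eq_mul.1 (by rw [huv', hw])
  have CN := hCg _ (hp.mem' w) (hp.ne_one w0)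
  refine ⟨e w, _, s, _, _, ρ, og, oρ, ss, sρ, rfl, rfl, rfl, sg, by rw [it, hz, hp.neg],
    hcomm _ (hp.mem' w) _ (conj_mem_of_mem_normalizer (mul_mem (mul_mem ρN sN) (inv_mem ρN))
      (hp.mem' w)), fun y hy => ?_, ?_, Wong.index_ne_two fun c => ?_⟩
  · obtain ⟨n, -, hn⟩ := (isSylowIn_top M).exists_le_conj (pg3 hy) le_top
    obtain ⟨w', hw'⟩ := (hp.mem _).1 (mem_conj_smul_iff.1 (hn (mem_zpowers y)))
    obtain ⟨i, -, hi⟩ := (reg w w0).2 w' (by
      rintro rfl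
      rw [hp.zero] at hw'
      exact ne_one_of hy (by simpa [mul_assoc] using congrArg (fun z => n * z * n⁻¹) hw'.symm))
    exact isConj_iff.2 ⟨n * ρ ^ i, by
      calc _ = n * (ρ ^ i * e w * (ρ ^ i)⁻¹) * n⁻¹ := by group
        _ = y := by rw [it, hi, hw']; group⟩
  · have d1 : 9 ∣ Nat.card 𝐂[e w] := hM9 ▸ card_dvd_of_le fun m hm =>
      mem_cent1.2 (hcomm _ (hp.mem' w) _ hm)
    have d2 : 2 ∣ Nat.card 𝐂[e w] := os ▸ orderOf_dvd_card_of_mem (mem_cent1.2 sg.symm)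
    have b : 𝐂[e w] ⊓ zpowers ρ = ⊥ := eq_bot_iff.2 fun x hx => by
      obtain ⟨i, hi, rfl⟩ := Finset.mem_image.1 (mem_zpowers_iff_mem_range_orderOf.1 hx.2)
      rw [(reg w w0).1 i (oρ ▸ Finset.mem_range.1 hi) (hp.inj (by
        rw [← it, ← mem_cent1.1 hx.1, mul_inv_cancel_right])), pow_zero]
      exact one_mem _
    have c1 := card_inf_mul_relIndex 𝐂[e w] (zpowers ρ)
    rw [b, card_bot, one_mul, Nat.card_zpowers, oρ] at c1
    have c2 := card_mul_relIndex CN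
    rw [cN] at c2
    have c3 := relIndex_le_of_le_right (H := 𝐂[e w]) (zpowers_le.2 ρN) (by
      rintro c; rw [c] at c2; omega)
    have c4 : 0 < Nat.card 𝐂[e w] := Nat.card_pos
    have := Nat.mul_le_mul_left (Nat.card 𝐂[e w]) c3
    rw [c1, c2] at this
    omega
  · have := card_subgroup_dvd_card (M : Subgroup G)
    rw [hM9, c] at this
    omega

end Cfsg.Agent.M9
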