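import Cfsg.Agent.M9.Defs
import Cfsg.Agent.CIT.Galois

/-!
# Elements of order three acting fixed point freely on a section
-/

set_option autoImplicit false
set_option linter.unusedSectionVars false

namespace Cfsg.Agent.M9

open Subgroup Cfsg.Agent.Local Cfsg.Agent.FT Cfsg.Agent.Char Cfsg.Agent.Z6
open scoped Pointwise

universe u

variable {G : Type u} [Group G] [Finite G]

theorem conj2 {y : G} (hy : orderOf y = 3) (a : G) : y * (y * a * y⁻¹) * y⁻¹ = y⁻¹ * a * y := by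
  calc _ = (y * y) * a * (y * y)⁻¹ := by group
    _ = _ := by rw [sq_of hy, inv_inv]

theorem conj3 {y : G} (a : G) : y * (y⁻¹ * a * y) * y⁻¹ = a := by group

theorem tr_eq {y : G} (hy : orderOf y = 3) (k : G) : tr y k = (k * y) ^ 3 := by
  have h2 : y * y * (y * y) = y := by rw [sq_of hy, ← mul_inv_rev, sq_of hy, inv_inv]
  rw [tr, ← sq_of hy, pow_three']
  calc _ = k * y * k * (y * y * (y * y)) * k * y := by group
    _ = _ := by rw [h2]; group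

theorem tr_conj (n y k : G) : tr (n * y * n⁻¹) (n * k * n⁻¹) = n * tr y k * n⁻¹ := by
  unfold tr; group

theorem fix_coset {y a : G} {K : Subgroup G} (hy : orderOf y = 3) (nK : y ∈ 𝐍(K))
    (h3 : ¬ 3 ∣ Nat.card K) (ha : a⁻¹ * (y * a * y⁻¹) ∈ K) : ∃ k ∈ K, y * (a * k) = a * k * y := by
  let _ : MulAction G G := MulAction.compHom G (MulAut.conj (G := G))
  have st : ∀ x, a⁻¹ * x ∈ K → a⁻¹ * (y * x * y⁻¹) ∈ K := fun x hx => by
    have := mul_mem ha (conj_mem_of_mem_normalizer nK hx)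
    rwa [show a⁻¹ * (y * a * y⁻¹) * (y * (a⁻¹ * x) * y⁻¹) = a⁻¹ * (y * x * y⁻¹) by group] at this
  obtain ⟨x, hx, e⟩ := exists_fixed_of_isPGroup (pg3 hy) {x : G | a⁻¹ * x ∈ K} (Set.toFinite _)
    (fun b hb x hx => by
      rcases mem_zpowers_three hy hb with rfl | rfl | rfl
      · simpa using hx
      · exact st x hx
      · have := st _ (st x hx)
        rw [conj2 hy] at this
        change a⁻¹ * (y⁻¹ * x * y⁻¹⁻¹) ∈ K
        rwa [inv_inv]) (by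
      have : {x : G | a⁻¹ * x ∈ K} = (fun k => a * k) '' (K : Set G) := by
        ext x
        exact ⟨fun hx => ⟨_, hx, by simp⟩, by rintro ⟨k, hk, rfl⟩; simpa using hk⟩
      rwa [this, Set.ncard_image_of_injective _ (mul_right_injective a)])
  refine ⟨a⁻¹ * x, hx, ?_⟩
  have : y * x * y⁻¹ = x := e y (mem_zpowers y)
  rw [mul_inv_cancel_left, ← mul_inv_eq_iff_eq_mul, this]

theorem small {y : G} {R W : Subgroup G} (hy : orderOf y = 3) (_yR : y ∈ 𝐍(R))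
    (h3 : ¬ 3 ∣ Nat.card R) (hW : ∀ r ∈ R, ⟬y, r⟭ ∈ W) (nW : W ≤ R) {r : G} (hr : r ∈ R) :
    ∃ w ∈ W, ∃ c ∈ R, y * c = c * y ∧ r = w * c := by
  have n : y ∈ 𝐍(W) := mem_normalizer_of_conj_mem fun w hw => by
    simpa using mul_mem (hW w (nW hw)) hw
  obtain ⟨k, hk, e⟩ := fix_coset (a := r⁻¹) hy n (fun d => h3 (d.trans (card_dvd_of_le nW))) (by
    have := inv_mem (hW r hr)
    rwa [show (y * r * y⁻¹ * r⁻¹)⁻¹ = r⁻¹⁻¹ * (y * r⁻¹ * y⁻¹) by group] at this)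
  refine ⟨k, hk, (r⁻¹ * k)⁻¹, inv_mem (mul_mem (inv_mem hr) (nW hk)), ?_, by group⟩
  exact (Commute.inv_right (show Commute y _ from e)).eq

theorem transfer {s : G} (h2 : ∀ M : Subgroup G, M.index ≠ 2) (ss : s * s = 1) {T D : Subgroup G}
    (pT : IsPGroup 2 T) (hD : D ≤ T) (hc : Nat.card T = 2 * Nat.card D)
    (hN : ∀ n ∈ 𝐍(T), IsPGroup 2 ↥(T ⊔ zpowers n) → n ∈ T) : ∃ x ∈ D, IsConj s x := by
  have hS : IsSylowIn 2 T ⊤ := by
    rw [← isSylowIn_iff_normalizer, top_inf_eq]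
    refine isSylowIn_of_maximal le_normalizer pT fun Q pQ h1 h3 => le_antisymm (fun n hn => ?_) h1
    exact hN n (h3 hn) (pQ.to_le (sup_le h1 (zpowers_le.2 hn)))
  have h1 := hS.not_dvd
  rw [relIndex_top_right] at h1
  have h3 := card_mul_relIndex hD
  have p : 0 < Nat.card D := Nat.card_pos
  obtain ⟨g, hg⟩ := CIT.thompson_transfer h2 (Nat.odd_iff.2 (by omega)) hD
    (Nat.eq_of_mul_eq_mul_left p (by rw [h3, hc, mul_comm])) ss
  exact ⟨_, hg, isConj_iff.2 ⟨g⁻¹, by rw [inv_inv]⟩⟩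

theorem cos_cm {L : Subgroup G} {a b : G} (ha : a ∈ 𝐍(L)) (hb : b ∈ 𝐍(L)) :
    ⟬a, b⟭ ∈ L ↔ Commute (cos L a) (cos L b) := by
  rw [Commute, SemiconjBy, ← (cos L).map_mul ha hb, ← (cos L).map_mul hb ha,
    cos_eq_iff (mul_mem ha hb) (mul_mem hb ha), mul_inv_rev, ← mul_assoc]

theorem ring_M {R : Type*} [Ring R] {Y a b a' b' : R} (two : (2 : R) = 0) (hY : Y * Y + Y + 1 = 0)
    (ha : a' * a = 1) (hb : b' * b = 1)
    (h1 : ∀ c ∈ [a, b, a * b], c * Y * (c * Y) + c * Y + 1 = 0)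
    (h2 : ∀ c ∈ [a, b, a * b], c * (Y * Y) * (c * (Y * Y)) + c * (Y * Y) + 1 = 0) :
    (b - 1) * (a - 1) = 0 := by
  have h3 : Y * Y * Y = 1 := by
    have : Y * Y * Y - 1 = (Y - 1) * (Y * Y + Y + 1) := by noncomm_ring
    rw [← sub_eq_zero, this, hY, mul_zero]
  have k : ∀ Z : R, Z * Z + Z + 1 = 0 → Z * Z * Z = 1 →
      (∀ c ∈ [a, b, a * b], c * Z * (c * Z) + c * Z + 1 = 0) →
      (b - 1) * (Z * Z) * (a - 1) + (a - 1) * (b - 1) = 0 := by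
    intro Z hZ z3 h
    have q : ∀ c c' : R, c' * c = 1 → c * Z * (c * Z) + c * Z + 1 = 0 →
        c' = 1 - Z * (c - 1) * Z := by
      intro c c' e1 e2
      have : c' - (1 - Z * (c - 1) * Z) = c' * (c * Z * (c * Z) + c * Z + 1) -
        (c' * c - 1) * (Z * c * Z + Z) - (Z * Z + Z + 1) := by noncomm_ring
      rw [← sub_eq_zero, this, e1, e2, hZ]; simp
    have e1 := q a a' ha (h a (by simp))
    have e2 := q b b' hb (h b (by simp))
    have e3 := q (a * b) (b' * a') (by rw [mul_assoc, ← mul_assoc a', ha, one_mul, hb]) (h _ (by simp))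
    rw [e1, e2] at e3
    have e4 : Z * ((b - 1) * (Z * Z) * (a - 1) + (a - 1) * (b - 1)) * Z = 0 := by
      rw [← sub_eq_zero.2 e3]; noncomm_ring
    calc _ = Z * Z * Z * ((b - 1) * (Z * Z) * (a - 1) + (a - 1) * (b - 1)) * (Z * Z * Z) := by
          rw [z3, one_mul, mul_one]
      _ = Z * Z * (Z * ((b - 1) * (Z * Z) * (a - 1) + (a - 1) * (b - 1)) * Z) * (Z * Z) := by
          noncomm_ring
      _ = 0 := by rw [e4]; simp
  have h4 : Y * Y * (Y * Y) = Y := by rw [← mul_assoc, h3, one_mul]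
  have k1 := k Y hY h3 h1
  have k2 := k (Y * Y) (by rw [h4, add_comm Y, hY]) (by rw [h4, ← mul_assoc, h3]) h2
  rw [h4] at k2
  have : (b - 1) * (a - 1) = (b - 1) * (Y * Y + Y + 1) * (a - 1) -
      ((b - 1) * (Y * Y) * (a - 1) + (a - 1) * (b - 1)) -
      ((b - 1) * Y * (a - 1) + (a - 1) * (b - 1)) + 2 * ((a - 1) * (b - 1)) := by noncomm_ring
  rw [this, hY, k1, k2, two]; simp

namespace Fp

variable {y : G} {K L : Subgroup G} (F : Fp y K L)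
include F

theorem cj {k : G} (hk : k ∈ K) : y * k * y⁻¹ ∈ K := conj_mem_of_mem_normalizer F.nK hk

theorem cj' {k : G} (hk : k ∈ K) : y⁻¹ * k * y ∈ K := inv_conj_mem_of_mem_normalizer F.nK hk

theorem ndL : ¬ 3 ∣ Nat.card L := fun d => F.ndvd (d.trans (card_dvd_of_le F.nrm.le))

theorem inv : Fp y⁻¹ K L :=
  ⟨by rw [orderOf_inv, F.ord], inv_mem F.nK, inv_mem F.nL, F.nrm, F.ndvd, fun k hk e =>
    F.fix k hk (Commute.inv_left_iff.1 e)⟩

theorem fix' {k : G} (hk : k ∈ K) (e : k⁻¹ * (y * k * y⁻¹) ∈ L) : k ∈ L := by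
  obtain ⟨l, hl, e⟩ := fix_coset F.ord F.nL F.ndL e
  exact (mul_mem_cancel_right hl).1 (F.fix _ (mul_mem hk (F.nrm.le hl)) e)

theorem sub {K' : Subgroup G} (h1 : L ≤ K') (h2 : K' ≤ K) (hn : y ∈ 𝐍(K')) : Fp y K' L :=
  ⟨F.ord, hn, F.nL, F.nrm.of_le h1 h2, fun d => F.ndvd (d.trans (card_dvd_of_le h2)),
    fun k hk => F.fix k (h2 hk)⟩

theorem up {L' : Subgroup G} (h1 : L ≤ L') (h2 : L' ⊴ K) (hn : y ∈ 𝐍(L')) : Fp y K L' :=
  ⟨F.ord, F.nK, hn, h2, F.ndvd, fun k hk e => h1 (F.fix k hk e)⟩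

theorem conj (n : G) : Fp (n * y * n⁻¹) (MulAut.conj n • K) (MulAut.conj n • L) :=
  ⟨by rw [Local.orderOf_conj', F.ord], by rw [normalizer_conj_smul]; exact conj_mem_conj_smul n F.nK,
    by rw [normalizer_conj_smul]; exact conj_mem_conj_smul n F.nL, F.nrm.conj_smul n,
    by rw [card_conj_smul]; exact F.ndvd, fun k hk e => mem_conj_smul_iff.2
      (F.fix _ (mem_conj_smul_iff.1 hk) (by
        calc _ = n⁻¹ * (n * y * n⁻¹ * k) * n := by group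
          _ = _ := by rw [e]; group))⟩

theorem quo : Fp (cos L y) (quo L K) ⊥ := by
  have n := F.nrm.norm
  refine ⟨orderOf_eq_prime (by rw [← (cos L).map_pow F.nL, cube_of F.ord, Mor.map_one]) fun e =>
    not_mem_of F.ord F.ndL ((cos_eq_one_iff F.nL).1 e), (cos L).apply_mem_normalizer F.nL F.nK,
    mem_norm_bot _, Nrm.bot _, fun d => F.ndvd (d.trans (card_quo_dvd L K)), fun k hk0 e => ?_⟩
  obtain ⟨k, hk, rfl⟩ := (mem_quo_of_le n).1 hk0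
  rw [mem_bot, cos_eq_one_iff (n hk)]
  refine F.fix' hk ((cos_eq_iff' (n hk) (n (F.cj hk))).1 ?_)
  rw [(cos L).map_conj F.nL (n hk), e, mul_inv_cancel_right]

end Fp

section bot

variable {y : G} {K : Subgroup G} (F : Fp y K ⊥)
include F

theorem Fp.sct : SCT (⟨y, mem_sup_right (mem_zpowers y)⟩ : ↥(K ⊔ zpowers y)) :=
  ⟨by rw [← F.ord, ← orderOf_coe], fun g hg => by
    obtain ⟨k, hk, a, ⟨n, rfl⟩, e⟩ := (mem_sup_of_right_le_normalizer (zpowers_le.2 F.nK)).1 g.2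
    have e1 : g.1 * y = y * g.1 := congrArg Subtype.val hg
    have : k = 1 := F.fix k hk (by
      rw [← e] at e1
      calc _ = y * (k * y ^ n) * (y ^ n)⁻¹ := by group
        _ = _ := by beta_reduce at e1; rw [← e1]; group)
    exact ⟨n, Subtype.ext (by simpa [this] using e)⟩⟩

theorem Fp.inv3 : Inv3 (⟨y, mem_sup_right (mem_zpowers y)⟩ : ↥(K ⊔ zpowers y))
    (K.subgroupOf _) :=
  ⟨mem_normalizer_of_conj_mem fun n hn => conj_mem_of_mem_normalizer (n := n.1) F.nK hn,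
    by rw [Nat.card_congr (subgroupOfEquivOfLe le_sup_left).toEquiv]; exact F.ndvd⟩

theorem Fp.prod0 {k : G} (hk : k ∈ K) : tr y k = 1 :=
  congrArg Subtype.val (F.inv3.prod_conj F.sct (k := ⟨k, mem_sup_left hk⟩) hk)

theorem Fp.cc0 {a b : G} (ha : a ∈ K) (hb : b ∈ K) (h : Commute a b) : Commute a (y * b * y⁻¹) :=
  congrArg Subtype.val (F.inv3.commute_conj F.sct (a := ⟨a, mem_sup_left ha⟩)
    (b := ⟨b, mem_sup_left hb⟩) ha hb (Subtype.ext h.eq)).eq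

theorem Fp.cc0' {a b k : G} (ha : a ∈ K) (hb : b ∈ K) (hk : k ∈ K) (h : Commute a b) :
    Commute a (k * b * k⁻¹) :=
  congrArg Subtype.val (F.inv3.commute_conj' F.sct (a := ⟨a, mem_sup_left ha⟩)
    (b := ⟨b, mem_sup_left hb⟩) (k := ⟨k, mem_sup_left hk⟩) ha hb hk (Subtype.ext h.eq)).eq

theorem Fp.cls0 {a b c : G} (ha : a ∈ K) (hb : b ∈ K) (hc : c ∈ K) : Commute c ⟬a, b⟭ :=
  congrArg Subtype.val (F.inv3.class_two F.sct (a := ⟨b, mem_sup_left hb⟩)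
    (k := ⟨a, mem_sup_left ha⟩) (l := ⟨c, mem_sup_left hc⟩) hb ha hc).eq

theorem Fp.nil0 : Group.IsNilpotent K :=
  isNilpotent_of_fpf F.nK (F.ord ▸ Nat.prime_three) fun a ha e => mem_bot.1 (F.fix a ha e)

theorem Fp.mul0 {k : G} (hk : k ∈ K) : Fp (k * y) K ⊥ := by
  have o := F.inv3.orderOf_mul F.sct (k := ⟨k, mem_sup_left hk⟩) hk
  have s := F.sct.of_orderOf o
  refine ⟨by rw [← orderOf_coe] at o; exact o, mul_mem (le_normalizer hk) F.nK, mem_norm_bot _,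
    F.nrm, F.ndvd, fun a ha e => ?_⟩
  exact congrArg Subtype.val (s.fpf F.inv3.ndvd (a := ⟨a, mem_sup_left ha⟩) ha (Subtype.ext e))

theorem Fp.kap0 {a b : G} (ha : a ∈ K) (hb : b ∈ K) :
    ⟬a, y * b * y⁻¹⟭ = y⁻¹ * ⟬a, b⟭ * y := by
  have o := F.ord
  have c := fun a b c (ha : a ∈ K) (hb : b ∈ K) (hc : c ∈ K) => (F.cls0 ha hb hc).eq
  have bl : ∀ a b d, a ∈ K → b ∈ K → d ∈ K → ⟬a * b, d⟭ = ⟬a, d⟭ * ⟬b, d⟭ := by
    intro a b d ha hb hd
    calc _ = a * ⟬b, d⟭ * a⁻¹ * ⟬a, d⟭ := by group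
      _ = ⟬b, d⟭ * ⟬a, d⟭ := by rw [c b d a hb hd ha]; group
      _ = _ := c a d _ ha hd (by
        exact mul_mem (mul_mem (mul_mem hb hd) (inv_mem hb)) (inv_mem hd))
  have br : ∀ a b d, a ∈ K → b ∈ K → d ∈ K → ⟬d, a * b⟭ = ⟬d, a⟭ * ⟬d, b⟭ := by
    intro a b d ha hb hd
    calc _ = ⟬d, a⟭ * (a * ⟬d, b⟭ * a⁻¹) := by group
      _ = _ := by rw [c d b a hd hb ha]; group
  have z : ∀ a ∈ K, ⟬a, y * a * y⁻¹⟭ = 1 := fun a ha => by
    rw [(F.cc0 ha ha (Commute.refl a)).eq]; group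
  have s : ∀ a b, a ∈ K → b ∈ K → ⟬a, y * b * y⁻¹⟭ = ⟬y * a * y⁻¹, b⟭ := by
    intro a b ha hb
    have := z _ (mul_mem ha hb)
    rw [show y * (a * b) * y⁻¹ = y * a * y⁻¹ * (y * b * y⁻¹) by group,
      bl _ _ _ ha hb (mul_mem (F.cj ha) (F.cj hb)), br _ _ _ (F.cj ha) (F.cj hb) ha,
      br _ _ _ (F.cj ha) (F.cj hb) hb, z a ha, z b hb, one_mul, mul_one] at this
    rw [eq_inv_of_mul_eq_one_left this]; group
  have h1 := s (y⁻¹ * a * y) (y * b * y⁻¹) (F.cj' ha) (F.cj hb)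
  rw [conj2 o, conj3] at h1
  rw [← h1]; group

theorem Fp.triv0 {w d : G} (ww : w * w = 1) (e : w * y * w⁻¹ = y⁻¹) (hd : d ∈ K)
    (h1 : Commute w d) (h2 : Commute w (y * d * y⁻¹)) : d = 1 := by
  have c2 : Commute (y⁻¹ * w * y) d := by
    calc _ = y⁻¹ * (w * (y * d * y⁻¹)) * y := by group
      _ = _ := by rw [h2.eq]; group
  have c3 : y⁻¹ * w * y * w = y := by
    calc _ = y⁻¹ * (w * y * w⁻¹) * (w * w) := by group
      _ = (y * y)⁻¹ := by rw [e, ww]; group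
      _ = y := by rw [sq_of F.ord, inv_inv]
  exact F.fix d hd (c3 ▸ (c2.mul_left h1).eq)

theorem Fp.lower0 {t : G} (h2 : t * t = 1) (e : t * y * t⁻¹ = y⁻¹) (htn : t ∈ 𝐍(K)) :
    Nat.card K ≤ Nat.card ↥(K ⊓ 𝐂[t]) * Nat.card ↥(K ⊓ 𝐂[t]) := by
  classical
  have := Fintype.ofFinite G
  set A : Finset G := {y | ConjIn K t y}.toFinset
  have hA : ∀ a ∈ A, a * a = 1 ∧ a * t⁻¹ ∈ K := fun a ha => by
    obtain ⟨k, hk, rfl⟩ := Set.mem_toFinset.1 ha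
    refine ⟨by calc _ = k * (t * t) * k⁻¹ := by group
      _ = 1 := by rw [h2]; group, ?_⟩
    simpa [mul_assoc] using mul_mem hk (conj_mem_of_mem_normalizer htn (inv_mem hk))
  have h1 : Nat.card ↥(K ⊓ 𝐂[t]) * A.card = Nat.card K := by
    rw [← Set.ncard_eq_toFinset_card', ncard_conjIn, inf_comm, card_inf_mul_relIndex]
  have hm : ∀ a ∈ A, ∀ b ∈ A, a * (y * b * y⁻¹) * y⁻¹ ∈ K := fun a ha b hb => by
    have := mul_mem (hA a ha).2 (conj_mem_of_mem_normalizer (mul_mem htn F.nK) (hA b hb).2)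
    have e1 : a * (y * b * y⁻¹) * y⁻¹ = a * t⁻¹ * (t * y * (b * t⁻¹) * (t * y)⁻¹) *
      ((t * y * t⁻¹) * (t * t) * (y * y)⁻¹) := by group
    rwa [e1, e, h2, sq_of F.ord, inv_inv, mul_one, inv_mul_cancel, mul_one]
  have sq' : ∀ b ∈ A, y * b * y⁻¹ * (y * b * y⁻¹) = 1 := fun b hb => by
    calc _ = y * (b * b) * y⁻¹ := by group
      _ = 1 := by rw [(hA b hb).1]; group
  have hi : ∀ a ∈ A, ∀ b ∈ A, ∀ k, a * (y * b * y⁻¹) * y⁻¹ = k →
      a * (k * y) * a⁻¹ = (k * y)⁻¹ := fun a ha b hb k e1 => by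
    rw [← e1, inv_mul_cancel_right, ← mul_assoc, (hA a ha).1, one_mul, mul_inv_rev a,
      inv_self (sq' b hb)]
  have h4 : (A ×ˢ A).card ≤ (K : Set G).toFinset.card := by
    refine Finset.card_le_card_of_injOn (fun p => p.1 * (y * p.2 * y⁻¹) * y⁻¹)
      (fun p hp => Set.mem_toFinset.2 (hm _ (Finset.mem_product.1 hp).1 _ (Finset.mem_product.1 hp).2))
      fun p hp q hq e1 => ?_
    have hp := Finset.mem_product.1 hp
    have hq := Finset.mem_product.1 hq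
    have e2 := hi _ hp.1 _ hp.2 _ rfl
    have e3 := hi _ hq.1 _ hq.2 _ e1.symm
    rw [← e3] at e2
    have m : p.1⁻¹ * q.1 ∈ K := by
      have := conj_mem_of_mem_normalizer (inv_mem htn) (mul_mem (inv_mem (hA _ hp.1).2) (hA _ hq.1).2)
      simpa [mul_assoc] using this
    have e4 : p.1⁻¹ * q.1 = 1 := (F.mul0 (hm _ hp.1 _ hp.2)).fix _ m (by
      calc _ = p.1⁻¹ * (p.1 * (p.1 * (y * p.2 * y⁻¹) * y⁻¹ * y) * p.1⁻¹) * q.1 := by group
        _ = _ := by rw [e2]; group)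
    have e5 : p.1 = q.1 := inv_mul_eq_one.1 e4
    beta_reduce at e1
    rw [e5] at e1
    exact Prod.ext e5 (by simpa using e1)
  rw [Finset.card_product, ← Nat.card_eq_card_toFinset (K : Set G)] at h4
  have p : 0 < Nat.card K := Nat.card_pos
  refine Nat.le_of_mul_le_mul_left ?_ p
  change _ ≤ Nat.card K at h4
  calc _ = Nat.card ↥(K ⊓ 𝐂[t]) * Nat.card ↥(K ⊓ 𝐂[t]) * (A.card * A.card) := by rw [← h1]; ring
    _ ≤ _ * Nat.card K := Nat.mul_le_mul_left _ h4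
    _ = _ := by ring

theorem Fp.fact0 {w k : G} (ww : w * w = 1) (e : w * y * w⁻¹ = y⁻¹) (wK : w ∈ 𝐍(K)) (hk : k ∈ K) :
    ∃ d ∈ K, ∃ d' ∈ K, Commute w d ∧ Commute w d' ∧ k = d * (y * d' * y⁻¹) := by
  let f : ↥(K ⊓ 𝐂[w]) × ↥(K ⊓ 𝐂[w]) → K := fun p => ⟨p.1 * (y * p.2 * y⁻¹), mul_mem p.1.2.1 (F.cj p.2.2.1)⟩
  have inj : Function.Injective f := by
    rintro ⟨a, b⟩ ⟨c, d⟩ e1
    have e2 : a.1 * (y * b * y⁻¹) = c * (y * d * y⁻¹) := congrArg Subtype.val e1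
    have e3 : y * (b.1 * d.1⁻¹) * y⁻¹ = a.1⁻¹ * c := by
      calc _ = a.1⁻¹ * (a * (y * b * y⁻¹)) * (y * d * y⁻¹)⁻¹ := by group
        _ = _ := by rw [e2]; group
    have e4 := F.triv0 ww e (mul_mem b.2.1 (inv_mem d.2.1)) (mem_cent1.1 (b * d⁻¹).2.2)
      (e3 ▸ mem_cent1.1 (a⁻¹ * c).2.2)
    rw [e4] at e3
    exact Prod.ext (Subtype.ext (inv_mul_eq_one.1 (by rw [← e3]; group)))
      (Subtype.ext (mul_inv_eq_one.1 e4))
  have := (Nat.bijective_iff_injective_and_card f).2 ⟨inj, le_antisymm (Nat.card_le_card_of_injective f inj)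
    (by rw [Nat.card_prod]; exact F.lower0 ww e wK)⟩
  obtain ⟨⟨a, b⟩, e1⟩ := this.2 ⟨k, hk⟩
  exact ⟨a, a.2.1, b, b.2.1, mem_cent1.1 a.2.2, mem_cent1.1 b.2.2, (congrArg Subtype.val e1).symm⟩

end bot

namespace Fp

variable {y : G} {K L : Subgroup G} (F : Fp y K L)
include F

theorem mq {k : G} (hk : k ∈ K) : cos L k ∈ FT.quo L K := cos_mem_quo (F.nrm.norm hk) hk

theorem cm_mem {a b : G} (ha : a ∈ K) (hb : b ∈ K) : ⟬a, b⟭ ∈ K :=
  mul_mem (mul_mem (mul_mem ha hb) (inv_mem ha)) (inv_mem hb)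

theorem cos_cm' {a b : G} (ha : a ∈ K) (hb : b ∈ K) : cos L ⟬a, b⟭ = ⟬cos L a, cos L b⟭ :=
  (cos L).map_commutator (F.nrm.norm ha) (F.nrm.norm hb)

theorem cos_cj {b : G} (hb : b ∈ K) : cos L (y * b * y⁻¹) = cos L y * cos L b * (cos L y)⁻¹ :=
  (cos L).map_conj F.nL (F.nrm.norm hb)

theorem cos_cj' {b : G} (hb : b ∈ K) : cos L (y⁻¹ * b * y) = (cos L y)⁻¹ * cos L b * cos L y := by
  rw [(cos L).map_mul (mul_mem (inv_mem F.nL) (F.nrm.norm hb)) F.nL,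
    (cos L).map_mul (inv_mem F.nL) (F.nrm.norm hb), (cos L).map_inv F.nL]

theorem tr_mem {k : G} (hk : k ∈ K) : tr y k ∈ K := mul_mem (mul_mem hk (F.cj hk)) (F.cj' hk)

theorem prod {k : G} (hk : k ∈ K) : tr y k ∈ L := by
  have n := F.nrm.norm
  rw [← cos_eq_one_iff (n (F.tr_mem hk)), ← F.quo.prod0 (F.mq hk), tr,
    (cos L).map_mul (n (mul_mem hk (F.cj hk))) (n (F.cj' hk)), (cos L).map_mul (n hk) (n (F.cj hk)),
    F.cos_cj hk, F.cos_cj' hk, tr]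

theorem cc {a b : G} (ha : a ∈ K) (hb : b ∈ K) (h : ⟬a, b⟭ ∈ L) : ⟬a, y * b * y⁻¹⟭ ∈ L := by
  have n := F.nrm.norm
  rw [cos_cm (n ha) (n (F.cj hb)), F.cos_cj hb]
  exact F.quo.cc0 (F.mq ha) (F.mq hb) ((cos_cm (n ha) (n hb)).1 h)

theorem cc' {a b k : G} (ha : a ∈ K) (hb : b ∈ K) (hk : k ∈ K) (h : ⟬a, b⟭ ∈ L) :
    ⟬a, k * b * k⁻¹⟭ ∈ L := by
  have n := F.nrm.norm
  rw [cos_cm (n ha) (n (mul_mem (mul_mem hk hb) (inv_mem hk))), (cos L).map_conj (n hk) (n hb)]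
  exact F.quo.cc0' (F.mq ha) (F.mq hb) (F.mq hk) ((cos_cm (n ha) (n hb)).1 h)

theorem cls {a b c : G} (ha : a ∈ K) (hb : b ∈ K) (hc : c ∈ K) : ⟬⟬a, b⟭, c⟭ ∈ L := by
  have n := F.nrm.norm
  rw [cos_cm (n (F.cm_mem ha hb)) (n hc), F.cos_cm' ha hb]
  exact (F.quo.cls0 (F.mq ha) (F.mq hb) (F.mq hc)).symm

theorem kap {a b : G} (ha : a ∈ K) (hb : b ∈ K) :
    ⟬a, y * b * y⁻¹⟭ * (y⁻¹ * ⟬a, b⟭ * y)⁻¹ ∈ L := by
  have n := F.nrm.norm
  rw [← cos_eq_iff (n (F.cm_mem ha (F.cj hb))) (n (F.cj' (F.cm_mem ha hb))), F.cos_cm' ha (F.cj hb),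
    F.cos_cj' (F.cm_mem ha hb), F.cos_cm' ha hb, F.cos_cj hb]
  exact F.quo.kap0 (F.mq ha) (F.mq hb)

theorem modEq : L.relIndex K % 3 = 1 := by
  have := F.quo.inv3.modEq F.quo.sct
  rwa [Nat.card_congr (subgroupOfEquivOfLe le_sup_left).toEquiv, card_quo F.nrm.norm] at this

theorem nil : Group.IsNilpotent (FT.quo L K) := F.quo.nil0

theorem mul {k : G} (hk : k ∈ K) {a : G} (ha : a ∈ K) (e : ⟬k * y, a⟭ ∈ L) : a ∈ L := by
  have n := F.nrm.norm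
  rw [cos_cm (mul_mem (n hk) F.nL) (n ha), (cos L).map_mul (n hk) F.nL] at e
  exact (cos_eq_one_iff (n ha)).1 ((F.quo.mul0 (F.mq hk)).fix _ (F.mq ha) e)

/-- The centraliser of `a` modulo `L`. -/
theorem exists_cent {a : G} (ha : a ∈ 𝐍(L)) :
    ∃ D : Subgroup G, L ≤ D ∧ D ≤ K ∧ ∀ d ∈ K, d ∈ D ↔ ⟬a, d⟭ ∈ L := by
  have n := F.nrm.norm
  refine ⟨K ⊓ coquo L 𝐂[cos L a], le_inf F.nrm.le (le_coquo _), inf_le_left, fun d hd => ?_⟩
  rw [cos_cm ha (n hd), mem_inf, mem_coquo, mem_cent1]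
  exact ⟨fun h => h.2.2, fun h => ⟨hd, n hd, h⟩⟩

theorem idx2 {a : G} {D : Subgroup G} (ha : a ∈ K) (hD : D ≤ K) (hc : Nat.card K ≤ 2 * Nat.card D)
    (h : ∀ d ∈ D, ⟬a, d⟭ ∈ L) : ∀ k ∈ K, ⟬a, k⟭ ∈ L := by
  obtain ⟨E, h1, h2, h3⟩ := F.exists_cent (F.nrm.norm ha)
  have m1 := F.modEq
  have m2 := (F.sub h1 h2 (mem_normalizer_of_conj_mem fun e he =>
    (h3 _ (F.cj (h2 he))).2 (F.cc ha (h2 he) ((h3 e (h2 he)).1 he)))).modEq
  have c1 : Nat.card D ≤ Nat.card E := card_le_of_le fun d hd => (h3 d (hD hd)).2 (h d hd)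
  have c2 := card_mul_relIndex h2
  have c3 := relIndex_mul_relIndex L E K h1 h2
  have p : 0 < Nat.card E := Nat.card_pos
  have c4 : E.relIndex K ≤ 2 := Nat.le_of_mul_le_mul_left (by rw [c2]; omega) p
  have c5 : E.relIndex K = 1 := by
    generalize E.relIndex K = i at *
    interval_cases i <;> omega
  exact fun k hk => (h3 k hk).1 (relIndex_eq_one.1 c5 hk)

theorem cos_w {w : G} (ww : w * w = 1) (e : w * y * w⁻¹ = y⁻¹) (wL : w ∈ 𝐍(L)) :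
    cos L w * cos L w = 1 ∧ cos L w * cos L y * (cos L w)⁻¹ = (cos L y)⁻¹ :=
  ⟨by rw [← (cos L).map_mul wL wL, ww, Mor.map_one],
    by rw [← (cos L).map_conj wL F.nL, e, (cos L).map_inv F.nL]⟩

theorem triv {w d : G} (ww : w * w = 1) (e : w * y * w⁻¹ = y⁻¹) (wL : w ∈ 𝐍(L)) (hd : d ∈ K)
    (h1 : ⟬w, d⟭ ∈ L) (h2 : ⟬w, y * d * y⁻¹⟭ ∈ L) : d ∈ L := by
  have n := F.nrm.norm
  rw [cos_cm wL (n (F.cj hd)), F.cos_cj hd] at h2
  exact (cos_eq_one_iff (n hd)).1 (F.quo.triv0 (F.cos_w ww e wL).1 (F.cos_w ww e wL).2 (F.mq hd)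
    ((cos_cm wL (n hd)).1 h1) h2)

theorem upper {w : G} (ww : w * w = 1) (e : w * y * w⁻¹ = y⁻¹) (wL : w ∈ 𝐍(L)) {D : Subgroup G}
    (hD : D ≤ K) (h : ∀ d ∈ D, ⟬w, d⟭ ∈ L) :
    Nat.card D * Nat.card D ≤ Nat.card K * Nat.card L := by
  have h2 := card_mul_card_le (H := D) (K := MulAut.conj y⁻¹ • D) (L := K) hD
    (conj_smul_le_of_mem_normalizer (inv_mem F.nK) hD)
  rw [card_conj_smul] at h2
  refine h2.trans (Nat.mul_le_mul_left _ (card_le_of_le fun k hk => ?_))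
  refine F.triv ww e wL (hD hk.1) (h k hk.1) (h _ ?_)
  simpa using mem_conj_smul_iff.mp hk.2

theorem fact {w k : G} (ww : w * w = 1) (e : w * y * w⁻¹ = y⁻¹) (wK : w ∈ 𝐍(K)) (wL : w ∈ 𝐍(L))
    (hk : k ∈ K) : ∃ d ∈ K, ∃ d' ∈ K, ⟬w, d⟭ ∈ L ∧ ⟬w, d'⟭ ∈ L ∧ k = d * (y * d' * y⁻¹) := by
  have n := F.nrm.norm
  obtain ⟨a, ha0, b, hb0, h1, h2, h3⟩ := F.quo.fact0 (F.cos_w ww e wL).1 (F.cos_w ww e wL).2
    ((cos L).apply_mem_normalizer wL wK) (F.mq hk)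
  obtain ⟨a, ha, rfl⟩ := (mem_quo_of_le n).1 ha0
  obtain ⟨b, hb, rfl⟩ := (mem_quo_of_le n).1 hb0
  have m : k * (y * b * y⁻¹)⁻¹ ∈ K := mul_mem hk (inv_mem (F.cj hb))
  refine ⟨_, m, b, hb, ?_, (cos_cm wL (n hb)).2 h2, by group⟩
  rw [cos_cm wL (n m), (cos L).map_mul (n hk) (n (inv_mem (F.cj hb))), (cos L).map_inv (n (F.cj hb)),
    F.cos_cj hb, h3, mul_inv_cancel_right]
  exact h1

theorem lower {w : G} (ww : w * w = 1) (e : w * y * w⁻¹ = y⁻¹) (wK : w ∈ 𝐍(K)) (wL : w ∈ 𝐍(L))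
    {D : Subgroup G} (h : ∀ d ∈ K, ⟬w, d⟭ ∈ L → d ∈ D) :
    Nat.card K * Nat.card L ≤ Nat.card D * Nat.card D := by
  have n := F.nrm.norm
  have h1 := F.quo.lower0 (F.cos_w ww e wL).1 (F.cos_w ww e wL).2
    ((cos L).apply_mem_normalizer wL wK)
  have h2 : Nat.card L * Nat.card ↥(FT.quo L K ⊓ 𝐂[cos L w]) ≤ Nat.card D := by
    rw [← card_coquo]
    refine card_le_of_le fun d hd => ?_
    have hd := mem_coquo.1 hd
    exact h d (mem_of_cos_mem_quo F.nrm hd.1 hd.2.1) ((cos_cm wL hd.1).2 (mem_cent1.1 hd.2.2))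
  rw [← card_mul_card_quo F.nrm]
  calc _ ≤ Nat.card L * (Nat.card ↥(FT.quo L K ⊓ 𝐂[cos L w]) * Nat.card ↥(FT.quo L K ⊓ 𝐂[cos L w])) *
        Nat.card L := by gcongr
    _ = (Nat.card L * Nat.card ↥(FT.quo L K ⊓ 𝐂[cos L w])) *
        (Nat.card L * Nat.card ↥(FT.quo L K ⊓ 𝐂[cos L w])) := by ring
    _ ≤ _ := Nat.mul_le_mul h2 h2

theorem quo_QQ (pL : IsPGroup 2 L) : FT.quo L (QQ K) = QQ (FT.quo L K) :=
  quo_core_of_piGrp F.nrm.norm (piGrp_singleton_iff.2 pL)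

theorem le_QQ (pL : IsPGroup 2 L) : L ≤ QQ K := le_core_of_isPGroup F.nrm pL

theorem two (pL : IsPGroup 2 L) {P : Subgroup G} (hP : P ≤ K) (pP : IsPGroup 2 P) : P ≤ QQ K := by
  have := le_core_of_nil F.nil (quo_mono L hP) (piGrp_singleton_iff.2 (isPGroup_quo pP L))
  exact (quo_le_quo_iff_of_nrm (hP.trans F.nrm.norm)
    (F.nrm.of_le (F.le_QQ pL) (core_le _ _))).1 (this.trans (F.quo_QQ pL).ge)

theorem odd (pL : IsPGroup 2 L) {o x : G} (ho : o ∈ K) (h2 : ¬ 2 ∣ orderOf o) (hx : x ∈ QQ K) :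
    ⟬o, x⟭ ∈ L := by
  have n := F.nrm.norm
  have hxK := core_le _ _ hx
  have h1 : cos L x ∈ QQ (FT.quo L K) := F.quo_QQ pL ▸ cos_mem_quo (n hxK) hx
  have h3 : zpowers (cos L o) ≤ core {2}ᶜ (FT.quo L K) := le_core_of_nil F.nil
    (zpowers_le.2 (F.mq ho)) (piGrp_zpowers_iff.2 (PiElt.map
      ((piNat_compl_singleton_iff Nat.prime_two).2 h2) (cos L) (n ho)))
  rw [cos_cm (n ho) (n hxK)]
  exact core_le_cent_core_compl _ _ h1 _ (h3 (mem_zpowers _))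

theorem fpQ (pL : IsPGroup 2 L) : Fp y (QQ K) L :=
  F.sub (F.le_QQ pL) (core_le _ _) (norm_le_norm_core _ _ F.nK)

theorem lemM {V : Subgroup G} (hV : ∀ v ∈ V, v * v = 1) (yV : y ∈ 𝐍(V)) (KV : K ≤ 𝐍(V))
    (LV : L ≤ 𝐂(V)) (fV : ∀ v ∈ V, y * v = v * y → v = 1) :
    (∀ a ∈ K, ∀ v ∈ V, a * v = v * a → a * (y * v * y⁻¹) = y * v * y⁻¹ * a) ∧
      ∀ a ∈ K, ∀ b ∈ K, ∀ v ∈ V, b * ⟬a, v⟭ = ⟬a, v⟭ * b := by
  have n := F.nrm.norm
  have key : ∀ y, Fp y K L → y ∈ 𝐍(V) → (∀ v ∈ V, y * v = v * y → v = 1) → ∀ a ∈ K, ∀ v ∈ V,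
      v * (a * y * v * (a * y)⁻¹) * (a * y * (a * y * v * (a * y)⁻¹) * (a * y)⁻¹) = 1 := by
    intro y F yV fV a ha v hv
    have m := mul_mem (KV ha) yV
    have h1 := conj_mem_of_mem_normalizer m hv
    have h2 := conj_mem_of_mem_normalizer m h1
    have h3 : a * y * (a * y * (a * y * v * (a * y)⁻¹) * (a * y)⁻¹) * (a * y)⁻¹ = v := by
      have := LV (F.prod ha) v hv
      rw [tr_eq F.ord, pow_three] at this
      calc _ = a * y * (a * y * (a * y)) * v * (a * y * (a * y * (a * y)))⁻¹ := by group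
        _ = v := by rw [← this, mul_inv_cancel_right]
    set u := v * (a * y * v * (a * y)⁻¹) * (a * y * (a * y * v * (a * y)⁻¹) * (a * y)⁻¹) with hu
    have uV : u ∈ V := mul_mem (mul_mem hv h1) h2
    have h4 : a * y * u * (a * y)⁻¹ = u := by
      rw [hu, ← conj_mul, ← conj_mul, h3, comm_of_sq hV (mul_mem h1 h2) hv, mul_assoc v]
    -- `a * y` is conjugate to `y` modulo `L`
    let f : FT.quo L K → FT.quo L K := fun x => ⟨x⁻¹ * (cos L y * x * (cos L y)⁻¹),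
      mul_mem (inv_mem x.2) (F.quo.cj x.2)⟩
    have inj : Function.Injective f := fun x x' e => by
      have e1 : x.1⁻¹ * (cos L y * x * (cos L y)⁻¹) = x'.1⁻¹ * (cos L y * x' * (cos L y)⁻¹) :=
        congrArg Subtype.val e
      have : x'.1 * x.1⁻¹ = 1 := F.quo.fix _ (mul_mem x'.2 (inv_mem x.2)) (by
        calc _ = x'.1 * (x'.1⁻¹ * (cos L y * x' * (cos L y)⁻¹)) * cos L y * x.1⁻¹ := by group
          _ = _ := by rw [← e1]; group)
      exact Subtype.ext (mul_inv_eq_one.1 this).symm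
    obtain ⟨⟨x, hx0⟩, e⟩ := Finite.surjective_of_injective inj ⟨_, F.mq ha⟩
    obtain ⟨x, hx, rfl⟩ := (mem_quo_of_le n).1 hx0
    have e1 : (cos L x)⁻¹ * (cos L y * cos L x * (cos L y)⁻¹) = cos L a := congrArg Subtype.val e
    rw [← F.cos_cj hx, ← (cos L).map_inv (n hx), ← (cos L).map_mul (n (inv_mem hx)) (n (F.cj hx)),
      cos_eq_iff (n (mul_mem (inv_mem hx) (F.cj hx))) (n ha)] at e1
    have e2 := LV e1 u uV
    have e3 := fV _ (conj_mem_of_mem_normalizer (KV hx) uV) (by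
      calc _ = x * (x⁻¹ * (y * x * y⁻¹) * a⁻¹ * (a * y * u * (a * y)⁻¹)) * a * y * x⁻¹ := by group
        _ = _ := by rw [h4, ← e2]; group)
    simpa using e3
  have fV' : ∀ v ∈ V, y⁻¹ * v = v * y⁻¹ → v = 1 := fun v hv e => fV v hv (Commute.inv_left_iff.1 e)
  constructor
  · intro a ha v hv e
    have h1 := key y F yV fV a ha _ (inv_conj_mem_of_mem_normalizer yV hv)
    have h2 := key y F yV fV 1 (one_mem _) _ (inv_conj_mem_of_mem_normalizer yV hv)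
    have e1 : a * y * (y⁻¹ * v * y) * (a * y)⁻¹ = v := by
      calc _ = a * v * a⁻¹ := by group
        _ = v := by rw [e, mul_inv_cancel_right]
    rw [one_mul, conj3] at h2
    rw [e1, ← h2, mul_right_inj] at h1
    calc _ = a * y * v * (a * y)⁻¹ * a := by group
      _ = _ := by rw [h1]
  · intro a ha b hb v hv
    let _ : CommGroup V := { (inferInstance : Group V) with
      mul_comm := fun u v => Subtype.ext (comm_of_sq hV u.2 v.2) }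
    let φ : normalizer (V : Set G) →* AddMonoid.End (Additive V) :=
      { toFun := fun g => MonoidHom.toAdditive (V.normalizerMonoidHom g).toMonoidHom
        map_one' := by rw [map_one]; rfl
        map_mul' := fun g g' => by rw [map_mul]; rfl }
    have r : ∀ y (hy : y ∈ 𝐍(V)), Fp y K L → (∀ v ∈ V, y * v = v * y → v = 1) → ∀ a (ha : a ∈ K),
        φ ⟨a, KV ha⟩ * φ ⟨y, hy⟩ * (φ ⟨a, KV ha⟩ * φ ⟨y, hy⟩) + φ ⟨a, KV ha⟩ * φ ⟨y, hy⟩ + 1 = 0 := by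
      intro y hy F fV a ha
      rw [← map_mul]
      ext z
      rw [add_comm, add_comm (_ * _), ← add_assoc]
      exact key y F hy fV a ha _ z.toMul.2
    have hY : φ ⟨y, yV⟩ * φ ⟨y, yV⟩ = φ ⟨y⁻¹, inv_mem yV⟩ := by
      rw [← map_mul]; congr 1; exact Subtype.ext (sq_of F.ord)
    have mm : φ ⟨a, KV ha⟩ * φ ⟨b, KV hb⟩ = φ ⟨a * b, KV (mul_mem ha hb)⟩ := (map_mul φ _ _).symm
    have := ring_M (Y := φ ⟨y, yV⟩) (a := φ ⟨a, KV ha⟩) (b := φ ⟨b, KV hb⟩)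
      (a' := φ ⟨a, KV ha⟩⁻¹) (b' := φ ⟨b, KV hb⟩⁻¹) (by
        rw [← one_add_one_eq_two]; ext z; exact hV _ z.toMul.2)
      (by
        have := r y yV F fV 1 (one_mem _)
        rwa [show φ ⟨1, KV (one_mem _)⟩ = 1 from map_one φ, one_mul] at this) (by rw [← map_mul, inv_mul_cancel, map_one])
      (by rw [← map_mul, inv_mul_cancel, map_one])
      (by
        rw [mm]
        simp only [List.mem_cons, List.not_mem_nil, or_false, forall_eq_or_imp, forall_eq]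
        exact ⟨r y yV F fV a ha, r y yV F fV b hb, r y yV F fV _ (mul_mem ha hb)⟩)
      (by
        rw [mm, hY]
        simp only [List.mem_cons, List.not_mem_nil, or_false, forall_eq_or_imp, forall_eq]
        exact ⟨r _ _ F.inv fV' a ha, r _ _ F.inv fV' b hb, r _ _ F.inv fV' _ (mul_mem ha hb)⟩)
    have r5 := congrArg (fun f : AddMonoid.End (Additive V) =>
      ((f (Additive.ofMul ⟨v, hv⟩)).toMul : G)) this
    change (b * (a * v * a⁻¹ / v) * b⁻¹) / (a * v * a⁻¹ / v) = (1 : G) at r5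
    rwa [div_eq_one, mul_inv_eq_iff_eq_mul, div_eq_mul_inv] at r5

end Fp

end Cfsg.Agent.M9
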