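import Cfsg.Agent.M9.Base
import Cfsg.Agent.Perm2.Dihedral

/-!
# An involution whose centraliser has Sylow subgroup `2 × D8`
-/

set_option autoImplicit false
set_option linter.unusedSectionVars false

namespace Cfsg.Agent.M9

open Subgroup Cfsg.Agent.Local Cfsg.Agent.FT Cfsg.Agent.Char Cfsg.Agent.Z6
open scoped Pointwise

universe u

variable {G : Type u} [Group G] [Finite G]

/-- The model `2 × D8`. -/
abbrev PΓ := DihedralGroup 1 × DihedralGroup 4

namespace PΓ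

def σ : PΓ := (.sr 0, 1)
def α : PΓ := (1, .sr 0)
def β : PΓ := (1, .sr 1)
def ω : PΓ := (1, .r 2)

/-- The endomorphism with `σ ↦ S`, `α ↦ A`, `β ↦ B`. -/
def ev {Γ : Type*} [Group Γ] (S A B : Γ) : PΓ → Γ
  | (.r _, .r j) => (A * B) ^ j.val
  | (.r _, .sr j) => A * (A * B) ^ j.val
  | (.sr _, .r j) => S * (A * B) ^ j.val
  | (.sr _, .sr j) => S * (A * (A * B) ^ j.val)

theorem d1 : ∀ x : PΓ, x = 1 ∨ x = σ ∨ x = σ * ω ∨ x = ω ∨ ∃ y, ⟬x, y⟭ = ω := by decide

theorem d2 : ∀ x : PΓ, x.1 = 1 → x * x = 1 →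
    x = 1 ∨ x = ω ∨ ∃ y, y * α * y⁻¹ = x ∨ y * β * y⁻¹ = x := by decide

theorem d3 : ∀ x : PΓ, x * α = α * x → x * β = β * x → x = 1 ∨ x = σ ∨ x = σ * ω ∨ x = ω := by decide

theorem d4 : ∀ x : PΓ, x * x = 1 → (∀ y, x * y = y * x) ∨ x = α ∨ x = α * ω ∨ x = β ∨ x = β * ω ∨
    ∃ y, y * (σ * α) * y⁻¹ = x ∨ y * (σ * β) * y⁻¹ = x := by decide

theorem d5 : ∀ A ∈ [β, β * ω], ∀ B ∈ [α, α * ω], ∀ γ : PΓ, ev (σ * ω) A B γ = γ →
    ev (σ * ω) A B A = γ * α * γ⁻¹ → γ.1 = 1 ∧ ((∀ x : PΓ, x.1 = 1 → x * ev (σ * ω) A B x * γ ≠ 1) ∨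
      ∀ x : PΓ, x.1 = 1 → x * ev (σ * ω) A B x * (ω * γ) ≠ 1) := by decide

theorem d6 : ∀ A ∈ [β, β * ω], ∀ B ∈ [α, α * ω], ∀ x y : PΓ, y * y = 1 →
    x * ev (σ * ω) A B y * x⁻¹ = y → y = 1 ∨ y = ω := by decide

theorem d7 : ∀ A ∈ [β, β * ω], ∀ B ∈ [α, α * ω], ∀ x : PΓ, x.1 = 1 → (ev (σ * ω) A B x).1 = 1 := by
  decide

theorem d8 : ∀ A ∈ [β, β * ω], ∀ B ∈ [β, β * ω], A * B = B * A := by decide

theorem d10 : ∀ A ∈ [β, β * ω], ∀ B ∈ [α, α * ω], ev (σ * ω) A B ω = ω := by decide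

theorem d11 : ∀ γ : PΓ, ω * γ = σ * ω * (σ * γ) := by decide

theorem d9 : ∀ x : PΓ, ω * x = x * ω := by decide

end PΓ

open PΓ

theorem exists_PΓ {s a b : G} (ss : s * s = 1) (aa : a * a = 1) (bb : b * b = 1)
    (h4 : (a * b) ^ 4 = 1) (sa : s * a = a * s) (sb : s * b = b * s) :
    ∃ φ : PΓ →* G, ∀ x, φ x = ev s a b x := by
  have e : a * (a * b) * a = (a * b)⁻¹ := by
    rw [← mul_assoc, aa, one_mul, mul_inv_rev, inv_self aa, inv_self bb]
  have c : Commute s (a * b) := Commute.mul_right sa sb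
  refine ⟨MonoidHom.noncommCoprod (Perm2.dihedralHom 1 1 s (by simp) ss (by simpa using ss))
    (Perm2.dihedralHom 4 (a * b) a h4 aa e) ?_, ?_⟩
  · rintro (i | i) (j | j) <;>
      simp only [Perm2.dihedralHom_r, Perm2.dihedralHom_sr, one_pow, mul_one, Commute.one_left]
    exacts [c.pow_right _, Commute.mul_right sa (c.pow_right _)]
  · rintro ⟨i | i, j | j⟩ <;>
      simp only [MonoidHom.noncommCoprod_apply, Perm2.dihedralHom_r, Perm2.dihedralHom_sr, one_pow,
        mul_one, one_mul, ev]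

theorem ev_map {Γ Δ : Type*} [Group Γ] [Group Δ] (f : Γ →* Δ) (S A B : Γ) (x : PΓ) :
    f (ev S A B x) = ev (f S) (f A) (f B) x := by
  rcases x with ⟨i | i, j | j⟩ <;> simp [ev]

theorem pg {s a b w : G} (h2 : ∀ M : Subgroup G, M.index ≠ 2) (ss : s * s = 1) (aa : a * a = 1)
    (bb : b * b = 1) (hw : a * b * (a * b) = w) (ww : w * w = 1) (w1 : w ≠ 1) (sa : s * a = a * s)
    (sb : s * b = b * s) (syl : ¬ 32 ∣ Nat.card 𝐂[s]) (na : ¬ IsConj s a) (nb : ¬ IsConj s b)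
    (nw : ¬ IsConj s w) (ya : IsConj s (s * a)) (yb : IsConj s (s * b))
    (hr : ∀ r ∈ 𝐍(closure {s, a, b}), r * s * r⁻¹ = s * w → r * a * r⁻¹ ≠ a ∧ r * a * r⁻¹ ≠ a * w) :
    False := by
  obtain ⟨φ, hφ⟩ := exists_PΓ ss aa bb (by rw [show 4 = 2 * 2 from rfl, pow_mul, sq, sq, hw, ww]) sa sb
  have fσ : φ σ = s := by rw [hφ]; change s * (a * b) ^ 0 = s; rw [pow_zero, mul_one]
  have fα : φ α = a := by rw [hφ]; change a * (a * b) ^ 0 = a; rw [pow_zero, mul_one]
  have fβ : φ β = b := by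
    rw [hφ]; change a * (a * b) ^ 1 = b; rw [pow_one, ← mul_assoc, aa, one_mul]
  have fω : φ ω = w := by rw [hφ]; change (a * b) ^ 2 = w; rw [sq, hw]
  have s1 : s ≠ 1 := fun e => na (by simpa [e] using ya)
  have inj : Function.Injective φ := (injective_iff_map_eq_one φ).2 fun x hx => by
    rcases d1 x with e | rfl | rfl | rfl | ⟨y, e⟩
    · exact e
    · exact absurd (fσ ▸ hx) s1
    · rw [map_mul, fσ, fω, mul_eq_one_iff_eq_inv, inv_self ww] at hx
      exact absurd (hx ▸ IsConj.refl s) nw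
    · exact absurd (fω ▸ hx) w1
    · exact absurd (by rw [← fω, ← e]; simp [hx]) w1
  have hT : closure {s, a, b} = φ.range := le_antisymm ((closure_le _).2 (by
    rintro x (rfl | rfl | rfl); exacts [⟨_, fσ⟩, ⟨_, fα⟩, ⟨_, fβ⟩])) (by
    have m1 : s ∈ closure {s, a, b} := subset_closure (by simp)
    have m2 : a ∈ closure {s, a, b} := subset_closure (by simp)
    have m3 : a * b ∈ closure {s, a, b} := mul_mem m2 (subset_closure (by simp))
    rintro _ ⟨⟨i | i, j | j⟩, rfl⟩ <;> rw [hφ]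
    exacts [pow_mem m3 _, mul_mem m2 (pow_mem m3 _), mul_mem m1 (pow_mem m3 _),
      mul_mem m1 (mul_mem m2 (pow_mem m3 _))])
  rw [hT] at hr
  set T := φ.range with hT'
  have cT : Nat.card T = 16 := by
    rw [← Nat.card_congr (MonoidHom.ofInjective inj).toEquiv, Nat.card_prod, DihedralGroup.nat_card,
      DihedralGroup.nat_card]
  set D := (MonoidHom.fst _ _ : PΓ →* _).ker.map φ with hD
  have mD : ∀ {x}, x ∈ D ↔ ∃ y : PΓ, y.1 = 1 ∧ φ y = x := Iff.rfl
  have cD : Nat.card D = 8 := by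
    rw [card_map_of_injective inj, MonoidHom.ker_fst, Nat.card_congr (prodEquiv _ _).toEquiv,
      Nat.card_prod, card_bot, card_top, DihedralGroup.nat_card]
  have DT : D ≤ T := map_le_range _ _
  have cj : ∀ x y : PΓ, IsConj (φ x) (φ (y * x * y⁻¹)) := fun x y => isConj_iff.2 ⟨φ y, by simp⟩
  have sq' : ∀ {x}, IsConj s x → x * x = 1 := fun e => by
    obtain ⟨n, rfl⟩ := isConj_iff.1 e
    rw [conj_mul, ss]; group
  have nD : ∀ x ∈ D, ¬ IsConj s x := by
    rintro _ ⟨y, hy, rfl⟩ e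
    rcases d2 y hy (inj (by rw [map_mul, sq' e, map_one])) with rfl | rfl | ⟨n, rfl | rfl⟩
    · exact s1 (by simpa using e)
    · exact nw (fω ▸ e)
    · exact na (fα ▸ e.trans (cj α n).symm)
    · exact nb (fβ ▸ e.trans (cj β n).symm)
  have pT : IsPGroup 2 T := .of_card (n := 4) cT
  have Ts : T ≤ 𝐂[s] := hT ▸ (closure_le _).2 (by
    rintro x (rfl | rfl | rfl); exacts [mem_cent1.2 rfl, mem_cent1.2 sa, mem_cent1.2 sb])
  have sylX : ∀ P : Subgroup G, IsPGroup 2 P → T ≤ P → ∀ x ∈ P, s * x = x * s → x ∈ T := by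
    intro P pP hP x hx e
    obtain ⟨k, hk⟩ := exists_card_eq_pow (pP.to_le (inf_le_left : P ⊓ 𝐂[s] ≤ P))
    have h1 := card_dvd_of_le (inf_le_right : P ⊓ 𝐂[s] ≤ _)
    have h3 : k ≤ 4 := by
      by_contra h
      exact syl ((pow_dvd_pow 2 (show 5 ≤ k by omega)).trans (hk ▸ h1))
    have := eq_of_le_of_card_ge (le_inf hP Ts) (by
      rw [hk, cT]; exact Nat.pow_le_pow_right two_pos h3)
    exact this.ge ⟨hx, mem_cent1.2 e⟩
  obtain ⟨r, rN, pr, rT⟩ : ∃ r ∈ 𝐍(T), IsPGroup 2 ↥(T ⊔ zpowers r) ∧ r ∉ T := by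
    by_contra hn
    push Not at hn
    obtain ⟨x, hx, e⟩ := transfer h2 ss pT DT (by rw [cT, cD]) hn
    exact nD x hx e
  have cen : ∀ n ∈ 𝐍(T), n * s * n⁻¹ = s ∨ n * s * n⁻¹ = s * w := fun n hn => by
    obtain ⟨x, hx⟩ := conj_mem_of_mem_normalizer hn (⟨_, fσ⟩ : s ∈ T)
    have c : ∀ y, x * y = y * x := fun y => inj (by
      have := mem_cent1.1 (Ts (inv_conj_mem_of_mem_normalizer hn (⟨y, rfl⟩ : φ y ∈ T)))
      rw [map_mul, map_mul, hx]
      calc _ = n * (s * (n⁻¹ * φ y * n)) * n⁻¹ := by group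
        _ = _ := by rw [this]; group)
    have e : IsConj s (φ x) := isConj_iff.2 ⟨n, hx.symm⟩
    rcases d3 x (c _) (c _) with rfl | rfl | rfl | rfl
    · exact absurd (by simpa using e) s1
    · exact Or.inl (by rw [← hx, fσ])
    · exact Or.inr (by rw [← hx, map_mul, fσ, fω])
    · exact absurd (fω ▸ e) nw
  have rs : r * s * r⁻¹ = s * w := (cen r rN).resolve_left fun e => rT (sylX _ pr le_sup_left r
    (mem_sup_right (mem_zpowers r)) (mul_inv_eq_iff_eq_mul.1 e).symm)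
  have ab : a * b ≠ b * a := fun e => w1 (by
    rw [← hw]; nth_rw 1 [e]; rw [mul_assoc, ← mul_assoc a, aa, one_mul, bb])
  have img : ∀ x y, x * x = 1 → y ∈ T → x * y ≠ y * x → ¬ IsConj s x → x ∈ T →
      ∃ A, φ A = r * x * r⁻¹ ∧ (A ∈ [α, α * ω] ∨ A ∈ [β, β * ω]) := by
    intro x y xx hy xy n hx
    obtain ⟨A, hA⟩ := conj_mem_of_mem_normalizer rN hx
    obtain ⟨B, hB⟩ := conj_mem_of_mem_normalizer rN hy
    have e : IsConj (φ A) x := (isConj_iff.2 ⟨r, hA.symm⟩ : IsConj x _).symm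
    refine ⟨A, hA, ?_⟩
    rcases d4 A (inj (by rw [map_mul, hA, conj_mul, xx]; simp)) with c | c | c | c | c | ⟨m, rfl | rfl⟩
    · have := congrArg φ (c B)
      rw [map_mul, map_mul, hA, hB, conj_mul, conj_mul] at this
      exact absurd (by simpa using this) xy
    · simp [c]
    · simp [c]
    · simp [c]
    · simp [c]
    · exact absurd (ya.trans ((by rw [map_mul, fσ, fα] : φ (σ * α) = s * a) ▸ (cj _ m).trans e)) n
    · exact absurd (yb.trans ((by rw [map_mul, fσ, fβ] : φ (σ * β) = s * b) ▸ (cj _ m).trans e)) n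
  obtain ⟨A, hA, mA⟩ := img a b aa ⟨_, fβ⟩ ab na ⟨_, fα⟩
  obtain ⟨B, hB, mB⟩ := img b a bb ⟨_, fα⟩ ab.symm nb ⟨_, fβ⟩
  replace mA : A ∈ [β, β * ω] := mA.resolve_left fun e => by
    simp only [List.mem_cons, List.not_mem_nil, or_false] at e
    rcases e with rfl | rfl
    · exact (hr r rN rs).1 (by rw [← hA, fα])
    · exact (hr r rN rs).2 (by rw [← hA, map_mul, fα, fω])
  replace mB : B ∈ [α, α * ω] := mB.resolve_right fun e => by
    have := congrArg φ (d8 A mA B e)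
    rw [map_mul, map_mul, hA, hB, conj_mul, conj_mul] at this
    exact ab (by simpa using this)
  have key : ∀ r ∈ 𝐍(T), IsPGroup 2 ↥(T ⊔ zpowers r) → r ∉ T →
      (∀ x, φ (ev (σ * ω) A B x) = r * φ x * r⁻¹) → ∀ γ : PΓ, φ γ = r * r → γ.1 = 1 →
      (∀ x : PΓ, x.1 = 1 → x * ev (σ * ω) A B x * γ ≠ 1) → False := by
    intro r rN pr rT θ γ hγ γ1 ni
    have rD : r ∈ 𝐍(D) := mem_normalizer_of_conj_mem (by
      rintro _ ⟨y, hy, rfl⟩; exact ⟨_, d7 A mA B mB y hy, θ y⟩)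
    have r2 : r ^ 2 ∈ D := ⟨γ, γ1, by rw [hγ, sq]⟩
    have c1 := PG.card_sup_zpowers (p := 2) rN rT (DT r2)
    have c2 := PG.card_sup_zpowers (p := 2) rD (fun e => rT (DT e)) r2
    have dec : ∀ {L : Subgroup G}, r ∈ 𝐍(L) → r ^ 2 ∈ L → ∀ x ∈ L ⊔ zpowers r,
        x ∈ L ∨ ∃ y ∈ L, x = y * r := by
      intro L rL r2 x hx
      obtain ⟨y, hy, _, ⟨i, rfl⟩, rfl⟩ := (mem_sup_of_right_le_normalizer (zpowers_le.2 rL)).1 hx
      beta_reduce
      rcases Int.even_or_odd' i with ⟨k, rfl | rfl⟩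
      · left; rw [zpow_mul]; exact mul_mem hy (zpow_mem (by simpa using r2) k)
      · right
        refine ⟨y * (r ^ 2) ^ k, mul_mem hy (zpow_mem r2 k), ?_⟩
        rw [zpow_add_one, zpow_mul, mul_assoc, ← zpow_natCast]; rfl
    obtain ⟨x, hx, e⟩ := transfer h2 ss pr (sup_le_sup_right DT _) (by rw [c1, c2, cT, cD])
      fun n hn pn => by
      have m : ∀ x ∈ T, n * x * n⁻¹ ∈ T ⊔ zpowers r := fun x hx =>
        conj_mem_of_mem_normalizer hn (mem_sup_left hx)
      have cs : ∀ x ∈ T, n * s * n⁻¹ * (n * x * n⁻¹) = n * x * n⁻¹ * (n * s * n⁻¹) := fun x hx => by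
        rw [conj_mul, conj_mul, mem_cent1.1 (Ts hx)]
      have fx : ∀ x y : PΓ, φ y * φ y = 1 → φ x * r * φ y = φ y * (φ x * r) → y = 1 ∨ y = ω :=
        fun x y yy e => d6 A mA B mB x y (inj (by rw [map_mul, yy, map_one])) (inj (by
          rw [map_mul, map_mul, θ, map_inv]
          calc _ = φ x * r * φ y * (φ x * r)⁻¹ := by group
            _ = _ := by rw [e]; group))
      have sn : n * s * n⁻¹ * (n * s * n⁻¹) = 1 := by rw [conj_mul, ss]; group
      have nN : n ∈ 𝐍(T) := by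
        rcases dec rN (DT r2) _ (m s ⟨_, fσ⟩) with ⟨y, hy⟩ | ⟨_, ⟨x, rfl⟩, hx⟩
        · refine mem_normalizer_of_conj_mem fun u hu => (dec rN (DT r2) _ (m u hu)).resolve_right ?_
          rintro ⟨_, ⟨x, rfl⟩, hx⟩
          have e : IsConj s (φ y) := isConj_iff.2 ⟨n, hy.symm⟩
          rcases fx x y (by rw [hy, sn]) (by rw [hy, ← hx, cs u hu]) with rfl | rfl
          · exact s1 (by simpa using e)
          · exact nw (fω ▸ e)
        · exfalso
          have k : ∀ u ∈ T, u * u = 1 → ∃ y : PΓ, (y = 1 ∨ y = ω) ∧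
              (φ y = n * u * n⁻¹ ∨ φ y = n * (u * s) * n⁻¹) := by
            intro u hu uu
            have k1 : ∀ u ∈ T, u * u = 1 → ∀ y, φ y = n * u * n⁻¹ → y = 1 ∨ y = ω :=
              fun u hu uu y hy => fx x y (by rw [hy, conj_mul, uu]; group) (by rw [hy, ← hx, cs u hu])
            by_cases h1 : n * u * n⁻¹ ∈ T
            · obtain ⟨y, hy⟩ := h1
              exact ⟨y, k1 u hu uu y hy, Or.inl hy⟩
            · obtain ⟨y, hy⟩ := mul_mem_two le_sup_left c1 (m u hu) (m s ⟨_, fσ⟩) h1 fun e =>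
                rT ((mul_mem_cancel_left (⟨x, rfl⟩ : φ x ∈ T)).1 (hx ▸ e))
              rw [conj_mul] at hy
              refine ⟨y, k1 _ (mul_mem hu ⟨_, fσ⟩) ?_ y hy, Or.inr hy⟩
              rw [mul_assoc, ← mul_assoc s, mem_cent1.1 (Ts hu), mul_assoc, ss, mul_one, uu]
          obtain ⟨y, hy, e1⟩ := k a ⟨_, fα⟩ aa
          obtain ⟨y', -, e2⟩ := k b ⟨_, fβ⟩ bb
          have c : φ y * φ y' = φ y' * φ y := by
            rw [← map_mul, ← map_mul]
            rcases hy with rfl | rfl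
            exacts [by simp, by rw [d9]]
          have sa' : Commute a s := sa.symm
          have sb' : Commute s b := sb
          refine ab ?_
          rcases e1 with e1 | e1 <;> rcases e2 with e2 | e2 <;>
            rw [e1, e2, conj_mul, conj_mul, mul_left_inj, mul_right_inj] at c
          · exact c
          · simpa using ((show Commute a (b * s) from c).mul_right sa'.inv_right).eq
          · simpa using ((show Commute (a * s) b from c).mul_left sb'.inv_left).eq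
          · have c1 := (show Commute (a * s) (b * s) from c).mul_right
              (sa'.mul_left (Commute.refl s)).inv_right
            rw [mul_inv_cancel_right] at c1
            simpa using (c1.mul_left sb'.inv_left).eq
      have l : T ≤ T ⊔ zpowers r ⊔ zpowers n := le_sup_left.trans le_sup_left
      have mr : r ∈ T ⊔ zpowers r := mem_sup_right (mem_zpowers r)
      rcases cen n nN with e | e
      · exact mem_sup_left (sylX _ pn l n (mem_sup_right (mem_zpowers n))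
          (mul_inv_eq_iff_eq_mul.1 e).symm)
      · refine (mul_mem_cancel_left (inv_mem mr)).1 (mem_sup_left (sylX _ pn l _
          (mul_mem (inv_mem (mem_sup_left mr)) (mem_sup_right (mem_zpowers n))) ?_))
        have := θ σ
        rw [fσ, show ev (σ * ω) A B σ = σ * ω from mul_one _, map_mul, fσ, fω, ← e] at this
        calc _ = r⁻¹ * (r * s * r⁻¹) * n := by group
          _ = _ := by rw [← this]; group
    rcases dec rD r2 x hx with h | ⟨_, ⟨y, hy, rfl⟩, rfl⟩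
    · exact nD x h e
    · refine ni y hy (inj ?_)
      rw [map_mul, map_mul, θ, hγ, map_one, ← sq' e]; group
  have θ : ∀ x, φ (ev (σ * ω) A B x) = r * φ x * r⁻¹ := fun x => by
    rw [ev_map, hA, hB, map_mul, fσ, fω, ← rs, hφ]
    exact (ev_map (MulAut.conj r).toMonoidHom s a b x).symm
  have rw' : r * w * r⁻¹ = w := by
    have h1 := θ ω
    rw [d10 A mA B mB, fω] at h1
    exact h1.symm
  obtain ⟨γ, hγ⟩ := sylX _ pr le_sup_left (r * r) (mul_mem (mem_sup_right (mem_zpowers r))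
    (mem_sup_right (mem_zpowers r))) (by
      have : r * r * s * (r * r)⁻¹ = s := by
        calc _ = r * (r * s * r⁻¹) * r⁻¹ := by group
          _ = (r * s * r⁻¹) * (r * w * r⁻¹) := by rw [conj_mul, rs]
          _ = s := by rw [rs, rw', mul_assoc, ww, mul_one]
      exact (mul_inv_eq_iff_eq_mul.1 this).symm)
  obtain ⟨γ1, h⟩ := d5 A mA B mB γ (inj (by rw [θ, hγ]; group)) (inj (by
    rw [θ, hA, map_mul, map_mul, map_inv, hγ, fα]; group))
  rcases h with h | h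
  · exact key r rN pr rT θ γ hγ γ1 h
  · have sT : s ∈ T := ⟨_, fσ⟩
    refine key (r * s) (mul_mem rN (le_normalizer sT)) (pr.to_le (sup_le le_sup_left (zpowers_le.2
      (mul_mem (mem_sup_right (mem_zpowers r)) (mem_sup_left sT))))) (fun e => rT
      ((mul_mem_cancel_right sT).1 e)) (fun x => ?_) (ω * γ) ?_ (by rw [Prod.fst_mul, γ1]; rfl) h
    · rw [θ, mul_assoc r s, mem_cent1.1 (Ts ⟨x, rfl⟩)]; group
    · rw [map_mul, fω]
      calc _ = s * w * (s * φ γ) := by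
            rw [← fω, ← fσ, ← map_mul, ← map_mul, ← map_mul, ← map_mul, d11]
        _ = _ := by rw [mem_cent1.1 (Ts ⟨γ, rfl⟩), hγ, ← rs]; group

end Cfsg.Agent.M9
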